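import Groth.Agent.EtSh.IntegralNhd
import Mathlib.AlgebraicGeometry.Morphisms.Etale
import Mathlib.AlgebraicGeometry.Morphisms.Integral
import Mathlib.AlgebraicGeometry.Limits
import Mathlib.AlgebraicGeometry.Pullbacks
import Mathlib.RingTheory.Etale.Pi
import Mathlib.AlgebraicGeometry.Fiber

/-!
# Étale coverings over integral morphisms split étale locally on the base
-/

set_option autoImplicit false
set_option backward.isDefEq.respectTransparency.types false

universe u

open CategoryTheory CategoryTheory.Limits AlgebraicGeometry TensorProduct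

namespace Groth.Agent.EtSh

theorem iSup_opensRange_sigmaι' {σ : Type u} (G : σ → Scheme.{u}) :
    ⨆ a, (Sigma.ι G a).opensRange = ⊤ :=
  (sigmaOpenCover G).iSup_opensRange

theorem exists_split_nhd {W V : Scheme.{u}} (g : W ⟶ V) [IsIntegralHom g] {ι : Type*}
    {U : ι → Scheme.{u}} (h : ∀ i, U i ⟶ W) [∀ i, Etale (h i)]
    (v : V) (hh : ∀ w : W, g.base w = v → ∃ i, w ∈ Set.range (h i).base) :
    ∃ (V' : Scheme.{u}) (e : V' ⟶ V) (_ : Etale e) (_ : v ∈ Set.range e.base) (n : ℕ)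
      (O : Fin n → (pullback g e).Opens), (∀ a b, a ≠ b → Disjoint (O a) (O b)) ∧ (⨆ a, O a) = ⊤ ∧
      ∀ a, ∃ (i : ι) (k : (O a).toScheme ⟶ U i), k ≫ h i = (O a).ι ≫ pullback.fst g e := by
  classical
  obtain ⟨A, j, _, hjv, -⟩ := Scheme.exists_affine_mem_range_and_range_subset (x := v) (U := ⊤) (by simp)
  obtain ⟨v₀, rfl⟩ := hjv
  have : IsAffine (pullback g j) := isAffine_of_isAffineHom (pullback.snd g j)
  let C := Γ(pullback g j, ⊤)
  obtain ⟨φ, hφ⟩ := Spec.map_surjective ((pullback g j).isoSpec.inv ≫ pullback.snd g j)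
  let g₀ : Spec C ⟶ W := (pullback g j).isoSpec.inv ≫ pullback.fst g j
  have hint : φ.hom.IsIntegral := by
    rw [← IsIntegralHom.SpecMap_iff, hφ]
    infer_instance
  have hsq : IsPullback g₀ (Spec.map φ) g j :=
    IsPullback.of_iso_pullback ⟨by rw [hφ, Category.assoc, Category.assoc, pullback.condition]⟩
      (pullback g j).isoSpec.symm rfl hφ.symm
  have key : ∀ c : ↥((Spec.map φ).base ⁻¹' {v₀}), ∃ (i : ι) (D : CommRingCat.{u})
      (q : Spec D ⟶ Spec C) (_ : Etale q)
      (m : Spec D ⟶ U i), m ≫ h i = q ≫ g₀ ∧ (c : Spec C) ∈ Set.range q.base := fun c => by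
    obtain ⟨i, u, hu⟩ := hh (g₀.base c.1)
      ((congrArg (fun k : Spec C ⟶ V => k.base c.1) hsq.w).trans (congrArg j.base c.2))
    obtain ⟨z, hz1, hz2⟩ := Scheme.Pullback.exists_preimage_pullback (f := h i) (g := g₀) u c.1 hu
    obtain ⟨D, l, _, hl, -⟩ :=
      Scheme.exists_affine_mem_range_and_range_subset (x := z) (U := ⊤) (by simp)
    obtain ⟨d, rfl⟩ := hl
    exact ⟨i, D, l ≫ pullback.snd _ _, inferInstance, l ≫ pullback.fst _ _,
      by rw [Category.assoc, Category.assoc, pullback.condition], d, hz2⟩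
  choose i D q hq m hm hc using key
  obtain ⟨T, hT⟩ := ((Spec.map φ).isCompact_preimage_singleton v₀).elim_finite_subcover
    (fun c : ↥((Spec.map φ).base ⁻¹' {v₀}) => Set.range (q c).base)
    (fun c => (q c).isOpenMap.isOpen_range) fun c hc' => Set.mem_iUnion.2 ⟨⟨c, hc'⟩, hc ⟨c, hc'⟩⟩
  let n := T.card
  let c : ↥T → ↥((Spec.map φ).base ⁻¹' {v₀}) := fun a => a.1
  let Dk : ↥T → CommRingCat.{u} := fun a => D (c a)
  choose ψ hψ using fun a => Spec.map_surjective (q (c a))
  let _ : Algebra A C := φ.hom.toAlgebra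
  have : Algebra.IsIntegral A C := ⟨hint⟩
  let _ : ∀ a, Algebra C (Dk a) := fun a => (ψ a).hom.toAlgebra
  have : ∀ a, Algebra.Etale C (Dk a) := fun a => by
    rw [← RingHom.etale_algebraMap]
    change (ψ a).hom.Etale
    rw [← HasRingHomProperty.Spec_iff (P := @Etale), hψ]
    exact hq _
  have : Algebra.Etale C (∀ a, (Dk a : Type u)) := inferInstance
  obtain ⟨E, _, _, hE, ⟨Q, hQ, hQP⟩, ⟨σ⟩⟩ := exists_etale_nhd_section (C := C) (D := ∀ a, (Dk a : Type u))
    (show Ideal A from v₀.asIdeal) fun p hp hpv => by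
      obtain ⟨w, hw, d, hd⟩ := Set.mem_iUnion₂.1
        (hT (show (⟨p, hp⟩ : PrimeSpectrum C) ∈ (Spec.map φ).base ⁻¹' {v₀} from PrimeSpectrum.ext hpv))
      obtain ⟨a, rfl⟩ : ∃ a, c a = w := ⟨⟨w, hw⟩, rfl⟩
      rw [← hψ a] at hd
      exact ⟨d.asIdeal.comap (Pi.evalRingHom (fun a => (Dk a : Type u)) a), inferInstance,
        congrArg PrimeSpectrum.asIdeal hd⟩
  let e : Spec (.of E) ⟶ V := Spec.map (CommRingCat.ofHom (algebraMap A E)) ≫ j
  have : Etale (Spec.map (CommRingCat.ofHom (algebraMap A E))) := by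
    rw [HasRingHomProperty.Spec_iff (P := @Etale)]
    exact RingHom.etale_algebraMap.2 hE
  have hsq₂ : IsPullback (Spec.map (CommRingCat.ofHom (algebraMap C (C ⊗[A] E))) ≫ g₀)
      (Spec.map (CommRingCat.ofHom (Algebra.TensorProduct.includeRight (R := A) (A := C) (B := E)).toRingHom))
      g e :=
    (IsPullback.of_iso_pullback (f := Spec.map φ) (g := Spec.map (CommRingCat.ofHom (algebraMap A E)))
      ⟨by
        rw [← Spec.map_comp, ← Spec.map_comp]
        congr 1
        ext x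
        exact ((Algebra.TensorProduct.includeLeft (R := A) (S := A) (A := C) (B := E)).commutes x).trans
          ((Algebra.TensorProduct.includeRight (R := A) (A := C) (B := E)).commutes x).symm⟩
      (pullbackSpecIso A C E).symm (pullbackSpecIso_inv_fst' A C E)
      (pullbackSpecIso_inv_snd A C E)).paste_horiz hsq
  let Ψ : pullback g e ⟶ ∐ fun a => Spec (Dk a) :=
    hsq₂.isoPullback.inv ≫ Spec.map (CommRingCat.ofHom σ.toRingHom) ≫ inv (sigmaSpec Dk)
  have hΨ : Ψ ≫ Sigma.desc (fun a => m (c a) ≫ h (i (c a))) = pullback.fst g e := by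
    have h1 : Sigma.desc (fun a => m (c a) ≫ h (i (c a))) =
        sigmaSpec Dk ≫ Spec.map (CommRingCat.ofHom (algebraMap C (∀ a, (Dk a : Type u)))) ≫ g₀ := by
      refine Sigma.hom_ext _ _ fun a => ?_
      rw [Sigma.ι_desc, ι_sigmaSpec_assoc, ← Spec.map_comp_assoc, hm, ← hψ a]
      rfl
    rw [h1]
    simp only [Ψ, Category.assoc, IsIso.inv_hom_id_assoc]
    rw [← Spec.map_comp_assoc, ← CommRingCat.ofHom_comp]
    exact (congrArg (fun k => hsq₂.isoPullback.inv ≫ Spec.map (CommRingCat.ofHom k) ≫ g₀)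
      σ.comp_algebraMap).trans hsq₂.isoPullback_inv_fst
  refine ⟨Spec (.of E), e, inferInstance, ⟨⟨Q, hQ⟩, congrArg j.base (PrimeSpectrum.ext hQP)⟩, n,
    fun b => Ψ ⁻¹ᵁ (Sigma.ι (fun a => Spec (Dk a)) (T.equivFin.symm b)).opensRange,
    fun a b hab => by
      rw [disjoint_iff, ← Scheme.Hom.preimage_inf,
        disjoint_iff.1 (disjoint_opensRange_sigmaι _ _ _ (T.equivFin.symm.injective.ne hab)),
        Scheme.Hom.preimage_bot],
    ?_,
    fun b => ⟨i (c (T.equivFin.symm b)), IsOpenImmersion.lift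
      (Sigma.ι (fun a => Spec (Dk a)) (T.equivFin.symm b)) ((Ψ ⁻¹ᵁ _).ι ≫ Ψ) ?_ ≫ m (c (T.equivFin.symm b)), ?_⟩⟩
  · rw [← Scheme.Hom.preimage_iSup, T.equivFin.symm.iSup_comp
      (g := fun a => (Sigma.ι (fun a => Spec (Dk a)) a).opensRange),
      iSup_opensRange_sigmaι' fun a => Spec (Dk a),
      Scheme.Hom.preimage_top]
  · rintro _ ⟨z, rfl⟩
    exact z.2
  · refine (Category.assoc _ _ _).trans ((congrArg (_ ≫ ·)
      (Sigma.ι_desc (fun a => m (c a) ≫ h (i (c a))) (T.equivFin.symm b)).symm).trans ?_)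
    rw [IsOpenImmersion.lift_fac_assoc, Category.assoc, hΨ]

end Groth.Agent.EtSh
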