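import Groth.Agent.EtSh.IntegralPush
import Groth.Prelude.Def_EtCore
import Mathlib.AlgebraicGeometry.Morphisms.QuasiFinite

/-!
# Points of étale schemes over integral morphisms come from étale neighbourhoods on the base
-/

set_option autoImplicit false
set_option backward.isDefEq.respectTransparency.types false

universe u

open CategoryTheory CategoryTheory.Limits AlgebraicGeometry Opposite

namespace Groth.Agent.EtSh

variable {X Y : Scheme.{u}}

/-- fibres of integral morphisms have no specializations -/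
theorem specializes_eq_of_isIntegralHom (f : X ⟶ Y) [IsIntegralHom f] {x x' : X} (h : x ⤳ x')
    (hf : f.base x = f.base x') : x = x' := by
  obtain ⟨A, j, _, hj, -⟩ :=
    Scheme.exists_affine_mem_range_and_range_subset (x := f.base x) (U := ⊤) (by simp)
  obtain ⟨v₀, hv₀⟩ := hj
  have : IsAffine (pullback f j) := isAffine_of_isAffineHom (pullback.snd f j)
  obtain ⟨φ, hφ⟩ := Spec.map_surjective ((pullback f j).isoSpec.inv ≫ pullback.snd f j)
  let g : Spec Γ(pullback f j, ⊤) ⟶ X := (pullback f j).isoSpec.inv ≫ pullback.fst f j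
  have hint : φ.hom.IsIntegral := by
    rw [← IsIntegralHom.SpecMap_iff, hφ]
    infer_instance
  let _ := φ.hom.toAlgebra
  have : Algebra.IsIntegral A Γ(pullback f j, ⊤) := ⟨hint⟩
  have key : ∀ w : X, f.base w = f.base x → ∃ c : Spec Γ(pullback f j, ⊤), g.base c = w ∧
      (Spec.map φ).base c = v₀ := fun w hw => by
    obtain ⟨z, hz1, hz2⟩ := Scheme.Pullback.exists_preimage_pullback (f := f) (g := j) w v₀
      (hw.trans hv₀.symm)
    refine ⟨(pullback f j).isoSpec.hom.base z, ?_, ?_⟩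
    · rw [← hz1]
      exact congrArg (fun k : pullback f j ⟶ X => k.base z) (Iso.hom_inv_id_assoc _ _)
    · rw [hφ, ← hz2]
      exact congrArg (fun k : pullback f j ⟶ Spec A => k.base z) (Iso.hom_inv_id_assoc _ _)
  obtain ⟨c, hc, hcv⟩ := key x rfl
  obtain ⟨c', hc', hcv'⟩ := key x' hf.symm
  rw [← hc, ← hc'] at h
  have hle : c.asIdeal ≤ c'.asIdeal := (PrimeSpectrum.le_iff_specializes c c').2
    (g.isOpenEmbedding.toIsInducing.specializes_iff.1 h)
  rcases hle.eq_or_lt with he | hlt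
  · rw [← hc, ← hc', PrimeSpectrum.ext he]
  · exact absurd (congrArg PrimeSpectrum.asIdeal (hcv.trans hcv'.symm))
      (Ideal.IsIntegral.comap_lt_comap (R := A) hlt).ne

/-- étale morphisms are locally quasi-finite -/
theorem locallyQuasiFinite_of_etale (f : X ⟶ Y) [Etale f] : LocallyQuasiFinite f := ⟨fun {U} hU {V} hV h => by
    have h₁ := HasRingHomProperty.appLE (P := @LocallyOfFiniteType) f inferInstance ⟨U, hU⟩ ⟨V, hV⟩ h
    have h₂ := HasRingHomProperty.appLE (P := @FormallyUnramified) f inferInstance ⟨U, hU⟩ ⟨V, hV⟩ h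
    algebraize [(f.appLE U V h).hom]
    exact (inferInstance : Algebra.QuasiFinite Γ(Y, U) Γ(X, V))⟩

/-- every point of an étale `X`-scheme is hit from a clopen piece of the base change of an étale
`Y`-scheme -/
theorem exists_piece_through (f : X ⟶ Y) [IsIntegralHom f] (U : X.Etale) (u₀ : U.left) :
    ∃ (V' : Y.Etale) (O : ((EtCoh.bc f).obj V').left.Opens) (_ : IsClosed (O : Set ((EtCoh.bc f).obj V').left))
      (k : pieceObj ((EtCoh.bc f).obj V') O ⟶ U) (z : (pieceObj ((EtCoh.bc f).obj V') O).left),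
      k.left.base z = u₀ := by
  let W := (EtCoh.bc f).obj (EtCoh.top Y)
  let τ : U ⟶ W := (EtCore.bcTopIsTerminal f).from U
  let x₀ := τ.left.base u₀
  let p : W.left ⟶ Y := (pullback.fst (𝟙 Y) f : W.left ⟶ Y)
  have hp : IsIntegralHom p := isIntegralHom_prV f (EtCoh.top Y)
  have := etale_left τ
  have := locallyQuasiFinite_of_etale τ.left
  obtain ⟨O₀, hO₀, hO₀'⟩ := isDiscrete_iff_forall_mem_exists_isOpen.1
    (τ.left.isDiscrete_preimage_singleton x₀) u₀ rfl
  let R : ULift.{u} Bool → Σ W' : X.Etale, W' ⟶ W := fun b => cond b.down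
    ⟨pieceObj U ⟨O₀, hO₀⟩, pieceIncl U ⟨O₀, hO₀⟩ ≫ τ⟩
    ⟨pieceObj W ⟨(closure {x₀})ᶜ, isClosed_closure.isOpen_compl⟩, pieceIncl W _⟩
  have hu₀ : u₀ ∈ O₀ := (hO₀'.ge rfl).1
  obtain ⟨V', φ, ⟨v', hv'⟩, κ, O, hdis, hsup, hk⟩ :=
    exists_nhd_refinement f (EtCoh.top Y) (p.base x₀) R fun w hw => by
      by_cases hwx : w = x₀
      · subst hwx
        exact ⟨⟨true⟩, ⟨u₀, hu₀⟩, rfl⟩
      · refine ⟨⟨false⟩, ⟨w, fun hcl => hwx ?_⟩, rfl⟩
        exact ((@specializes_eq_of_isIntegralHom W.left Y p hp x₀ w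
          (specializes_iff_mem_closure.2 hcl) hw.symm)).symm
  obtain ⟨z, hz, -⟩ := Scheme.Pullback.exists_preimage_pullback
    (f := (pullback.fst (𝟙 Y) f : W.left ⟶ Y)) (g := φ.left) x₀ v' hv'.symm
  obtain ⟨z', hz'⟩ : ∃ z', ((EtCoh.bc f).map φ).left.base z' = x₀ := by
    refine ⟨(EtCoh.isPullback_bc_map f φ).isoPullback.inv.base z, ?_⟩
    rw [← hz]
    exact congrArg (fun k : pullback (pullback.fst (𝟙 Y) f : W.left ⟶ Y) φ.left ⟶ W.left => k.base z)
      (EtCoh.isPullback_bc_map f φ).isoPullback_inv_fst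
  obtain ⟨a, ha⟩ := TopologicalSpace.Opens.mem_iSup.1
    (hsup.ge (Set.mem_univ z' : z' ∈ (⊤ : ((EtCoh.bc f).obj V').left.Opens)))
  obtain ⟨⟨b⟩, k, hkx⟩ := hk a
  have hclosed : IsClosed (O a : Set ((EtCoh.bc f).obj V').left) := by
    rw [← isOpen_compl_iff]
    have : (O a : Set ((EtCoh.bc f).obj V').left)ᶜ = ⋃ b ∈ {b | b ≠ a}, (O b : Set _) := by
      ext y
      simp only [Set.mem_compl_iff, Set.mem_iUnion, exists_prop]
      refine ⟨fun hy => ?_, fun ⟨b, hb, hyb⟩ hy => (hdis b a hb).le_bot ⟨hyb, hy⟩⟩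
      obtain ⟨b, hb⟩ := TopologicalSpace.Opens.mem_iSup.1
        (hsup.ge (Set.mem_univ y : y ∈ (⊤ : ((EtCoh.bc f).obj V').left.Opens)))
      exact ⟨b, fun he => hy (he ▸ hb), hb⟩
    rw [this]
    exact isOpen_biUnion fun b _ => (O b).2
  have hkz : (R ⟨b⟩).2.left.base (k.left.base ⟨z', ha⟩) = x₀ :=
    (congrArg (fun q => q.left.base ⟨z', ha⟩) hkx).trans hz'
  cases b
  · exact absurd (subset_closure (show ((k.left.base ⟨z', ha⟩).1) ∈ ({x₀} : Set W.left) from hkz)) (k.left.base ⟨z', ha⟩).2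
  · refine ⟨V', O a, hclosed, k ≫ pieceIncl U ⟨O₀, hO₀⟩, ⟨z', ha⟩, ?_⟩
    exact hO₀'.le ⟨(k.left.base ⟨z', ha⟩).2, hkz⟩

/-- morphisms out of a disjoint union of open pieces -/
theorem exists_hom_of_disjoint {S T : Scheme.{u}} {κ : Type u} (O : κ → S.Opens)
    (hd : ∀ a b, a ≠ b → Disjoint (O a) (O b)) (hs : ⨆ a, O a = ⊤)
    (k : ∀ a, (O a : Scheme.{u}) ⟶ T) : ∃ h : S ⟶ T, ∀ a, (O a).ι ≫ h = k a := by
  obtain ⟨hc⟩ := nonempty_isColimit_cofanMk_of (S := S) (fun a => (O a).ι)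
    (by simpa only [Scheme.Opens.opensRange_ι] using hs)
    (fun a b hab => by
      simpa only [Function.onFun, Scheme.Opens.opensRange_ι] using hd a b hab)
  exact ⟨Cofan.IsColimit.desc hc k, fun a => Cofan.IsColimit.fac hc k a⟩

/-- if the fibre of `f` through the image of `u₀` is a single point, `u₀` is hit from the base change
of an étale `Y`-scheme -/
theorem exists_bc_through (f : X ⟶ Y) [IsIntegralHom f] (U : X.Etale) (u₀ : U.left)
    (hfib : ∀ x, f.base x = f.base (U.hom.base u₀) → x = U.hom.base u₀) :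
    ∃ (V' : Y.Etale) (k : (EtCoh.bc f).obj V' ⟶ U) (z : ((EtCoh.bc f).obj V').left),
      k.left.base z = u₀ := by
  let W := (EtCoh.bc f).obj (EtCoh.top Y)
  let τ : U ⟶ W := (EtCore.bcTopIsTerminal f).from U
  let x₀ := τ.left.base u₀
  let p : W.left ⟶ Y := (pullback.fst (𝟙 Y) f : W.left ⟶ Y)
  let q : W.left ⟶ X := (pullback.snd (𝟙 Y) f : W.left ⟶ X)
  have hpq : p = q ≫ f := (Category.comp_id _).symm.trans pullback.condition
  have : IsIso q := inferInstanceAs (IsIso (pullback.snd (𝟙 Y) f))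
  have hw : τ.left ≫ q = U.hom := τ.w.trans (Category.comp_id _)
  have hone : ∀ w, p.base w = p.base x₀ → w = x₀ := fun w hwx => q.isOpenEmbedding.injective (by
    rw [hpq] at hwx
    have e1 : q.base x₀ = U.hom.base u₀ := congrArg (fun k : U.left ⟶ X => k.base u₀) hw
    rw [e1]
    refine hfib _ (hwx.trans ?_)
    exact congrArg f.base e1)
  have := etale_left τ
  have := locallyQuasiFinite_of_etale τ.left
  obtain ⟨O₀, hO₀, hO₀'⟩ := isDiscrete_iff_forall_mem_exists_isOpen.1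
    (τ.left.isDiscrete_preimage_singleton x₀) u₀ rfl
  have hu₀ : u₀ ∈ O₀ := (hO₀'.ge rfl).1
  obtain ⟨V', φ, ⟨v', hv'⟩, κ, O, hdis, hsup, hk⟩ :=
    exists_nhd_refinement f (EtCoh.top Y) (p.base x₀)
      (fun _ : PUnit.{1} => ⟨pieceObj U ⟨O₀, hO₀⟩, pieceIncl U ⟨O₀, hO₀⟩ ≫ τ⟩) fun w hwx => by
      rw [hone w hwx]
      exact ⟨PUnit.unit, ⟨u₀, hu₀⟩, rfl⟩
  choose x k hkx using hk
  obtain ⟨h, hh⟩ := exists_hom_of_disjoint (S := ((EtCoh.bc f).obj V').left) O hdis hsup fun a =>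
    (k a).left ≫ Scheme.Opens.ι (X := U.left) ⟨O₀, hO₀⟩
  obtain ⟨z, hz, -⟩ := Scheme.Pullback.exists_preimage_pullback
    (f := (pullback.fst (𝟙 Y) f : W.left ⟶ Y)) (g := φ.left) x₀ v' hv'.symm
  obtain ⟨z', hz'⟩ : ∃ z', ((EtCoh.bc f).map φ).left.base z' = x₀ := by
    refine ⟨(EtCoh.isPullback_bc_map f φ).isoPullback.inv.base z, ?_⟩
    rw [← hz]
    exact congrArg (fun k : pullback (pullback.fst (𝟙 Y) f : W.left ⟶ Y) φ.left ⟶ W.left => k.base z)
      (EtCoh.isPullback_bc_map f φ).isoPullback_inv_fst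
  have hover : h ≫ U.hom = ((EtCoh.bc f).obj V').hom := by
    refine (Scheme.openCoverOfIsOpenCover ((EtCoh.bc f).obj V').left O hsup).hom_ext _ _
      fun a => ?_
    show (O a).ι ≫ h ≫ U.hom = (O a).ι ≫ ((EtCoh.bc f).obj V').hom
    rw [← Category.assoc, hh a, Category.assoc]
    exact MorphismProperty.Over.w (k a)
  obtain ⟨a, ha⟩ := TopologicalSpace.Opens.mem_iSup.1
    (hsup.ge (Set.mem_univ z' : z' ∈ (⊤ : ((EtCoh.bc f).obj V').left.Opens)))
  refine ⟨V', MorphismProperty.Over.homMk h hover, z', ?_⟩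
  show h.base z' = u₀
  have hkz : τ.left.base ((k a).left.base ⟨z', ha⟩).1 = x₀ :=
    (congrArg (fun r => r.left.base ⟨z', ha⟩) (hkx a)).trans hz'
  refine (congrArg (fun r : (O a : Scheme.{u}) ⟶ U.left => r.base ⟨z', ha⟩) (hh a)).trans ?_
  exact hO₀'.le ⟨((k a).left.base ⟨z', ha⟩).2, hkz⟩

end Groth.Agent.EtSh
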