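import Groth.Agent.EtSh.Supp

/-!
# Isomorphisms of sheaves are detected at one geometric point over each point
-/

set_option autoImplicit false
set_option backward.isDefEq.respectTransparency.types false

universe u

open CategoryTheory CategoryTheory.Limits AlgebraicGeometry Opposite

namespace Groth.Agent.EtSh

variable {X : Scheme.{u}}

theorem epi_of_stalk_exists {F G : EtCoh.Ab X} (α : F ⟶ G)
    (h : ∀ y : X, ∃ (Ω : Type u) (_ : Field Ω) (_ : IsSepClosed Ω) (ξ : Spec (CommRingCat.of Ω) ⟶ X),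
      ξ.base default = y ∧ Function.Surjective ((EtCoh.stalk ξ).map α)) : Epi α := by
  have : Sheaf.IsLocallySurjective α := ⟨fun {U} s => (mem_topology_iff _).2 fun x => by
    obtain ⟨Ω, _, _, ξ, hξ, hsurj⟩ := h (U.hom.base x)
    obtain ⟨t, rfl⟩ := exists_fib (ξ := ξ) x hξ.symm
    obtain ⟨p, hp⟩ := hsurj (germ ξ G t s)
    obtain ⟨V, v, r, rfl⟩ := germ_surjective F p
    rw [stalk_map_germ] at hp
    obtain ⟨⟨W, w⟩, ⟨a, ha⟩, ⟨b, hb⟩, -⟩ :=
      IsCofilteredOrEmpty.cone_objs (Functor.elementsMk (Scheme.pointSmallEtale ξ).fiber U t)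
        (Functor.elementsMk (Scheme.pointSmallEtale ξ).fiber V v)
    have e : germ ξ G w (G.obj.map a.op s) = germ ξ G w (α.hom.app (op W) (F.obj.map b.op r)) := by
      rw [germ_map, NatTrans.naturality_apply α.hom b.op r, germ_map, ha, hb, hp]
    obtain ⟨W', k, w', hk, hh⟩ := (germ_eq_iff G w _ _).1 e
    refine ⟨W', k ≫ a, w', ⟨F.obj.map k.op (F.obj.map b.op r), ?_⟩,
      (congrArg a.left.base hk).trans ((map_fpt a w).symm.trans (congrArg fpt ha))⟩
    rw [op_comp, Functor.map_comp, ConcreteCategory.comp_apply, hh,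
      ← NatTrans.naturality_apply α.hom k.op]⟩
  exact Sheaf.epi_of_isLocallySurjective α

theorem mono_of_stalk_exists {F G : EtCoh.Ab X} (α : F ⟶ G)
    (h : ∀ y : X, ∃ (Ω : Type u) (_ : Field Ω) (_ : IsSepClosed Ω) (ξ : Spec (CommRingCat.of Ω) ⟶ X),
      ξ.base default = y ∧ Function.Injective ((EtCoh.stalk ξ).map α)) : Mono α := by
  have : ∀ U, Function.Injective (α.hom.app U) := fun U s s' hs => by
    refine sect_ext F fun x => ?_
    obtain ⟨Ω, _, _, ξ, hξ, hinj⟩ := h (U.unop.hom.base x)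
    obtain ⟨t, rfl⟩ := exists_fib (ξ := ξ) x hξ.symm
    exact (germ_eq_iff F t s s').1 (hinj (by
      rw [stalk_map_germ, stalk_map_germ]; exact congrArg _ hs))
  have : ∀ U, Mono (α.hom.app U) := fun U => (AddCommGrpCat.mono_iff_injective _).2 (this U)
  have : ∀ U, Mono (((sheafToPresheaf X.smallEtaleTopology AddCommGrpCat).map α).app U) := this
  have : Mono ((sheafToPresheaf _ _).map α) := NatTrans.mono_of_mono_app _
  exact (sheafToPresheaf _ _).mono_of_mono_map this

/-- isomorphisms are detected at one geometric point over each point -/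
theorem isIso_of_stalk_exists {F G : EtCoh.Ab X} (α : F ⟶ G)
    (h : ∀ y : X, ∃ (Ω : Type u) (_ : Field Ω) (_ : IsSepClosed Ω) (ξ : Spec (CommRingCat.of Ω) ⟶ X),
      ξ.base default = y ∧ IsIso ((EtCoh.stalk ξ).map α)) : IsIso α := by
  have hb : ∀ y : X, ∃ (Ω : Type u) (_ : Field Ω) (_ : IsSepClosed Ω)
      (ξ : Spec (CommRingCat.of Ω) ⟶ X), ξ.base default = y ∧
        Function.Bijective ((EtCoh.stalk ξ).map α) := fun y => by
    obtain ⟨Ω, _, _, ξ, hξ, hi⟩ := h y
    exact ⟨Ω, inferInstance, inferInstance, ξ, hξ, (ConcreteCategory.isIso_iff_bijective _).1 hi⟩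
  have := mono_of_stalk_exists α fun y => by
    obtain ⟨Ω, _, _, ξ, hξ, hi⟩ := hb y
    exact ⟨Ω, inferInstance, inferInstance, ξ, hξ, hi.1⟩
  have := epi_of_stalk_exists α fun y => by
    obtain ⟨Ω, _, _, ξ, hξ, hi⟩ := hb y
    exact ⟨Ω, inferInstance, inferInstance, ξ, hξ, hi.2⟩
  exact isIso_of_mono_of_epi α

end Groth.Agent.EtSh
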