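import Groth.Agent.EtSh.FinitePush
import Groth.Agent.EtSh.StalkPts
import Groth.Agent.Weighting.GPts
import Groth.Prelude.Def_EtCore

/-!
# Base change for the direct image along a finite morphism
-/

set_option autoImplicit false
set_option backward.isDefEq.respectTransparency.types false

universe u

open CategoryTheory CategoryTheory.Limits AlgebraicGeometry Opposite

namespace Groth.Agent.EtSh

open Groth.Agent.Weighting (GPts pt)

variable {X Y X' Y' : Scheme.{u}} {f : X ⟶ Y} {g : Y' ⟶ Y} {f' : X' ⟶ Y'} {g' : X' ⟶ X}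
  (hc : IsPullback g' f' f g) {Ω : Type u} [Field Ω] [IsAlgClosed Ω]
  {η : Spec (CommRingCat.of Ω) ⟶ Y'}

theorem baseChange0_unit (F : EtCoh.Ab X) {V : Y.Etale} (r : EtCoh.sect ((EtCoh.push f).obj F) V) :
    (EtCoh.baseChange0 f g f' g' hc.w F).hom.app (op ((EtCoh.bc g).obj V))
        (((EtCoh.pullPushAdj g).unit.app ((EtCoh.push f).obj F)).hom.app (op V) r) =
      ((EtCoh.push f).map ((EtCoh.pullPushAdj g').unit.app F) ≫ (EtCoh.pushComp f g').hom.app _ ≫
        (EtCoh.pushCongr hc.w).hom.app _ ≫ (EtCoh.pushComp g f').inv.app _).hom.app (op V) r := by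
  have e : (EtCoh.pullPushAdj g).unit.app ((EtCoh.push f).obj F) ≫
      (EtCoh.push g).map (EtCoh.baseChange0 f g f' g' hc.w F) =
    (EtCoh.push f).map ((EtCoh.pullPushAdj g').unit.app F) ≫ (EtCoh.pushComp f g').hom.app _ ≫
      (EtCoh.pushCongr hc.w).hom.app _ ≫ (EtCoh.pushComp g f').inv.app _ :=
    ((EtCoh.pullPushAdj g).homEquiv_unit _ _ _).symm.trans (Equiv.apply_symm_apply _ _)
  exact congrArg (fun k : (EtCoh.push f).obj F ⟶ (EtCoh.push g).obj ((EtCoh.push f').obj
    ((EtCoh.pull g').obj F)) => k.hom.app (op V) r) e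

set_option maxHeartbeats 1600000 in
theorem pushComp_baseChange0 (F : EtCoh.Ab X) (ξ' : GPts f' η)
    (p : ↑((EtCoh.stalk (η ≫ g)).obj ((EtCoh.push f).obj F))) :
    pushComp f' ((EtCoh.pull g').obj F) ξ' ((EtCoh.stalk η).map (EtCoh.baseChange0 f g f' g' hc.w F)
        ((stalkPullIso g η).inv.app ((EtCoh.push f).obj F) p)) =
      (stalkPullIso g' ξ'.1).inv.app F (pushComp f F (GPts.pullbackEquiv hc η ξ') p) := by
  obtain ⟨V, t, r, rfl⟩ := germ_surjective _ p
  rw [stalkPullIso_inv_germ, stalk_map_germ, baseChange0_unit hc, pushComp_germ, pushComp_germ]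
  refine Eq.trans ?_ (stalkPullIso_inv_germ g' ξ'.1 F _ r).symm
  let t' := (fibBC g η).inv.app V t
  let u := ((EtCoh.pullPushAdj g').unit.app F).hom.app (op ((EtCoh.bc f).obj V)) r
  let θ₁ := (MorphismProperty.Over.pullbackComp (P := EtCoh.etaleMP) (Q := ⊤) g' f).hom.app V
  let θ₂ := (MorphismProperty.Over.pullbackCongr (P := EtCoh.etaleMP) (Q := ⊤) hc.w).inv.app V
  let θ₃ := (MorphismProperty.Over.pullbackComp (P := EtCoh.etaleMP) (Q := ⊤) f' g).inv.app V
  let F' := (EtCoh.pull g').obj F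
  show germ ξ'.1 F' (wf f' ξ' t') (F'.obj.map θ₃.op (F'.obj.map θ₂.op (F'.obj.map θ₁.op u))) = _
  refine (germ_map F' θ₃ _ _).trans ((germ_map F' θ₂ _ _).trans ((germ_map F' θ₁ _ _).trans ?_))
  refine congrArg (fun w => germ ξ'.1 F' w u) (Over.OverMorphism.ext ?_)
  have h1 : θ₁.left ≫ pullback.fst (pullback.snd V.hom f) g' ≫ pullback.fst V.hom f =
      pullback.fst V.hom (g' ≫ f) :=
    MorphismProperty.Over.pullbackComp_left_fst_fst g' f V
  have h2 : θ₂.left ≫ pullback.fst V.hom (g' ≫ f) = pullback.fst V.hom (f' ≫ g) := by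
    have := MorphismProperty.Over.pullbackCongr_hom_app_left_fst (P := EtCoh.etaleMP) (Q := ⊤) hc.w V
    rw [← this, ← Category.assoc, ← MorphismProperty.Comma.comp_left, Iso.inv_hom_id_app]
    exact Category.id_comp _
  have h3 : θ₃.left ≫ pullback.fst V.hom (f' ≫ g) =
      pullback.fst (pullback.snd V.hom g) f' ≫ pullback.fst V.hom g := by
    have := MorphismProperty.Over.pullbackComp_left_fst_fst (P := EtCoh.etaleMP) (Q := ⊤) f' g V
    rw [← this, ← Category.assoc, ← MorphismProperty.Comma.comp_left, Iso.inv_hom_id_app]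
    exact Category.id_comp _
  let a : Spec (CommRingCat.of Ω) ⟶ pullback (pullback.snd V.hom g) f' := (wf f' ξ' t').left
  have ha1 : a ≫ pullback.fst (pullback.snd V.hom g) f' = t'.left := wf_fst f' ξ' t'
  have ha2 : a ≫ pullback.snd (pullback.snd V.hom g) f' = ξ'.1 := pullback.lift_snd _ _ _
  let b : Spec (CommRingCat.of Ω) ⟶ pullback (pullback.snd V.hom f) g' :=
    ((a ≫ θ₃.left) ≫ θ₂.left) ≫ θ₁.left
  have hb2 : b ≫ pullback.snd (pullback.snd V.hom f) g' = ξ'.1 := by
    refine Eq.trans ?_ ha2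
    show (((a ≫ θ₃.left) ≫ θ₂.left) ≫ θ₁.left) ≫ _ = _
    simp only [Category.assoc]
    exact congrArg (a ≫ ·) (MorphismProperty.Over.w (θ₃ ≫ θ₂ ≫ θ₁))
  have hb1 : (b ≫ pullback.fst (pullback.snd V.hom f) g') ≫ pullback.fst V.hom f = t.left := by
    show ((((a ≫ θ₃.left) ≫ θ₂.left) ≫ θ₁.left) ≫ _) ≫ _ = _
    simp only [Category.assoc]
    refine (congrArg (fun z => a ≫ θ₃.left ≫ θ₂.left ≫ z) h1).trans ?_
    refine (congrArg (fun z => a ≫ θ₃.left ≫ z) h2).trans ?_
    refine (congrArg (fun z => a ≫ z) h3).trans ?_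
    rw [← Category.assoc, ha1]
    exact pullback.lift_fst _ _ _
  show b = pullback.lift (wf f (GPts.pullbackEquiv hc η ξ') t).left ξ'.1 _
  refine pullback.hom_ext ?_ (hb2.trans (pullback.lift_snd _ _ _).symm)
  refine Eq.trans ?_ (pullback.lift_fst _ _ _).symm
  refine pullback.hom_ext (hb1.trans (wf_fst f _ t).symm) ?_
  refine Eq.trans ?_ (pullback.lift_snd _ _ _).symm
  rw [Category.assoc, pullback.condition, ← Category.assoc, hb2]
  rfl

set_option maxHeartbeats 400000 in
theorem bijective_stalk_baseChange0 [IsFinite f] [IsFinite f'] (F : EtCoh.Ab X) :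
    Function.Bijective ((EtCoh.stalk η).map (EtCoh.baseChange0 f g f' g' hc.w F)) := by
  let e := GPts.pullbackEquiv hc η
  have hi : ∀ (ξ' : GPts f' η), Function.Bijective ((stalkPullIso g' ξ'.1).inv.app F) := fun ξ' =>
    (ConcreteCategory.isIso_iff_bijective _).1 inferInstance
  have hj : Function.Bijective ((stalkPullIso g η).inv.app ((EtCoh.push f).obj F)) :=
    (ConcreteCategory.isIso_iff_bijective _).1 inferInstance
  constructor
  · refine (injective_iff_map_eq_zero ((EtCoh.stalk η).map _).hom).2 fun q hq => ?_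
    obtain ⟨p, rfl⟩ := hj.2 q
    rw [injective_pushComp f F p fun ξ => ?_, map_zero]
    obtain ⟨ξ', rfl⟩ := e.surjective ξ
    refine (hi ξ').1 (Eq.trans ?_ (map_zero _).symm)
    exact (pushComp_baseChange0 hc F ξ' p).symm.trans (by rw [hq, map_zero])
  · intro b
    choose c hc' using fun ξ' : GPts f' η => (hi ξ').2 (pushComp f' ((EtCoh.pull g').obj F) ξ' b)
    let P : GPts f (η ≫ g) → Type _ := fun ξ => ↑((EtCoh.stalk ξ.1).obj F)
    obtain ⟨p, hp⟩ := (bijective_pushComp f F).2 fun ξ => (Equiv.piCongrLeft P e) c ξ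
    refine ⟨(stalkPullIso g η).inv.app ((EtCoh.push f).obj F) p,
      (bijective_pushComp f' ((EtCoh.pull g').obj F)).1 (funext fun ξ' => ?_)⟩
    show pushComp f' _ ξ' ((EtCoh.stalk η).map _ ((stalkPullIso g η).inv.app _ p)) = _
    rw [pushComp_baseChange0 hc F ξ' p, show pushComp f F (e ξ') p = c ξ' from
      (congrFun hp (e ξ')).trans (Equiv.piCongrLeft_apply_apply P e c ξ')]
    exact hc' ξ'

theorem isIso_baseChange0_finite [IsFinite f] (F : EtCoh.Ab X) :
    IsIso (EtCoh.baseChange0 f g f' g' hc.w F) := by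
  have : IsFinite f' := MorphismProperty.of_isPullback hc ‹_›
  refine isIso_of_stalk_exists _ fun y' => ?_
  obtain ⟨K, _, _, η, hη⟩ := Groth.Agent.Weighting.exists_geomPoint y'
  refine ⟨K, inferInstance, inferInstance, η, (congrArg η.base (Subsingleton.elim _ _)).trans hη, ?_⟩
  exact (ConcreteCategory.isIso_iff_bijective _).2 (bijective_stalk_baseChange0 hc F)

end Groth.Agent.EtSh
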