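import Groth.Agent.EtSh.Stalks
import Mathlib.CategoryTheory.Sites.Point.Comap
import Groth.Prelude.Def_EtCore

/-!
# Stalks of inverse images of étale sheaves; exactness of inverse image
-/

set_option autoImplicit false
set_option backward.isDefEq.respectTransparency.types false

universe u

open CategoryTheory CategoryTheory.Limits AlgebraicGeometry Opposite

namespace Groth.Agent.EtSh

variable {X Y : Scheme.{u}} (f : X ⟶ Y) {Ω : Type u} [Field Ω] [IsSepClosed Ω]
  (ξ : Spec (CommRingCat.of Ω) ⟶ X)

/-- liftings of a geometric point to a base change -/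
noncomputable def fibBC : EtCoh.bc f ⋙ (Scheme.pointSmallEtale ξ).fiber ≅
    (Scheme.pointSmallEtale (ξ ≫ f)).fiber :=
  NatIso.ofComponents
    (fun V => Equiv.toIso
      { toFun := fun t => Over.homMk (t.left ≫ pullback.fst V.hom f) (by
          change (t.left ≫ pullback.fst V.hom f) ≫ V.hom = ξ ≫ f
          exact ((Category.assoc _ _ _).trans (congrArg (t.left ≫ ·) pullback.condition)).trans
            ((Category.assoc _ _ _).symm.trans (congrArg (· ≫ f) (Over.w t))))
        invFun := fun t => Over.homMk (pullback.lift t.left ξ (Over.w t)) (pullback.lift_snd _ _ _)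
        left_inv := fun t => Over.OverMorphism.ext (pullback.hom_ext
          (pullback.lift_fst _ _ _) ((pullback.lift_snd _ _ _).trans (Over.w t).symm))
        right_inv := fun t => Over.OverMorphism.ext (pullback.lift_fst _ _ _) })
    (fun {V W} g => by
      ext t
      refine Over.OverMorphism.ext ?_
      change (t.left ≫ ((EtCoh.bc f).map g).left) ≫ pullback.fst W.hom f =
        (t.left ≫ pullback.fst V.hom f) ≫ g.left
      rw [Category.assoc, Category.assoc]
      exact congrArg (t.left ≫ ·) (EtCoh.isPullback_bc_map f g).w)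

theorem fibBC_hom_left {V : Y.Etale} (t : Fib ξ ((EtCoh.bc f).obj V)) :
    ((fibBC f ξ).hom.app V t).left = t.left ≫ pullback.fst V.hom f := rfl

instance initiallySmall_fibBC :
    InitiallySmall.{u} (EtCoh.bc f ⋙ (Scheme.pointSmallEtale ξ).fiber).Elements := by
  let e := fibBC f ξ
  let E : (Scheme.pointSmallEtale (ξ ≫ f)).fiber.Elements ≌
      (EtCoh.bc f ⋙ (Scheme.pointSmallEtale ξ).fiber).Elements :=
    CategoryTheory.Equivalence.mk (CategoryOfElements.map e.inv) (CategoryOfElements.map e.hom)
      (NatIso.ofComponents (fun p => CategoryOfElements.isoMk _ _ (Iso.refl _)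
          ((Functor.map_id_apply _ _ _).trans ((e.app p.1).toEquiv.apply_symm_apply p.2).symm))
        (fun k => CategoryOfElements.ext _ _ _ ((Category.comp_id _).trans (Category.id_comp _).symm)))
      (NatIso.ofComponents (fun p => CategoryOfElements.isoMk _ _ (Iso.refl _)
          ((Functor.map_id_apply _ _ _).trans ((e.app p.1).toEquiv.symm_apply_apply p.2)))
        (fun k => CategoryOfElements.ext _ _ _ ((Category.comp_id _).trans (Category.id_comp _).symm)))
  exact initiallySmall_of_initial_of_initiallySmall E.functor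

/-- the pulled back point is the image geometric point -/
noncomputable def comapPointIso :
    (Scheme.pointSmallEtale ξ).comap (EtCoh.bc f) (EtCoh.coverPreserving_bc f) ≅
      Scheme.pointSmallEtale (ξ ≫ f) where
  hom := ⟨(fibBC f ξ).inv⟩
  inv := ⟨(fibBC f ξ).hom⟩
  hom_inv_id := by ext : 1; exact (fibBC f ξ).hom_inv_id
  inv_hom_id := by ext : 1; exact (fibBC f ξ).inv_hom_id

/-- stalks of the inverse image -/
noncomputable def stalkPullIso : EtCoh.pull f ⋙ EtCoh.stalk ξ ≅ EtCoh.stalk (ξ ≫ f) :=
  ((Scheme.pointSmallEtale ξ).sheafFiberComapIso (EtCoh.bc f) (EtCoh.coverPreserving_bc f)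
      AddCommGrpCat.{u + 1}).symm ≪≫
    { hom := (comapPointIso f ξ).inv.sheafFiber
      inv := (comapPointIso f ξ).hom.sheafFiber
      hom_inv_id := by rw [← GrothendieckTopology.Point.Hom.sheafFiber_comp, Iso.hom_inv_id,
        GrothendieckTopology.Point.Hom.sheafFiber_id]
      inv_hom_id := by rw [← GrothendieckTopology.Point.Hom.sheafFiber_comp, Iso.inv_hom_id,
        GrothendieckTopology.Point.Hom.sheafFiber_id] }

theorem comap_hom_germ (F : EtCoh.Ab Y) {V : Y.Etale} (t : Fib ξ ((EtCoh.bc f).obj V)) :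
    ((Scheme.pointSmallEtale ξ).comap (EtCoh.bc f) (EtCoh.coverPreserving_bc f)).toPresheafFiber V t
        F.obj ≫ ((Scheme.pointSmallEtale ξ).sheafFiberComapIso (EtCoh.bc f)
          (EtCoh.coverPreserving_bc f) AddCommGrpCat.{u + 1}).hom.app F =
      ((EtCoh.pullPushAdj f).unit.app F).hom.app (op V) ≫ germ ξ ((EtCoh.pull f).obj F) t := by
  let Φ := Scheme.pointSmallEtale ξ
  let Ψ := Φ.comap (EtCoh.bc f) (EtCoh.coverPreserving_bc f)
  let adj := (EtCoh.pullPushAdj f).comp (Φ.skyscraperSheafAdjunction (A := AddCommGrpCat.{u + 1}))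
  have h : ((Φ.sheafFiberComapIso (EtCoh.bc f) (EtCoh.coverPreserving_bc f)
        AddCommGrpCat.{u + 1}).hom.app F) =
      (Ψ.skyscraperSheafAdjunction.homEquiv F _).symm (adj.unit.app F) := by
    rw [Equiv.eq_symm_apply, Adjunction.homEquiv_unit]
    exact (unit_conjugateEquiv_symm adj Ψ.skyscraperSheafAdjunction
      (Φ.skyscraperSheafFunctorCompSheafPushforwardContinuous (EtCoh.bc f)
        (EtCoh.coverPreserving_bc f) AddCommGrpCat.{u + 1}).hom F).symm.trans (Category.comp_id _)
  rw [h]
  erw [Ψ.skyscraperSheafAdjunction_homEquiv_symm_apply]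
  erw [Ψ.toPresheafFiber_skyscraperPresheafHomEquiv_symm]
  rw [Adjunction.comp_unit_app]
  change ((EtCoh.pullPushAdj f).unit.app F).hom.app (op V) ≫
    (Φ.skyscraperSheafAdjunction.unit.app ((EtCoh.pull f).obj F)).hom.app (op ((EtCoh.bc f).obj V)) ≫
      Pi.π _ t = _
  refine congrArg (_ ≫ ·) ?_
  rw [← Adjunction.homEquiv_id]
  erw [Φ.skyscraperSheafAdjunction_homEquiv_apply_hom]
  rw [GrothendieckTopology.Point.skyscraperPresheafHomEquiv_apply_app]
  erw [Pi.lift_π]
  exact Category.comp_id _

theorem stalkPullIso_inv_germ (F : EtCoh.Ab Y) {V : Y.Etale} (t : Fib (ξ ≫ f) V)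
    (s : EtCoh.sect F V) :
    (stalkPullIso f ξ).inv.app F (germ (ξ ≫ f) F t s) =
      germ ξ ((EtCoh.pull f).obj F) ((fibBC f ξ).inv.app V t)
        (((EtCoh.pullPushAdj f).unit.app F).hom.app (op V) s) := by
  have h2 : germ (ξ ≫ f) F t ≫ (comapPointIso f ξ).hom.sheafFiber.app F =
      ((Scheme.pointSmallEtale ξ).comap (EtCoh.bc f) (EtCoh.coverPreserving_bc f)).toPresheafFiber V
        ((fibBC f ξ).inv.app V t) F.obj := by
    simp only [GrothendieckTopology.Point.Hom.sheafFiber, Functor.whiskerLeft_app,
      GrothendieckTopology.Point.Hom.presheafFiber_app, germ]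
    exact colimit.ι_desc _ _
  have h3 := congrArg (fun k => (ConcreteCategory.hom k) s) (comap_hom_germ f ξ F ((fibBC f ξ).inv.app V t))
  have h4 := congrArg (fun k => (ConcreteCategory.hom k) s) h2
  simp only [ConcreteCategory.comp_apply] at h3 h4
  exact (congrArg (ConcreteCategory.hom (((Scheme.pointSmallEtale ξ).sheafFiberComapIso (EtCoh.bc f)
    (EtCoh.coverPreserving_bc f) AddCommGrpCat.{u + 1}).hom.app F)) h4).trans h3

omit ξ in
theorem pull_preservesMonomorphisms : (EtCoh.pull f).PreservesMonomorphisms where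
  preserves {F G} α _ := mono_of_stalk _ fun Ω _ _ ξ => (AddCommGrpCat.mono_iff_injective _).1
    (((MorphismProperty.monomorphisms _).arrow_mk_iso_iff
      (((Functor.mapArrowFunctor _ _).mapIso (stalkPullIso f ξ)).app (Arrow.mk α))).2
        ((AddCommGrpCat.mono_iff_injective _).2 (stalk_map_injective α)))

omit ξ in
theorem pull_preservesFiniteLimits : PreservesFiniteLimits (EtCoh.pull f) := by
  have := pull_preservesMonomorphisms f
  have : (EtCoh.pull f).PreservesHomology :=
    Functor.preservesHomology_of_preservesMonos_and_cokernels _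
  exact Functor.preservesFiniteLimits_of_preservesHomology _

end Groth.Agent.EtSh
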