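import Groth.Agent.EtSh.Stalks
import Groth.Prelude.Def_PBC
import Groth.Prelude.Def_EtShriek2
import Mathlib.AlgebraicGeometry.Morphisms.UniversallyOpen

/-!
# Supports of sections and of sheaves
-/

set_option autoImplicit false
set_option backward.isDefEq.respectTransparency.types false

universe u

open CategoryTheory CategoryTheory.Limits AlgebraicGeometry Opposite

namespace Groth.Agent.EtSh

variable {X : Scheme.{u}}

theorem etale_left {U V : X.Etale} (g : V ⟶ U) : Etale g.left :=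
  MorphismProperty.of_postcomp (W := EtCoh.etaleMP) (W' := EtCoh.etaleMP)
    g.left U.hom U.prop (by rw [MorphismProperty.Over.w g]; exact V.prop)

theorem isClosed_sectSupp (F : EtCoh.Ab X) (U : X.Etale) (s : EtCoh.sect F U) :
    IsClosed (EtShriek.sectSupp F U s) := by
  rw [← isOpen_compl_iff, isOpen_iff_forall_mem_open]
  intro x hx
  simp only [EtShriek.sectSupp, Set.mem_compl_iff, Set.mem_ofPred_eq, not_forall, not_not,
    exists_prop] at hx
  obtain ⟨W, g, ⟨w, hw⟩, hg⟩ := hx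
  have := etale_left g
  exact ⟨Set.range g.left.base, fun y ⟨w', hw'⟩ hy => hy W g ⟨w', hw'⟩ hg,
    g.left.isOpenMap.isOpen_range, ⟨w, hw⟩⟩

theorem germ_ne_zero_iff_mem {Ω : Type u} [Field Ω] [IsSepClosed Ω] {ξ : Spec (CommRingCat.of Ω) ⟶ X}
    (F : EtCoh.Ab X) {U : X.Etale} (t : Fib ξ U) (s : EtCoh.sect F U) :
    germ ξ F t s ≠ 0 ↔ fpt t ∈ EtShriek.sectSupp F U s := by
  rw [Ne, germ_eq_zero_iff]
  simp only [EtShriek.sectSupp, Set.mem_ofPred_eq, not_exists, not_and]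
  exact ⟨fun h W g ⟨w, hw⟩ => h W g w hw, fun h W g w hw => h W g ⟨w, hw⟩⟩

theorem not_isZero_stalk_iff {Ω : Type u} [Field Ω] [IsSepClosed Ω]
    (ξ : Spec (CommRingCat.of Ω) ⟶ X) (F : EtCoh.Ab X) :
    ¬ IsZero ((EtCoh.stalk ξ).obj F) ↔
      ∃ (U : X.Etale) (s : EtCoh.sect F U), ξ.base default ∈ U.hom.base '' EtShriek.sectSupp F U s := by
  constructor
  · intro h
    by_contra hc
    refine h (AddCommGrpCat.isZero_iff_subsingleton.2 ⟨fun p q => ?_⟩)
    suffices ∀ p, p = (0 : ↑((EtCoh.stalk ξ).obj F)) by rw [this p, this q]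
    intro p
    obtain ⟨U, t, s, rfl⟩ := germ_surjective F p
    by_contra hs
    exact hc ⟨U, s, fpt t, (germ_ne_zero_iff_mem F t s).1 hs, hom_fpt t⟩
  · rintro ⟨U, s, x, hx, hxs⟩ h
    obtain ⟨t, rfl⟩ := exists_fib (ξ := ξ) x hxs
    have := AddCommGrpCat.isZero_iff_subsingleton.1 h
    exact (germ_ne_zero_iff_mem F t s).2 hx (Subsingleton.elim _ _)

theorem supp_eq_iUnion (F : EtCoh.Ab X) :
    EtPBC.supp F = ⋃ (U : X.Etale) (σ : EtCoh.sect F U), U.hom.base '' EtShriek.sectSupp F U σ := by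
  ext x
  simp only [Set.mem_iUnion]
  constructor
  · rintro ⟨Ω, _, _, ξ, hξ, h⟩
    obtain ⟨U, s, hs⟩ := (not_isZero_stalk_iff ξ F).1 h
    rw [Set.eq_of_mem_singleton (hξ.le ⟨default, rfl⟩)] at hs
    exact ⟨U, s, hs⟩
  · rintro ⟨U, s, hs⟩
    obtain ⟨Ω, _, _, ξ, hξ⟩ := exists_geometric_point x
    refine ⟨Ω, inferInstance, inferInstance, ξ, hξ, (not_isZero_stalk_iff ξ F).2 ⟨U, s, ?_⟩⟩
    rw [Set.eq_of_mem_singleton (hξ.le ⟨default, rfl⟩)]
    exact hs

end Groth.Agent.EtSh
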