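import Groth.Prelude.Def_EtBase
import Mathlib.CategoryTheory.Sites.Point.Skyscraper
import Mathlib.Algebra.Category.Grp.AB

/-!
# Stalks of abelian étale sheaves at geometric points
-/

set_option autoImplicit false
set_option backward.isDefEq.respectTransparency.types false

universe u

open CategoryTheory CategoryTheory.Limits AlgebraicGeometry Opposite

namespace Groth.Agent.EtSh

variable {X : Scheme.{u}}

instance : PreservesFilteredColimitsOfSize.{u, u} (forget AddCommGrpCat.{u + 1}) :=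
  preservesFilteredColimitsOfSize_shrink.{u, u + 1, u, u + 1} _

theorem mem_topology_iff {U : X.Etale} (R : Sieve U) :
    R ∈ X.smallEtaleTopology U ↔
      ∀ x : U.left, ∃ (W : X.Etale) (g : W ⟶ U) (w : W.left), R g ∧ g.left.base w = x := by
  have e : X.smallEtaleTopology =
      (X.smallPretopology (P := EtCoh.etaleMP) (Q := EtCoh.etaleMP)).toGrothendieck :=
    Scheme.smallGrothendieckTopology_eq_toGrothendieck_smallPretopology X le_rfl
  rw [e]
  refine (Scheme.mem_toGrothendieck_smallPretopology U R).trans ?_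
  refine ⟨fun h x => ?_, fun h x => ?_⟩
  · obtain ⟨W, g, w, hR, -, hw⟩ := h x; exact ⟨W, g, w, hR, hw⟩
  · obtain ⟨W, g, w, hR, hw⟩ := h x
    refine ⟨W, g, w, hR, ?_, hw⟩
    exact MorphismProperty.of_postcomp (W := EtCoh.etaleMP) (W' := EtCoh.etaleMP)
      g.left U.hom U.prop (by rw [MorphismProperty.Over.w g]; exact W.prop)

theorem exists_geometric_point (s : X) :
    ∃ (Ω : Type u) (_ : Field Ω) (_ : IsSepClosed Ω) (ξ : Spec (CommRingCat.of Ω) ⟶ X),
      Set.range ξ = {s} := by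
  refine ⟨SeparableClosure (X.residueField s), inferInstance, inferInstance,
    (Scheme.SpecToEquivOfField (SeparableClosure (X.residueField s)) X).2
      ⟨s, CommRingCat.ofHom (algebraMap (X.residueField s) _)⟩, Set.ext fun t => ?_⟩
  simp [Scheme.SpecToEquivOfField, eq_comm]

section Point

variable {Ω : Type u} [Field Ω] [IsSepClosed Ω] (ξ : Spec (CommRingCat.of Ω) ⟶ X)

/-- liftings of a geometric point to an étale `X`-scheme -/
abbrev Fib (U : X.Etale) : Type u := (Scheme.pointSmallEtale ξ).fiber.obj U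

variable {ξ}

/-- the point of `U` below a lifting -/
noncomputable def fpt {U : X.Etale} (t : Fib ξ U) : U.left := t.left.base (default : Spec (CommRingCat.of Ω))

theorem hom_fpt {U : X.Etale} (t : Fib ξ U) : U.hom.base (fpt t) = ξ.base default := by
  exact congrArg (fun k : Spec (CommRingCat.of Ω) ⟶ X => k.base default) (Over.w t)

theorem map_fpt {U V : X.Etale} (g : V ⟶ U) (t : Fib ξ V) :
    fpt ((Scheme.pointSmallEtale ξ).fiber.map g t) = g.left.base (fpt t) := rfl

theorem exists_fib {U : X.Etale} (x : U.left) (h : U.hom.base x = ξ.base default) :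
    ∃ t : Fib ξ U, fpt t = x := by
  obtain ⟨l, hl, hlx⟩ := (haveI : Etale U.hom := U.prop
    Scheme.exists_fac_of_etale_of_isSepClosed U.hom ξ x h)
  exact ⟨Over.homMk l hl, hlx⟩

theorem exists_fib_map {U V : X.Etale} (g : V ⟶ U) (v : V.left) (t : Fib ξ U)
    (h : g.left.base v = fpt t) : ∃ s : Fib ξ V, (Scheme.pointSmallEtale ξ).fiber.map g s = t := by
  have : Etale g.left := MorphismProperty.of_postcomp (W := EtCoh.etaleMP) (W' := EtCoh.etaleMP)
    g.left U.hom U.prop (by rw [MorphismProperty.Over.w g]; exact V.prop)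
  obtain ⟨l, hl, -⟩ := Scheme.exists_fac_of_etale_of_isSepClosed g.left t.left v h
  refine ⟨Over.homMk l ?_, ?_⟩
  · change l ≫ V.hom = ξ
    rw [← MorphismProperty.Over.w g, reassoc_of% hl]
    exact Over.w t
  · exact Over.OverMorphism.ext hl

variable (ξ)

/-- the germ of a section at a lifting of the geometric point -/
noncomputable def germ (F : EtCoh.Ab X) {U : X.Etale} (t : Fib ξ U) :
    F.obj.obj (op U) ⟶ (EtCoh.stalk ξ).obj F :=
  (Scheme.pointSmallEtale ξ).toPresheafFiber U t F.obj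

variable {ξ}

theorem germ_map (F : EtCoh.Ab X) {U V : X.Etale} (g : V ⟶ U) (t : Fib ξ V) (s : EtCoh.sect F U) :
    germ ξ F t (F.obj.map g.op s) = germ ξ F ((Scheme.pointSmallEtale ξ).fiber.map g t) s :=
  (Scheme.pointSmallEtale ξ).toPresheafFiber_w_apply g t F.obj s

theorem stalk_map_germ {F G : EtCoh.Ab X} (α : F ⟶ G) {U : X.Etale} (t : Fib ξ U) (s : EtCoh.sect F U) :
    (EtCoh.stalk ξ).map α (germ ξ F t s) = germ ξ G t (α.hom.app (op U) s) :=
  (Scheme.pointSmallEtale ξ).toPresheafFiber_naturality_apply α.hom U t s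

theorem germ_surjective (F : EtCoh.Ab X) (p : ↑((EtCoh.stalk ξ).obj F)) :
    ∃ (U : X.Etale) (t : Fib ξ U) (s : EtCoh.sect F U), germ ξ F t s = p :=
  (Scheme.pointSmallEtale ξ).toPresheafFiber_jointly_surjective p

theorem germ_eq_iff (F : EtCoh.Ab X) {U : X.Etale} (t : Fib ξ U) (s s' : EtCoh.sect F U) :
    germ ξ F t s = germ ξ F t s' ↔
      ∃ (W : X.Etale) (g : W ⟶ U) (w : W.left), g.left.base w = fpt t ∧
        F.obj.map g.op s = F.obj.map g.op s' := by
  refine ((Scheme.pointSmallEtale ξ).toPresheafFiber_eq_iff' U t s s').trans ⟨?_, ?_⟩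
  · rintro ⟨W, g, w, rfl, h⟩
    exact ⟨W, g, fpt w, rfl, h⟩
  · rintro ⟨W, g, w, hw, h⟩
    obtain ⟨v, hv⟩ := exists_fib_map g w t hw
    exact ⟨W, g, v, hv, h⟩

theorem germ_eq_zero_iff (F : EtCoh.Ab X) {U : X.Etale} (t : Fib ξ U) (s : EtCoh.sect F U) :
    germ ξ F t s = 0 ↔
      ∃ (W : X.Etale) (g : W ⟶ U) (w : W.left), g.left.base w = fpt t ∧ F.obj.map g.op s = 0 := by
  have := germ_eq_iff F t s 0
  simpa only [map_zero] using this

end Point

/-- sections agree as soon as they agree locally -/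
theorem sect_ext (F : EtCoh.Ab X) {U : X.Etale} {s s' : EtCoh.sect F U}
    (h : ∀ x : U.left, ∃ (W : X.Etale) (g : W ⟶ U) (w : W.left), g.left.base w = x ∧
      F.obj.map g.op s = F.obj.map g.op s') : s = s' := by
  let R : Sieve U :=
    { arrows := fun W g => F.obj.map g.op s = F.obj.map g.op s'
      downward_closed := fun {W V} g hg k => by
        rw [op_comp, Functor.map_comp, ConcreteCategory.comp_apply, ConcreteCategory.comp_apply, hg] }
  have hR : R ∈ X.smallEtaleTopology U := (mem_topology_iff R).2 fun x => by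
    obtain ⟨W, g, w, hw, hg⟩ := h x
    exact ⟨W, g, w, hg, hw⟩
  exact (((isSheaf_iff_isSheaf_of_type _ _).1
    ((sheafCompose _ (forget AddCommGrpCat.{u + 1})).obj F).property).isSeparated _ hR).ext
      fun W g hg => hg

theorem sect_ext_germ (F : EtCoh.Ab X) {U : X.Etale} {s s' : EtCoh.sect F U}
    (h : ∀ (Ω : Type u) [Field Ω] [IsSepClosed Ω] (ξ : Spec (CommRingCat.of Ω) ⟶ X) (t : Fib ξ U),
      germ ξ F t s = germ ξ F t s') : s = s' := by
  refine sect_ext F fun x => ?_
  obtain ⟨Ω, _, _, ξ, hξ⟩ := exists_geometric_point (U.hom.base x)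
  obtain ⟨t, rfl⟩ := exists_fib (ξ := ξ) x (by
    exact ((Set.eq_of_mem_singleton (hξ.le ⟨default, rfl⟩))).symm)
  exact (germ_eq_iff F t s s').1 (h Ω ξ t)

theorem mono_of_stalk {F G : EtCoh.Ab X} (α : F ⟶ G)
    (h : ∀ (Ω : Type u) [Field Ω] [IsSepClosed Ω] (ξ : Spec (CommRingCat.of Ω) ⟶ X),
      Function.Injective ((EtCoh.stalk ξ).map α)) : Mono α := by
  have : ∀ U, Function.Injective (α.hom.app U) := fun U s s' hs =>
    sect_ext_germ F fun Ω _ _ ξ t => h Ω ξ (by
      rw [stalk_map_germ, stalk_map_germ]; exact congrArg _ hs)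
  have : ∀ U, Mono (α.hom.app U) := fun U => (AddCommGrpCat.mono_iff_injective _).2 (this U)
  have : ∀ U, Mono (((sheafToPresheaf X.smallEtaleTopology AddCommGrpCat).map α).app U) := this
  have : Mono ((sheafToPresheaf _ _).map α) := NatTrans.mono_of_mono_app _
  exact (sheafToPresheaf _ _).mono_of_mono_map this

theorem epi_of_stalk {F G : EtCoh.Ab X} (α : F ⟶ G)
    (h : ∀ (Ω : Type u) [Field Ω] [IsSepClosed Ω] (ξ : Spec (CommRingCat.of Ω) ⟶ X),
      Function.Surjective ((EtCoh.stalk ξ).map α)) : Epi α := by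
  have : Sheaf.IsLocallySurjective α := ⟨fun {U} s => (mem_topology_iff _).2 fun x => by
    obtain ⟨Ω, _, _, ξ, hξ⟩ := exists_geometric_point (U.hom.base x)
    obtain ⟨t, rfl⟩ := exists_fib (ξ := ξ) x
      (Set.eq_of_mem_singleton (hξ.le ⟨default, rfl⟩)).symm
    obtain ⟨p, hp⟩ := h Ω ξ (germ ξ G t s)
    obtain ⟨V, v, r, rfl⟩ := germ_surjective F p
    rw [stalk_map_germ] at hp
    obtain ⟨W, a, b, w, ha, hb, hw⟩ : ∃ (W : X.Etale) (a : W ⟶ U) (b : W ⟶ V) (w : Fib ξ W),
        (Scheme.pointSmallEtale ξ).fiber.map a w = t ∧ (Scheme.pointSmallEtale ξ).fiber.map b w = v ∧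
          G.obj.map a.op s = α.hom.app (op W) (F.obj.map b.op r) := by
      obtain ⟨⟨W, w⟩, ⟨a, ha⟩, ⟨b, hb⟩, -⟩ :=
        IsCofilteredOrEmpty.cone_objs (Functor.elementsMk (Scheme.pointSmallEtale ξ).fiber U t)
          (Functor.elementsMk (Scheme.pointSmallEtale ξ).fiber V v)
      have e : germ ξ G w (G.obj.map a.op s) = germ ξ G w (α.hom.app (op W) (F.obj.map b.op r)) := by
        rw [germ_map, NatTrans.naturality_apply α.hom b.op r, germ_map, ha, hb, hp]
      obtain ⟨W', k, w', hk, hh⟩ := (germ_eq_iff G w _ _).1 e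
      obtain ⟨u, hu⟩ := exists_fib_map k w' w hk
      refine ⟨W', k ≫ a, k ≫ b, u, ?_, ?_, ?_⟩
      · rw [Functor.map_comp_apply, hu]; exact ha
      · rw [Functor.map_comp_apply, hu]; exact hb
      · rw [op_comp, Functor.map_comp, ConcreteCategory.comp_apply, hh,
          ← NatTrans.naturality_apply α.hom k.op]
        simp
    exact ⟨W, a, fpt w, ⟨_, hw.symm⟩, by rw [← map_fpt, ha]⟩⟩
  exact Sheaf.epi_of_isLocallySurjective α

theorem app_injective_of_mono {F G : EtCoh.Ab X} (α : F ⟶ G) [Mono α] (U : X.Etaleᵒᵖ) :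
    Function.Injective (α.hom.app U) :=
  (AddCommGrpCat.mono_iff_injective _).1
    (inferInstanceAs (Mono (((sheafToPresheaf _ _).map α).app U)))

theorem stalk_map_injective {F G : EtCoh.Ab X} (α : F ⟶ G) [Mono α] {Ω : Type u} [Field Ω]
    [IsSepClosed Ω] {ξ : Spec (CommRingCat.of Ω) ⟶ X} : Function.Injective ((EtCoh.stalk ξ).map α) := by
  refine (injective_iff_map_eq_zero ((EtCoh.stalk ξ).map α).hom).2 fun p hp => ?_
  obtain ⟨U, t, s, rfl⟩ := germ_surjective F p
  rw [stalk_map_germ, germ_eq_zero_iff] at hp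
  obtain ⟨W, g, w, hw, h⟩ := hp
  refine (germ_eq_zero_iff F t s).2 ⟨W, g, w, hw, app_injective_of_mono α _ ?_⟩
  rw [map_zero, NatTrans.naturality_apply α.hom g.op s, h]

theorem isIso_of_stalk {F G : EtCoh.Ab X} (α : F ⟶ G)
    (h : ∀ (Ω : Type u) [Field Ω] [IsSepClosed Ω] (ξ : Spec (CommRingCat.of Ω) ⟶ X),
      IsIso ((EtCoh.stalk ξ).map α)) : IsIso α := by
  have hb := fun (Ω : Type u) (_ : Field Ω) (_ : IsSepClosed Ω) (ξ : Spec (CommRingCat.of Ω) ⟶ X) =>
    (ConcreteCategory.isIso_iff_bijective ((EtCoh.stalk ξ).map α)).1 (h Ω ξ)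
  have := mono_of_stalk α fun Ω _ _ ξ => (hb Ω _ _ ξ).1
  have := epi_of_stalk α fun Ω _ _ ξ => (hb Ω _ _ ξ).2
  exact isIso_of_mono_of_epi α

end Groth.Agent.EtSh
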