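import Groth.Agent.EtSh.Supp

/-!
# Gluing along disjoint open covers; local lifting along epimorphisms
-/

set_option autoImplicit false
set_option backward.isDefEq.respectTransparency.types false

universe u

open CategoryTheory CategoryTheory.Limits AlgebraicGeometry Opposite

namespace Groth.Agent.EtSh

variable {X : Scheme.{u}}

/-- an open subscheme of an étale `X`-scheme -/
noncomputable def pieceObj (U : X.Etale) (O : U.left.Opens) : X.Etale :=
  MorphismProperty.Over.mk ⊤ (O.ι ≫ U.hom) (by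
    have : Etale U.hom := U.prop
    exact (inferInstance : Etale (O.ι ≫ U.hom)))

/-- its inclusion -/
noncomputable def pieceIncl (U : X.Etale) (O : U.left.Opens) : pieceObj U O ⟶ U :=
  MorphismProperty.Over.homMk O.ι rfl

theorem sect_subsingleton_of_isEmpty (F : EtCoh.Ab X) {Z : X.Etale} [IsEmpty Z.left]
    (a b : EtCoh.sect F Z) : a = b :=
  sect_ext F fun x => isEmptyElim x

theorem exists_glue_pieces (F : EtCoh.Ab X) (U : X.Etale) {ι : Type u} (O : ι → U.left.Opens)
    (hd : ∀ a b, a ≠ b → Disjoint (O a) (O b)) (hs : ⨆ a, O a = ⊤)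
    (s : ∀ a, EtCoh.sect F (pieceObj U (O a))) :
    ∃ t : EtCoh.sect F U, ∀ a, F.obj.map (pieceIncl U (O a)).op t = s a := by
  let P := F.obj ⋙ forget AddCommGrpCat.{u + 1}
  have hP : Presieve.IsSheaf X.smallEtaleTopology P :=
    (isSheaf_iff_isSheaf_of_type _ _).1 ((sheafCompose _ (forget AddCommGrpCat.{u + 1})).obj F).property
  have hmem : Sieve.ofArrows _ (fun a => pieceIncl U (O a)) ∈ X.smallEtaleTopology U :=
    (mem_topology_iff _).2 fun x => by
      obtain ⟨a, ha⟩ := TopologicalSpace.Opens.mem_iSup.1 (hs.ge (Set.mem_univ x : x ∈ (⊤ : U.left.Opens)))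
      exact ⟨_, pieceIncl U (O a), ⟨x, ha⟩, Sieve.ofArrows_mk _ _ a, rfl⟩
  have := hP _ hmem
  rw [Sieve.ofArrows, ← Presieve.isSheafFor_iff_generate, Presieve.isSheafFor_arrows_iff] at this
  obtain ⟨t, ht, -⟩ := this s fun a b Z g g' h => by
    by_cases hab : a = b
    · subst hab
      have : g = g' := by
        refine MorphismProperty.Over.Hom.ext ?_
        exact (cancel_mono (O a).ι).1 (congrArg (fun k => k.left) h)
      rw [this]
    · have : IsEmpty Z.left := ⟨fun z => by
        have hz := congrArg (fun k : Z ⟶ U => k.left.base z) h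
        exact (hd a b hab).le_bot ⟨(g.left.base z).2, (show (g.left.base z).1 = (g'.left.base z).1 from hz) ▸ (g'.left.base z).2⟩⟩
      exact sect_subsingleton_of_isEmpty F (Z := Z) _ _
  exact ⟨t, ht⟩

/-- sections lift locally along an epimorphism -/
theorem exists_lift_of_epi {F G : EtCoh.Ab X} (α : F ⟶ G) [Epi α] (U : X.Etale) (s : EtCoh.sect G U)
    (x : U.left) :
    ∃ (W : X.Etale) (g : W ⟶ U) (w : W.left) (r : EtCoh.sect F W),
      g.left.base w = x ∧ α.hom.app (op W) r = G.obj.map g.op s := by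
  obtain ⟨Ω, _, _, ξ, hξ⟩ := exists_geometric_point (U.hom.base x)
  obtain ⟨t, rfl⟩ := exists_fib (ξ := ξ) x
    (Set.eq_of_mem_singleton (hξ.le ⟨default, rfl⟩)).symm
  have : Epi ((EtCoh.stalk ξ).map α) := inferInstance
  obtain ⟨p, hp⟩ := (AddCommGrpCat.epi_iff_surjective _).1 this (germ ξ G t s)
  obtain ⟨V, v, r, rfl⟩ := germ_surjective F p
  rw [stalk_map_germ] at hp
  obtain ⟨⟨W, w⟩, ⟨a, ha⟩, ⟨b, hb⟩, -⟩ :=
    IsCofilteredOrEmpty.cone_objs (Functor.elementsMk (Scheme.pointSmallEtale ξ).fiber U t)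
      (Functor.elementsMk (Scheme.pointSmallEtale ξ).fiber V v)
  have e : germ ξ G w (G.obj.map a.op s) = germ ξ G w (α.hom.app (op W) (F.obj.map b.op r)) := by
    rw [germ_map, NatTrans.naturality_apply α.hom b.op r, germ_map, ha, hb, hp]
  obtain ⟨W', k, w', hk, hh⟩ := (germ_eq_iff G w _ _).1 e
  refine ⟨W', k ≫ a, w', F.obj.map k.op (F.obj.map b.op r), ?_, ?_⟩
  · exact (congrArg a.left.base hk).trans ((map_fpt a w).symm.trans (congrArg fpt ha))
  · rw [NatTrans.naturality_apply α.hom k.op, ← hh]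
    simp

end Groth.Agent.EtSh
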