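import Groth.Agent.EtSh.FLCStalk
import Groth.Agent.EtSh.Gluing
import Mathlib.CategoryTheory.ObjectProperty.EpiMono
import Mathlib.CategoryTheory.ObjectProperty.Extensions

/-!
# Finite locally constant sheaves form a weak Serre subcategory
-/

set_option autoImplicit false
set_option backward.isDefEq.respectTransparency.types false

universe u

open CategoryTheory CategoryTheory.Limits AlgebraicGeometry Opposite

namespace Groth.Agent.EtSh

variable {X : Scheme.{u}}

/-- finitely many germ identities hold on a common neighbourhood -/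
theorem exists_nhd_eq (F : EtCoh.Ab X) {U : X.Etale} {Ω : Type u} [Field Ω] [IsSepClosed Ω]
    {ξ : Spec (CommRingCat.of Ω) ⟶ X} (t : Fib ξ U) {κ : Type*} [Finite κ] (a b : κ → EtCoh.sect F U)
    (h : ∀ k, germ ξ F t (a k) = germ ξ F t (b k)) :
    ∃ (U' : X.Etale) (g : U' ⟶ U), fpt t ∈ Set.range g.left.base ∧
      ∀ k, F.obj.map g.op (a k) = F.obj.map g.op (b k) := by
  let O : U.left.Opens := ⟨⋂ k, (EtShriek.sectSupp F U (a k - b k))ᶜ,
    isOpen_iInter_of_finite fun k => (isClosed_sectSupp F U _).isOpen_compl⟩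
  have ht : fpt t ∈ O := Set.mem_iInter.2 fun k hk =>
    (germ_ne_zero_iff_mem F t _).2 hk (by rw [map_sub, h, sub_self])
  refine ⟨pieceObj U O, pieceIncl U O, ⟨⟨_, ht⟩, rfl⟩, fun k => ?_⟩
  refine sect_ext_germ F fun Ω' _ _ η w => ?_
  rw [germ_map, germ_map, ← sub_eq_zero, ← map_sub]
  by_contra hne
  have hmem := (germ_ne_zero_iff_mem F _ _).1 hne
  exact Set.mem_iInter.1 (fpt w).2 k hmem

theorem exists_common {U U' : X.Etale} {y : U.left} {y' : U'.left} (h : U.hom.base y = U'.hom.base y') :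
    ∃ (W : X.Etale) (a : W ⟶ U) (b : W ⟶ U') (w : W.left), a.left.base w = y ∧ b.left.base w = y' := by
  have : Etale U.hom := U.prop
  have : Etale U'.hom := U'.prop
  obtain ⟨w, hw, hw'⟩ := Scheme.Pullback.exists_preimage_pullback (f := U.hom) (g := U'.hom) y y' h
  exact ⟨Scheme.Etale.mk (pullback.fst U.hom U'.hom ≫ U.hom),
    MorphismProperty.Over.homMk (pullback.fst U.hom U'.hom) rfl,
    MorphismProperty.Over.homMk (pullback.snd U.hom U'.hom) pullback.condition.symm, w, hw, hw'⟩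

theorem app_exact {S : ShortComplex (EtCoh.Ab X)} (hS : S.Exact) [Mono S.f] (U : X.Etale)
    (s : EtCoh.sect S.X₂ U) (h : S.g.hom.app (op U) s = 0) :
    ∃ r : EtCoh.sect S.X₁ U, S.f.hom.app (op U) r = s := by
  let Γ := sheafToPresheaf X.smallEtaleTopology AddCommGrpCat.{u + 1} ⋙
    (evaluation X.Etaleᵒᵖ AddCommGrpCat.{u + 1}).obj (op U)
  exact (ShortComplex.ab_exact_iff _).1 (hS.map_of_mono_of_preservesKernel Γ inferInstance inferInstance) s h

theorem stalk_preservesExact {S : ShortComplex (EtCoh.Ab X)} (hS : S.Exact) {Ω : Type u} [Field Ω]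
    [IsSepClosed Ω] (ξ : Spec (CommRingCat.of Ω) ⟶ X) (p : ↑((EtCoh.stalk ξ).obj S.X₂))
    (hp : (EtCoh.stalk ξ).map S.g p = 0) : ∃ q, (EtCoh.stalk ξ).map S.f q = p := by
  let adj := (Scheme.pointSmallEtale ξ).skyscraperSheafAdjunction (A := AddCommGrpCat.{u + 1})
  have : (EtCoh.stalk ξ).PreservesMonomorphisms :=
    ⟨fun α _ => (AddCommGrpCat.mono_iff_injective _).2 (stalk_map_injective α)⟩
  have : PreservesColimitsOfSize.{0, 0} (EtCoh.stalk ξ) := adj.leftAdjoint_preservesColimits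
  have : PreservesFiniteColimits (EtCoh.stalk ξ) := PreservesColimitsOfSize.preservesFiniteColimits _
  have := preservesBinaryBiproducts_of_preservesBinaryCoproducts (EtCoh.stalk ξ)
  have : (EtCoh.stalk ξ).Additive := Functor.additive_of_preservesBinaryBiproducts _
  have : (EtCoh.stalk ξ).PreservesHomology := Functor.preservesHomology_of_preservesMonos_and_cokernels _
  exact (ShortComplex.ab_exact_iff _).1 (hS.map (EtCoh.stalk ξ)) p hp

theorem stalk_map_surjective {F G : EtCoh.Ab X} (α : F ⟶ G) [Epi α] {Ω : Type u} [Field Ω]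
    [IsSepClosed Ω] (ξ : Spec (CommRingCat.of Ω) ⟶ X) : Function.Surjective ((EtCoh.stalk ξ).map α) :=
  (AddCommGrpCat.epi_iff_surjective _).1 inferInstance

theorem exists_lifting {U : X.Etale} (y : U.left) :
    ∃ (Ω : Type u) (_ : Field Ω) (_ : IsSepClosed Ω) (ξ : Spec (CommRingCat.of Ω) ⟶ X) (t : Fib ξ U),
      fpt t = y := by
  obtain ⟨Ω, _, _, ξ, hξ⟩ := exists_geometric_point (U.hom.base y)
  obtain ⟨t, ht⟩ := exists_fib (ξ := ξ) y (Set.eq_of_mem_singleton (hξ.le ⟨default, rfl⟩)).symm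
  exact ⟨Ω, inferInstance, inferInstance, ξ, t, ht⟩

/-- a morphism of trivialised sheaves is locally constant -/
theorem exists_local_hom {F G : EtCoh.Ab X} (φ : F ⟶ G) {x : X}
    (hF : EtCoh.IsFiniteLocallyConstant F) (hG : EtCoh.IsFiniteLocallyConstant G) :
    ∃ (U : X.Etale) (y : U.left) (_ : U.hom.base y = x) (M : Type) (_ : AddCommGroup M) (_ : Finite M)
      (N : Type) (_ : AddCommGroup N) (_ : Finite N) (eM : M →+ EtCoh.sect F U)
      (eN : N →+ EtCoh.sect G U) (n : M →+ N), Trivializes F U M eM ∧ Trivializes G U N eN ∧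
        ∀ m, φ.hom.app (op U) (eM m) = eN (n m) := by
  obtain ⟨U₁, y₁, hy₁, M, _, _, e₁, h₁⟩ := (isFLC_iff_trivializes F).1 hF x
  obtain ⟨U₂, y₂, hy₂, N, _, _, e₂, h₂⟩ := (isFLC_iff_trivializes G).1 hG x
  obtain ⟨W, a, b, w, ha, hb⟩ := exists_common (U := U₁) (U' := U₂) (y := y₁) (y' := y₂) (hy₁.trans hy₂.symm)
  obtain ⟨Ω, _, _, ξ, t, ht⟩ := exists_lifting w
  let eM := (F.obj.map a.op).hom.comp e₁
  let eN := (G.obj.map b.op).hom.comp e₂
  let γ : N ≃+ ↑((EtCoh.stalk ξ).obj G) :=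
    AddEquiv.ofBijective ((germ ξ G t).hom.comp eN) (trivializes_map h₂ b Ω ξ t)
  let n : M →+ N := γ.symm.toAddMonoidHom.comp
    ((germ ξ G t).hom.comp ((φ.hom.app (op W)).hom.comp eM))
  have hn : ∀ m, germ ξ G t (φ.hom.app (op W) (eM m)) = germ ξ G t (eN (n m)) := fun m =>
    (γ.apply_symm_apply _).symm
  obtain ⟨W', g, ⟨w', hw'⟩, hg⟩ := exists_nhd_eq G t _ _ hn
  refine ⟨W', w', ?_, M, inferInstance, inferInstance, N, inferInstance, inferInstance,
    (F.obj.map g.op).hom.comp eM, (G.obj.map g.op).hom.comp eN, n,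
    trivializes_map (trivializes_map h₁ a) g, trivializes_map (trivializes_map h₂ b) g, fun m => ?_⟩
  · rw [← hy₁, ← ha, ← ht, ← hw']
    exact (congrArg (fun k : W'.left ⟶ X => k.base w') (MorphismProperty.Over.w (g ≫ a))).symm
  · exact (NatTrans.naturality_apply φ.hom g.op (eM m)).trans (hg m)

set_option maxHeartbeats 400000 in
theorem isFLC_kernel_cokernel {F G : EtCoh.Ab X} (φ : F ⟶ G)
    (hF : EtCoh.IsFiniteLocallyConstant F) (hG : EtCoh.IsFiniteLocallyConstant G) :
    EtCoh.IsFiniteLocallyConstant (kernel φ) ∧ EtCoh.IsFiniteLocallyConstant (cokernel φ) := by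
  constructor <;> refine (isFLC_iff_trivializes _).2 fun x => ?_
  · obtain ⟨U, y, hy, M, _, _, N, _, _, eM, eN, n, hM, hN, hn⟩ := exists_local_hom φ (x := x) hF hG
    let S := ShortComplex.mk (kernel.ι φ) φ (kernel.condition φ)
    have hS : S.Exact := S.exact_of_f_is_kernel (kernelIsKernel φ)
    have : Mono S.f := inferInstanceAs (Mono (kernel.ι φ))
    have hl : ∀ m : n.ker, ∃ r : EtCoh.sect (kernel φ) U, (kernel.ι φ).hom.app (op U) r = eM m.1 :=
      fun m => app_exact hS U _ ((hn m.1).trans (by rw [AddMonoidHom.mem_ker.1 m.2, map_zero]))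
    choose r hr using hl
    have hinj : Function.Injective ((kernel.ι φ).hom.app (op U)) := app_injective_of_mono _ _
    refine ⟨U, y, hy, n.ker, inferInstance, inferInstance,
      AddMonoidHom.mk' r fun a b => hinj (by rw [map_add, hr, hr, hr, AddSubgroup.coe_add, map_add]), ?_⟩
    intro Ω _ _ ξ t
    have hι : ∀ m, (EtCoh.stalk ξ).map (kernel.ι φ) (germ ξ (kernel φ) t (r m)) = germ ξ F t (eM m.1) :=
      fun m => by rw [stalk_map_germ, hr]
    refine ⟨fun a b hab => Subtype.ext ((hM Ω ξ t).1 ?_), fun q => ?_⟩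
    · exact (hι a).symm.trans ((congrArg _ hab).trans (hι b))
    · obtain ⟨m, hm⟩ := (hM Ω ξ t).2 ((EtCoh.stalk ξ).map (kernel.ι φ) q)
      have h0 : germ ξ G t (eN (n m)) = germ ξ G t (eN 0) := by
        rw [← hn, ← stalk_map_germ]
        rw [show germ ξ F t (eM m) = (EtCoh.stalk ξ).map (kernel.ι φ) q from hm,
          ← ConcreteCategory.comp_apply, ← Functor.map_comp, kernel.condition]
        obtain ⟨V, v, s, rfl⟩ := germ_surjective _ q
        rw [stalk_map_germ, map_zero, map_zero]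
        exact map_zero _
      exact ⟨⟨m, (hN Ω ξ t).1 h0⟩, stalk_map_injective (kernel.ι φ) ((hι _).trans hm)⟩
  · obtain ⟨U, y, hy, M, _, _, N, _, _, eM, eN, n, hM, hN, hn⟩ := exists_local_hom φ (x := x) hF hG
    let S := ShortComplex.mk φ (cokernel.π φ) (cokernel.condition φ)
    have hS : S.Exact := S.exact_of_g_is_cokernel (cokernelIsCokernel φ)
    have hz : n.range ≤ (((cokernel.π φ).hom.app (op U)).hom.comp eN).ker := by
      rintro _ ⟨m, rfl⟩
      show (cokernel.π φ).hom.app (op U) (eN (n m)) = 0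
      rw [← hn]
      exact congrArg (fun k : F ⟶ cokernel φ => k.hom.app (op U) (eM m)) (cokernel.condition φ)
    refine ⟨U, y, hy, N ⧸ n.range, inferInstance, inferInstance,
      QuotientAddGroup.lift _ _ hz, ?_⟩
    intro Ω _ _ ξ t
    have hπ : ∀ k : N, (EtCoh.stalk ξ).map (cokernel.π φ) (germ ξ G t (eN k)) =
        germ ξ (cokernel φ) t (QuotientAddGroup.lift _ _ hz k) := fun k => stalk_map_germ _ _ _
    refine ⟨fun a b hab => ?_, fun q => ?_⟩
    · induction a using QuotientAddGroup.induction_on with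
      | H a =>
        induction b using QuotientAddGroup.induction_on with
        | H b =>
          have h0 : (EtCoh.stalk ξ).map (cokernel.π φ) (germ ξ G t (eN (a - b))) = 0 := by
            rw [map_sub eN, map_sub, map_sub, hπ, hπ]
            exact sub_eq_zero.2 hab
          obtain ⟨p, hp⟩ := stalk_preservesExact hS ξ _ h0
          obtain ⟨m, rfl⟩ := (hM Ω ξ t).2 p
          rw [stalk_map_germ, hn] at hp
          rw [QuotientAddGroup.eq_iff_sub_mem]
          exact ⟨m, (hN Ω ξ t).1 hp⟩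
    · obtain ⟨p, hp⟩ := stalk_map_surjective (cokernel.π φ) ξ q
      obtain ⟨k, rfl⟩ := (hN Ω ξ t).2 p
      exact ⟨(k : N ⧸ n.range), (hπ k).symm.trans hp⟩

set_option maxHeartbeats 400000 in
theorem isFLC_extension {S : ShortComplex (EtCoh.Ab X)} (hS : S.ShortExact)
    (h₁ : EtCoh.IsFiniteLocallyConstant S.X₁) (h₃ : EtCoh.IsFiniteLocallyConstant S.X₃) :
    EtCoh.IsFiniteLocallyConstant S.X₂ := by
  have := hS.mono_f
  have := hS.epi_g
  refine (isFLC_iff_trivializes _).2 fun x => ?_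
  obtain ⟨U₁, y₁, hy₁, A, _, _, e₁, hA₁⟩ := (isFLC_iff_trivializes S.X₁).1 h₁ x
  obtain ⟨U₃, y₃, hy₃, C, _, _, e₃, hC₃⟩ := (isFLC_iff_trivializes S.X₃).1 h₃ x
  obtain ⟨U₀, a, b, w₀, ha, hb⟩ := exists_common (U := U₁) (U' := U₃) (y := y₁) (y' := y₃) (hy₁.trans hy₃.symm)
  have hxw : U₀.hom.base w₀ = x := by
    rw [← hy₁, ← ha]
    exact (congrArg (fun k : U₀.left ⟶ X => k.base w₀) (MorphismProperty.Over.w a)).symm
  classical
  -- lift the trivialising sections of the quotient, one after another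
  have hlift : ∀ t : Finset C, ∃ (U : X.Etale) (g : U ⟶ U₀) (w : U.left), g.left.base w = w₀ ∧
      ∀ c ∈ t, ∃ r : EtCoh.sect S.X₂ U,
        S.g.hom.app (op U) r = S.X₃.obj.map g.op (S.X₃.obj.map b.op (e₃ c)) := by
    intro t
    induction t using Finset.induction with
    | empty => exact ⟨U₀, 𝟙 _, w₀, rfl, by simp⟩
    | insert c t _ ih =>
      obtain ⟨U, g, w, hw, h⟩ := ih
      obtain ⟨W, k, w', r, hw', hr⟩ :=
        exists_lift_of_epi S.g U (S.X₃.obj.map g.op (S.X₃.obj.map b.op (e₃ c))) w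
      refine ⟨W, k ≫ g, w', (congrArg g.left.base hw').trans hw, fun d hd => ?_⟩
      rcases Finset.mem_insert.1 hd with rfl | hd
      · exact ⟨r, hr.trans (by simp)⟩
      · obtain ⟨r', hr'⟩ := h d hd
        exact ⟨S.X₂.obj.map k.op r', (NatTrans.naturality_apply S.g.hom k.op r').trans (by rw [hr']; simp)⟩
  have := Fintype.ofFinite C
  obtain ⟨U, g, w, hw, hlift⟩ := hlift Finset.univ
  choose sC hsC using fun c => hlift c (Finset.mem_univ c)
  let eA := (S.X₁.obj.map (g ≫ a).op).hom.comp e₁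
  let eC := (S.X₃.obj.map g.op).hom.comp ((S.X₃.obj.map b.op).hom.comp e₃)
  have hA : Trivializes S.X₁ U A eA := trivializes_map hA₁ (g ≫ a)
  have hC : Trivializes S.X₃ U C eC := trivializes_map (trivializes_map hC₃ b) g
  have hsC' : ∀ c, S.g.hom.app (op U) (sC c) = eC c := hsC
  have hd : ∀ p : C × C, ∃ d : EtCoh.sect S.X₁ U,
      S.f.hom.app (op U) d = sC p.1 + sC p.2 - sC (p.1 + p.2) := fun p =>
    app_exact hS.exact U _ (by rw [map_sub, map_add, hsC', hsC', hsC', map_add]; exact sub_self _)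
  choose d hd' using hd
  obtain ⟨Ω, _, _, ξ, t, ht⟩ := exists_lifting w
  choose κ hκ using fun p : C × C => (hA Ω ξ t).2 (germ ξ S.X₁ t (d p))
  obtain ⟨U', g', ⟨w', hw'⟩, hg'⟩ := exists_nhd_eq S.X₁ t d (fun p => eA (κ p)) fun p => (hκ p).symm
  let eA' := (S.X₁.obj.map g'.op).hom.comp eA
  let s' : C → EtCoh.sect S.X₂ U' := fun c => S.X₂.obj.map g'.op (sC c)
  have hA' : Trivializes S.X₁ U' A eA' := trivializes_map hA g'
  have hC' : Trivializes S.X₃ U' C ((S.X₃.obj.map g'.op).hom.comp eC) := trivializes_map hC g'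
  let i := (S.f.hom.app (op U')).hom
  have hadd : ∀ p : C × C, s' p.1 + s' p.2 = i (eA' (κ p)) + s' (p.1 + p.2) := by
    intro p
    have := congrArg (S.X₂.obj.map g'.op) (hd' p)
    rw [map_sub, map_add] at this
    show S.X₂.obj.map g'.op (sC p.1) + S.X₂.obj.map g'.op (sC p.2) =
      S.f.hom.app (op U') (S.X₁.obj.map g'.op (eA (κ p))) + _
    rw [← hg' p, NatTrans.naturality_apply S.f.hom g'.op, this, sub_add_cancel]
  let E₀ : Set (EtCoh.sect S.X₂ U') := Set.range fun p : A × C => i (eA' p.1) + s' p.2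
  have hfin : E₀.Finite := Set.finite_range _
  let E : AddSubgroup (EtCoh.sect S.X₂ U') :=
    { carrier := E₀
      zero_mem' := ⟨(-κ (0, 0), 0), by
        have := hadd (0, 0)
        rw [zero_add] at this
        simp only [map_neg]
        rw [neg_add_eq_zero]
        exact (add_right_cancel this).symm⟩
      add_mem' := by
        rintro _ _ ⟨p, rfl⟩ ⟨q, rfl⟩
        refine ⟨(p.1 + q.1 + κ (p.2, q.2), p.2 + q.2), ?_⟩
        simp only [map_add]
        rw [add_assoc, ← hadd (p.2, q.2)]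
        abel
      neg_mem' := by
        rintro _ ⟨p, rfl⟩
        have h00 := hadd (0, 0)
        rw [zero_add] at h00
        have h1 := hadd (p.2, -p.2)
        rw [add_neg_cancel, add_right_cancel h00] at h1
        refine ⟨(-p.1 - κ (p.2, -p.2) - κ (0, 0), -p.2), ?_⟩
        simp only [map_sub, map_neg]
        rw [eq_neg_iff_add_eq_zero]
        calc -i (eA' p.1) - i (eA' (κ (p.2, -p.2))) - i (eA' (κ (0, 0))) + s' (-p.2) + (i (eA' p.1) + s' p.2)
            = (s' p.2 + s' (-p.2)) - i (eA' (κ (p.2, -p.2))) - i (eA' (κ (0, 0))) := by abel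
          _ = _ := by rw [h1]; abel }
  have : Finite E := hfin.to_subtype
  have hg'w : U'.hom.base w' = x := by
    rw [← hxw, ← hw, ← ht, ← hw']
    exact (congrArg (fun k : U'.left ⟶ X => k.base w') (MorphismProperty.Over.w (g' ≫ g))).symm
  refine ⟨U', w', hg'w, Shrink.{0} E, inferInstance, inferInstance,
    AddMonoidHom.mk' (fun z => ((equivShrink.{0} E).symm z).1) (fun a b => by simp), fun Ω' _ _ η v => ?_⟩
  suffices hb : Function.Bijective fun e : E => germ η S.X₂ v e.1 from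
    hb.comp (equivShrink.{0} E).symm.bijective
  have hgc : ∀ p : A × C, (EtCoh.stalk η).map S.g (germ η S.X₂ v (i (eA' p.1) + s' p.2)) =
      germ η S.X₃ v (((S.X₃.obj.map g'.op).hom.comp eC) p.2) := by
    intro p
    rw [stalk_map_germ, map_add]
    have h0 : S.g.hom.app (op U') (i (eA' p.1)) = 0 :=
      congrArg (fun k : S.X₁ ⟶ S.X₃ => k.hom.app (op U') (eA' p.1)) S.zero
    rw [h0, zero_add]
    refine congrArg _ ?_
    show S.g.hom.app (op U') (S.X₂.obj.map g'.op (sC p.2)) = S.X₃.obj.map g'.op (eC p.2)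
    rw [NatTrans.naturality_apply S.g.hom g'.op, hsC']
  constructor
  · rintro ⟨_, p, rfl⟩ ⟨_, q, rfl⟩ hpq
    have h2 : p.2 = q.2 := (hC' Ω' η v).1 ((hgc p).symm.trans ((congrArg _ hpq).trans (hgc q)))
    apply Subtype.ext
    simp only at hpq ⊢
    rw [map_add, map_add, h2] at hpq
    have h1 := add_right_cancel hpq
    rw [show i (eA' p.1) = S.f.hom.app (op U') (eA' p.1) from rfl,
      show i (eA' q.1) = S.f.hom.app (op U') (eA' q.1) from rfl, ← stalk_map_germ, ← stalk_map_germ] at h1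
    rw [(hA' Ω' η v).1 (stalk_map_injective S.f h1), h2]
  · intro q
    obtain ⟨c, hc⟩ := (hC' Ω' η v).2 ((EtCoh.stalk η).map S.g q)
    have h0 : (EtCoh.stalk η).map S.g (q - germ η S.X₂ v (i (eA' 0) + s' c)) = 0 := by
      rw [map_sub, hgc (0, c), sub_eq_zero]
      exact hc.symm
    obtain ⟨p, hp⟩ := stalk_preservesExact hS.exact η _ h0
    obtain ⟨a₀, rfl⟩ := (hA' Ω' η v).2 p
    rw [stalk_map_germ] at hp
    refine ⟨⟨_, (a₀, c), rfl⟩, ?_⟩
    show germ η S.X₂ v (i (eA' a₀) + s' c) = q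
    rw [map_add]
    have : i (eA' 0) = 0 := by rw [map_zero, map_zero]
    rw [this, zero_add] at hp
    rw [show i (eA' a₀) = S.f.hom.app (op U') (eA' a₀) from rfl, hp, sub_add_cancel]

end Groth.Agent.EtSh
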