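import Groth.Agent.EtSh.Constructible
import Groth.Agent.EtSh.FLCSerre
import Groth.Agent.EtSh.Pull

/-!
# Constructible sheaves: kernels, cokernels, extensions; gluing along immersions
-/

set_option autoImplicit false
set_option backward.isDefEq.respectTransparency.types false

universe u

open CategoryTheory CategoryTheory.Limits AlgebraicGeometry Opposite Topology TopologicalSpace

namespace Groth.Agent.EtSh

variable {X : Scheme.{u}}

theorem exists_common_strata {F G H : EtCoh.Ab X} (U : X.Opens)
    (hF : EtPBC.AdaptedStrata F (U : Set X)) (hG : EtPBC.AdaptedStrata G (U : Set X))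
    (h : ∀ {T : Scheme.{u}} (g : T ⟶ X), EtCoh.IsFiniteLocallyConstant ((EtCoh.pull g).obj F) →
      EtCoh.IsFiniteLocallyConstant ((EtCoh.pull g).obj G) →
        EtCoh.IsFiniteLocallyConstant ((EtCoh.pull g).obj H)) :
    EtPBC.AdaptedStrata H (U : Set X) := by
  obtain ⟨n, T, g, hg, hc, -, hun, hflc⟩ := hF
  obtain ⟨m, S, k, hk, hc', -, hun', hflc'⟩ := hG
  let p : ∀ a : Fin n × Fin m, pullback (g a.1) (k a.2) ⟶ X := fun a => pullback.fst _ _ ≫ g a.1
  have hp : ∀ a, IsImmersion (p a) := fun a => by
    have := hg a.1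
    have : IsImmersion (pullback.fst (g a.1) (k a.2)) :=
      MorphismProperty.pullback_fst (P := @IsImmersion) _ _ (hk a.2)
    exact inferInstanceAs (IsImmersion (pullback.fst _ _ ≫ g a.1))
  have hr : ∀ a, Set.range (p a) = Set.range (g a.1) ∩ Set.range (k a.2) := fun a => by
    rw [Scheme.Hom.comp_base, TopCat.coe_comp, Set.range_comp, Scheme.Pullback.range_fst,
      Set.image_preimage_eq_inter_range, Set.inter_comm]
  refine adaptedStrata_of_cover H U p (fun a => ?_) (fun x hx => ?_) fun a => h _ ?_ ?_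
  · rw [hr, Set.preimage_inter]
    exact (hc a.1).inter (hc' a.2)
  · obtain ⟨i, hi⟩ := Set.mem_iUnion.1 (hun.ge hx)
    obtain ⟨j, hj⟩ := Set.mem_iUnion.1 (hun'.ge hx)
    exact Set.mem_iUnion.2 ⟨(i, j), (hr (i, j)).ge ⟨hi, hj⟩⟩
  · exact isFLC_pull_comp _ _ (hflc a.1)
  · exact isFLC_of_iso ((EtCore.pullCongr pullback.condition.symm).app G)
      (isFLC_pull_comp _ _ (hflc' a.2))

theorem isConstructible_kernel_cokernel {F G : EtCoh.Ab X} (φ : F ⟶ G)
    (hF : EtPBC.IsConstructible F) (hG : EtPBC.IsConstructible G) :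
    EtPBC.IsConstructible (kernel φ) ∧ EtPBC.IsConstructible (cokernel φ) := by
  refine ⟨fun U hU => exists_common_strata U (hF U hU) (hG U hU) fun g h1 h2 => ?_,
    fun U hU => exists_common_strata U (hF U hU) (hG U hU) fun g h1 h2 => ?_⟩
  · have := pull_preservesFiniteLimits g
    exact isFLC_of_iso (PreservesKernel.iso (EtCoh.pull g) φ).symm
      (isFLC_kernel_cokernel ((EtCoh.pull g).map φ) h1 h2).1
  · exact isFLC_of_iso (PreservesCokernel.iso (EtCoh.pull g) φ).symm
      (isFLC_kernel_cokernel ((EtCoh.pull g).map φ) h1 h2).2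

theorem isConstructible_extension {S : ShortComplex (EtCoh.Ab X)} (hS : S.ShortExact)
    (h₁ : EtPBC.IsConstructible S.X₁) (h₃ : EtPBC.IsConstructible S.X₃) :
    EtPBC.IsConstructible S.X₂ := fun U hU =>
  exists_common_strata U (h₁ U hU) (h₃ U hU) fun g h1 h3 => by
    have := pull_preservesFiniteLimits g
    exact isFLC_extension (hS.map_of_exact (EtCoh.pull g)) h1 h3

/-- images of constructible sets under immersions with constructible image -/
theorem isConstructible_image_immersion {T : Scheme.{u}} (g : T ⟶ X) [IsImmersion g] [CompactSpace T]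
    [QuasiSeparatedSpace X] [CompactSpace X] (hg : IsConstructible (Set.range g)) {E : Set T}
    (hE : IsConstructible E) : IsConstructible (g '' E) := by
  have hopen : ∀ U : Set T, IsOpen U → IsRetrocompact U → IsConstructible (g '' U) := by
    intro U hU hU'
    have hUc : IsCompact U := by simpa using hU' isCompact_univ isOpen_univ
    obtain ⟨O, hO, rfl⟩ := g.isEmbedding.isInducing.isOpen_iff.1 hU
    obtain ⟨n, W, hW, hcov⟩ : ∃ (n : ℕ) (W : Fin n → X.Opens),
        (∀ k, IsAffineOpen (W k) ∧ (W k : Set X) ⊆ O) ∧ g '' (g ⁻¹' O) ⊆ ⋃ k, (W k : Set X) := by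
      choose W hW using fun x : {x // x ∈ O} =>
        exists_isAffineOpen_mem_and_subset (x := x.1) (U := ⟨O, hO⟩) x.2
      obtain ⟨t, ht⟩ := (hUc.image g.continuous).elim_finite_subcover (fun x => (W x : Set X))
        (fun x => (W x).2) (fun y hy => by
          obtain ⟨z, hz, rfl⟩ := hy
          exact Set.mem_iUnion.2 ⟨⟨g z, hz⟩, (hW _).2.1⟩)
      refine ⟨t.card, fun k => W (t.equivFin.symm k).1, fun k => ⟨(hW _).1, (hW _).2.2⟩,
        ht.trans (Set.iUnion₂_subset fun x hx => ?_)⟩
      exact Set.subset_iUnion_of_subset (t.equivFin ⟨x, hx⟩) (by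
        show (W x : Set X) ⊆ (W (t.equivFin.symm (t.equivFin ⟨x, hx⟩)).1 : Set X)
        rw [Equiv.symm_apply_apply])
    have e : g '' (g ⁻¹' O) = Set.range g ∩ ⋃ k, (W k : Set X) := by
      refine Set.Subset.antisymm (Set.subset_inter (Set.image_subset_range _ _) hcov) ?_
      rw [Set.image_preimage_eq_inter_range, Set.inter_comm O]
      exact Set.inter_subset_inter_right _ (Set.iUnion_subset fun k => (hW k).2)
    rw [e]
    exact hg.inter (IsConstructible.iUnion fun k => (isRetrocompact_of_isCompact (W k).2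
      (hW k).1.isCompact).isConstructible (W k).2)
  refine ConstrSets.sdiff_union_induction (p := fun E : Set T => IsConstructible (g '' E))
    (fun U V hU hU' hV hV' => ?_) (fun s t hs ht => by rw [Set.image_union]; exact hs.union ht) hE
  rw [Set.image_sdiff g.isEmbedding.injective]
  exact (hopen U hU hU').sdiff (hopen V hV hV')

theorem compactSpace_of_isConstructible_range {T : Scheme.{u}} (g : T ⟶ X) [IsImmersion g]
    [CompactSpace X] (hg : IsConstructible (Set.range g)) : CompactSpace T := by
  have h := ConstrSets.isRetrocompact_of_isConstructible hg isCompact_univ isOpen_univ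
  rw [Set.inter_univ, ← Set.image_univ, ← g.isEmbedding.isCompact_iff] at h
  exact ⟨h⟩

end Groth.Agent.EtSh
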