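import Groth.Agent.EtSh.Strata
import Mathlib.AlgebraicGeometry.Morphisms.QuasiSeparated

/-!
# Constructible abelian étale sheaves: locality and inverse images
-/

set_option autoImplicit false
set_option backward.isDefEq.respectTransparency.types false

universe u

open CategoryTheory CategoryTheory.Limits AlgebraicGeometry Opposite Topology TopologicalSpace

namespace Groth.Agent.EtSh

theorem isRetrocompact_of_isCompact {T : Type*} [TopologicalSpace T] [QuasiSeparatedSpace T]
    {s : Set T} (hs : IsOpen s) (h : IsCompact s) : IsRetrocompact s :=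
  fun t ht ht' => QuasiSeparatedSpace.inter_isCompact s t hs h ht' ht

variable {X Y : Scheme.{u}}

/-- constructibility inside an open, from constructibility inside a quasi-compact open piece -/
theorem isConstructible_preimage_val_of_le {W U : X.Opens} (hWU : W ≤ U)
    (hW : IsCompact (W : Set X)) (hU : QuasiSeparatedSpace ↥(U : Set X)) {E : Set X}
    (hEW : E ⊆ (W : Set X)) (h : IsConstructible ((Subtype.val : ↥(W : Set X) → X) ⁻¹' E)) :
    IsConstructible ((Subtype.val : ↥(U : Set X) → X) ⁻¹' E) := by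
  let φ : ↥(W : Set X) → ↥(U : Set X) := Set.inclusion hWU
  have hφ : IsOpenEmbedding φ := IsOpenEmbedding.of_comp φ U.2.isOpenEmbedding_subtypeVal W.2.isOpenEmbedding_subtypeVal
  have : CompactSpace ↥(W : Set X) := isCompact_iff_compactSpace.1 hW
  have hrc : IsRetrocompact (Set.range φ) :=
    isRetrocompact_of_isCompact hφ.isOpen_range (isCompact_range hφ.continuous)
  have e : (Subtype.val : ↥(U : Set X) → X) ⁻¹' E = φ '' ((Subtype.val : ↥(W : Set X) → X) ⁻¹' E) := by
    ext x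
    exact ⟨fun hx => ⟨⟨x.1, hEW hx⟩, hx, rfl⟩, by rintro ⟨w, hw, rfl⟩; exact hw⟩
  rw [e]
  exact h.image_of_isOpenEmbedding hφ hrc

/-- gluing stratifications -/
theorem adaptedStrata_of_openCover (F : EtCoh.Ab X) (U : X.Opens)
    (hU : QuasiSeparatedSpace ↥(U : Set X)) {κ : Type*} [Finite κ] (W : κ → X.Opens)
    (hW : ∀ k, IsCompact (W k : Set X)) (hWU : ∀ k, W k ≤ U) (hcov : (U : Set X) ⊆ ⋃ k, (W k : Set X))
    (h : ∀ k, EtPBC.AdaptedStrata F (W k : Set X)) : EtPBC.AdaptedStrata F (U : Set X) := by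
  choose n T g hg hc hd hun hflc using h
  have : ∀ p : Σ k, Fin (n k), IsImmersion (g p.1 p.2) := fun p => hg p.1 p.2
  refine adaptedStrata_of_cover F U (fun p : Σ k, Fin (n k) => g p.1 p.2) (fun p => ?_) ?_
    fun p => hflc p.1 p.2
  · refine isConstructible_preimage_val_of_le (hWU p.1) (hW p.1) hU ?_ (hc p.1 p.2)
    rw [← hun p.1]
    exact Set.subset_iUnion (fun i => Set.range (g p.1 i).base) p.2
  · refine hcov.trans (Set.iUnion_subset fun k => ?_)
    rw [← hun k]
    exact Set.iUnion_subset fun i => Set.subset_iUnion_of_subset ⟨k, i⟩ subset_rfl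

/-- stratifications restrict to open subsets -/
theorem adaptedStrata_of_le {F : EtCoh.Ab X} {S U : X.Opens} (hUS : U ≤ S)
    (h : EtPBC.AdaptedStrata F (S : Set X)) : EtPBC.AdaptedStrata F (U : Set X) := by
  obtain ⟨n, T, g, hg, hc, -, hun, hflc⟩ := h
  refine adaptedStrata_of_cover F U g (fun i => ?_) ?_ fun i => hflc i
  · exact (hc i).preimage_of_isOpenEmbedding (f := Set.inclusion hUS)
      (IsOpenEmbedding.of_comp (Set.inclusion hUS) S.2.isOpenEmbedding_subtypeVal U.2.isOpenEmbedding_subtypeVal)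
  · rw [hun]
    exact hUS

/-- stratifications pull back -/
theorem adaptedStrata_pull (f : X ⟶ Y) {F : EtCoh.Ab Y} {V : Y.Opens} {U : X.Opens}
    (hV : IsAffineOpen V) (hU : IsAffineOpen U) (hUV : U ≤ f ⁻¹ᵁ V)
    (h : EtPBC.AdaptedStrata F (V : Set Y)) :
    EtPBC.AdaptedStrata ((EtCoh.pull f).obj F) (U : Set X) := by
  obtain ⟨n, T, g, hg, hc, -, hun, hflc⟩ := h
  let k : U.toScheme ⟶ Y := U.ι ≫ f
  let p : ∀ i, pullback (g i) k ⟶ X := fun i => pullback.snd (g i) k ≫ U.ι
  have hp : ∀ i, IsImmersion (p i) := fun i => by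
    have : IsImmersion (pullback.snd (g i) k) :=
      MorphismProperty.pullback_snd (P := @IsImmersion) _ _ (hg i)
    exact inferInstanceAs (IsImmersion (pullback.snd (g i) k ≫ U.ι))
  have hr : ∀ i, Set.range (p i) = (U : Set X) ∩ f ⁻¹' Set.range (g i) := fun i => by
    rw [Scheme.Hom.comp_base, TopCat.coe_comp, Set.range_comp, Scheme.Pullback.range_snd]
    ext x
    constructor
    · rintro ⟨y, hy, rfl⟩
      exact ⟨y.2, hy⟩
    · rintro ⟨hx, hfx⟩
      exact ⟨⟨x, hx⟩, hfx, rfl⟩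
  refine adaptedStrata_of_cover _ U p (fun i => ?_) ?_ fun i => ?_
  · have : IsAffine U.toScheme := hU
    have : IsAffine V.toScheme := hV
    let r := f.resLE V U hUV
    let φ : ↥(U : Set X) → ↥(V : Set Y) := fun x => r.base x
    have hφ : Continuous φ := r.continuous
    have e : (Subtype.val : ↥(U : Set X) → X) ⁻¹' Set.range (p i) =
        φ ⁻¹' ((Subtype.val : ↥(V : Set Y) → Y) ⁻¹' Set.range (g i)) := by
      rw [hr]
      ext x
      have hx : (r.base x).1 = f.base x.1 :=
        congrArg (fun q : U.toScheme ⟶ Y => q.base x) (f.resLE_comp_ι hUV)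
      simp only [Set.mem_preimage, Set.mem_inter_iff]
      rw [show ((φ x).1) = f.base x.1 from hx]
      exact ⟨fun h => h.2, fun h => ⟨x.2, h⟩⟩
    rw [e]
    have : CompactSpace ↥(V : Set Y) := isCompact_iff_compactSpace.1 hV.isCompact
    have : QuasiSeparatedSpace ↥(U : Set X) := quasiSeparatedSpace_of_isAffine U.toScheme
    refine (hc i).preimage hφ fun s hso hs => isRetrocompact_of_isCompact (hso.preimage hφ) ?_
    have hs' : IsCompact s := by simpa using hs isCompact_univ isOpen_univ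
    exact QuasiCompact.isCompact_preimage (f := r) s hso hs'
  · intro x hx
    have hfx : f.base x ∈ (V : Set Y) := hUV hx
    rw [← hun] at hfx
    obtain ⟨i, hi⟩ := Set.mem_iUnion.1 hfx
    exact Set.mem_iUnion.2 ⟨i, (hr i).ge ⟨hx, hi⟩⟩
  · have w : pullback.fst (g i) k ≫ g i = p i ≫ f := by
      rw [Category.assoc]
      exact pullback.condition
    exact isFLC_of_iso ((EtCore.pullCongr w).app F ≪≫ (EtCore.pullComp (p i) f).app F)
      (isFLC_pull_comp _ _ (hflc i))

theorem exists_finite_affines {U : X.Opens} (hU : IsCompact (U : Set X)) (P : X.Opens → Prop)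
    (h : ∀ x ∈ U, ∃ W : X.Opens, IsAffineOpen W ∧ x ∈ W ∧ W ≤ U ∧ P W) :
    ∃ (n : ℕ) (W : Fin n → X.Opens), (∀ k, IsAffineOpen (W k) ∧ W k ≤ U ∧ P (W k)) ∧
      (U : Set X) ⊆ ⋃ k, (W k : Set X) := by
  choose W hW using h
  obtain ⟨t, ht⟩ := hU.elim_finite_subcover (fun x : {x // x ∈ U} => (W x.1 x.2 : Set X))
    (fun x => (W x.1 x.2).2) (fun x hx => Set.mem_iUnion.2 ⟨⟨x, hx⟩, (hW x hx).2.1⟩)
  refine ⟨t.card, fun k => W (t.equivFin.symm k).1.1 (t.equivFin.symm k).1.2,
    fun k => ⟨(hW _ _).1, (hW _ _).2.2.1, (hW _ _).2.2.2⟩, ht.trans (Set.iUnion₂_subset fun x hx => ?_)⟩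
  exact Set.subset_iUnion_of_subset (t.equivFin ⟨x, hx⟩) (by
    show (W x.1 x.2 : Set X) ⊆ (W (t.equivFin.symm (t.equivFin ⟨x, hx⟩)).1.1 _ : Set X)
    have e : (t.equivFin.symm (t.equivFin ⟨x, hx⟩)).1 = x := by rw [Equiv.symm_apply_apply]
    generalize (t.equivFin.symm (t.equivFin ⟨x, hx⟩)).1 = z at e
    subst e
    exact subset_rfl)

theorem isConstructible_pull (f : X ⟶ Y) {F : EtCoh.Ab Y} (hF : EtPBC.IsConstructible F) :
    EtPBC.IsConstructible ((EtCoh.pull f).obj F) := fun U hU => by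
  obtain ⟨n, W, hW, hcov⟩ := exists_finite_affines hU.isCompact
    (fun W => EtPBC.AdaptedStrata ((EtCoh.pull f).obj F) (W : Set X)) fun x hx => by
      obtain ⟨V, hV, hxV, -⟩ := exists_isAffineOpen_mem_and_subset (x := f.base x) (U := ⊤) trivial
      obtain ⟨W, hW, hxW, hWU⟩ :=
        exists_isAffineOpen_mem_and_subset (x := x) (U := U ⊓ f ⁻¹ᵁ V) ⟨hx, hxV⟩
      exact ⟨W, hW, hxW, fun y hy => (hWU hy).1,
        adaptedStrata_pull f hV hW (fun y hy => (hWU hy).2) (hF V hV)⟩
  have : IsAffine U.toScheme := hU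
  exact adaptedStrata_of_openCover _ U (quasiSeparatedSpace_of_isAffine U.toScheme) W
    (fun k => (hW k).1.isCompact) (fun k => (hW k).2.1) hcov fun k => (hW k).2.2

/-- transport along an open subscheme -/
theorem adaptedStrata_of_pull_open {F : EtCoh.Ab X} (O : X.Opens) (W' : O.toScheme.Opens)
    (h : EtPBC.AdaptedStrata ((EtCoh.pull O.ι).obj F) (W' : Set O.toScheme)) :
    EtPBC.AdaptedStrata F ((O.ι ''ᵁ W' : X.Opens) : Set X) := by
  obtain ⟨n, T, g, hg, hc, -, hun, hflc⟩ := h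
  have : ∀ i, IsImmersion (g i ≫ O.ι) := fun i => inferInstance
  refine adaptedStrata_of_cover F _ (fun i => g i ≫ O.ι) (fun i => ?_) ?_
    fun i => isFLC_of_iso ((EtCore.pullComp (g i) O.ι).symm.app F) (hflc i)
  · let φ : ↥((O.ι ''ᵁ W' : X.Opens) : Set X) → ↥(W' : Set O.toScheme) := fun x =>
      ⟨⟨x.1, (show x.1 ∈ O by obtain ⟨y, -, hy⟩ := x.2; rw [← hy]; exact y.2)⟩, by
        obtain ⟨y, hy, e⟩ := x.2
        have key : ∀ z : O.toScheme, z.1 = x.1 → z ∈ (W' : Set O.toScheme) := fun z hz => by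
          rw [show z = y from Subtype.ext (hz.trans e.symm)]
          exact hy
        exact key _ rfl⟩
    have hφc : Continuous φ :=
      Continuous.subtype_mk (Continuous.subtype_mk continuous_subtype_val _) _
    have e : (Subtype.val : ↥((O.ι ''ᵁ W' : X.Opens) : Set X) → X) ⁻¹' Set.range (g i ≫ O.ι) =
        φ ⁻¹' ((Subtype.val : ↥(W' : Set O.toScheme) → O.toScheme) ⁻¹' Set.range (g i)) := by
      ext x
      rw [Set.mem_preimage, Scheme.Hom.comp_base, TopCat.coe_comp, Set.range_comp]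
      exact ⟨fun ⟨y, hy, hyx⟩ => by
          have : y = (φ x).1 := Subtype.ext hyx
          rwa [Set.mem_preimage, Set.mem_preimage, ← this],
        fun hx => ⟨(φ x).1, hx, rfl⟩⟩
    rw [e]
    have hemb : IsOpenEmbedding φ := by
      have he : IsOpenEmbedding ((O.ι : O.toScheme → X) ∘ (Subtype.val : ↥(W' : Set O.toScheme) → _) ∘ φ) :=
        (O.ι ''ᵁ W').2.isOpenEmbedding_subtypeVal
      exact IsOpenEmbedding.of_comp φ (O.ι.isOpenEmbedding.comp W'.2.isOpenEmbedding_subtypeVal) he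
    exact (hc i).preimage_of_isOpenEmbedding hemb
  · rintro _ ⟨y, hy, rfl⟩
    have hy' : y ∈ ⋃ i, Set.range (g i) := hun.ge hy
    obtain ⟨i, z, hz⟩ := Set.mem_iUnion.1 hy'
    exact Set.mem_iUnion.2 ⟨i, z, by rw [← hz]; rfl⟩

theorem isConstructible_of_open_cover {F : EtCoh.Ab X} {ι : Type u} (O : ι → X.Opens)
    (hO : ⨆ i, O i = ⊤) (h : ∀ i, EtPBC.IsConstructible ((EtCoh.pull (O i).ι).obj F)) :
    EtPBC.IsConstructible F := fun U hU => by
  obtain ⟨n, W, hW, hcov⟩ := exists_finite_affines hU.isCompact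
    (fun W => EtPBC.AdaptedStrata F (W : Set X)) fun x hx => by
      obtain ⟨i, hi⟩ := Opens.mem_iSup.1 (hO.ge (show x ∈ (⊤ : X.Opens) from trivial))
      obtain ⟨W, hW, hxW, hWU⟩ :=
        exists_isAffineOpen_mem_and_subset (x := x) (U := U ⊓ O i) ⟨hx, hi⟩
      have hle : W ≤ O i := fun y hy => (hWU hy).2
      have e : (O i).ι ''ᵁ ((O i).ι ⁻¹ᵁ W) = W := by
        rw [Scheme.Hom.image_preimage_eq_opensRange_inf, Scheme.Opens.opensRange_ι]
        exact inf_eq_right.2 hle
      refine ⟨W, hW, hxW, fun y hy => (hWU hy).1, ?_⟩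
      rw [← e]
      exact adaptedStrata_of_pull_open (O i) _ (h i _ (hW.preimage_of_isOpenImmersion _ (by
        rw [Scheme.Opens.opensRange_ι]; exact hle)))
  have : IsAffine U.toScheme := hU
  exact adaptedStrata_of_openCover _ U (quasiSeparatedSpace_of_isAffine U.toScheme) W
    (fun k => (hW k).1.isCompact) (fun k => (hW k).2.1) hcov fun k => (hW k).2.2

theorem isConstructible_iff_univ [CompactSpace X] [QuasiSeparatedSpace X] (F : EtCoh.Ab X) :
    EtPBC.IsConstructible F ↔ EtPBC.AdaptedStrata F (Set.univ : Set X) := by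
  refine ⟨fun h => ?_, fun h U hU => adaptedStrata_of_le (S := ⊤) le_top h⟩
  obtain ⟨n, W, hW, hcov⟩ := exists_finite_affines (U := (⊤ : X.Opens)) isCompact_univ
    (fun _ => True) fun x _ => by
      obtain ⟨W, hW, hxW, -⟩ := exists_isAffineOpen_mem_and_subset (x := x) (U := ⊤) trivial
      exact ⟨W, hW, hxW, le_top, trivial⟩
  exact adaptedStrata_of_openCover F ⊤ ((quasiSeparatedSpace_congr (Homeomorph.Set.univ X)).2 inferInstance) W
    (fun k => (hW k).1.isCompact) (fun k => le_top) hcov fun k => h _ (hW k).1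

end Groth.Agent.EtSh
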