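import Groth.Agent.EtSh.StalkCard
import Groth.Agent.EtSh.Constructible
import Groth.Agent.EtSh.ConstructibleSerre
import Groth.Agent.Spectral.Basic

/-!
# Stalks of subsheaves of constructible sheaves along the closure of a point
-/

set_option autoImplicit false
set_option backward.isDefEq.respectTransparency.types false

universe u

open CategoryTheory CategoryTheory.Limits AlgebraicGeometry Opposite

namespace Groth.Agent.EtSh

variable {X : Scheme.{u}}

/-- near every point the stalks of a constructible sheaf are finite of constant order along its closure -/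
theorem exists_card_eq {F : EtCoh.Ab X} (hF : EtPBC.IsConstructible F) (x : X) :
    ∃ (V : X.Opens) (n : ℕ), x ∈ V ∧ ∀ (Ω : Type u) [Field Ω] [IsSepClosed Ω]
      (ξ : Spec (CommRingCat.of Ω) ⟶ X), ξ.base default ∈ V → x ⤳ ξ.base default →
        Finite ((EtCoh.stalk ξ).obj F) ∧ Nat.card ((EtCoh.stalk ξ).obj F) = n := by
  obtain ⟨U, hU, hxU, -⟩ := exists_isAffineOpen_mem_and_subset (x := x) (U := ⊤) trivial
  obtain ⟨m, T, g, hg, -, -, hun, hflc⟩ := hF U hU
  obtain ⟨i, t, ht⟩ := Set.mem_iUnion.1 (hun.ge hxU)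
  have := hg i
  obtain ⟨W, y, hy, M, _, _, e, he⟩ := (isFLC_iff_trivializes _).1 (hflc i) t
  have : Etale W.hom := W.prop
  obtain ⟨O', Z, hO', hZ, e'⟩ := (g i).isLocallyClosed_range
  obtain ⟨O, hO, hOe⟩ := (g i).isEmbedding.isInducing.isOpen_iff.1 W.hom.isOpenMap.isOpen_range
  have htO : t ∈ (g i).base ⁻¹' O := hOe.ge ⟨y, hy⟩
  refine ⟨⟨O ∩ O', hO.inter hO'⟩, Nat.card M, ⟨ht ▸ htO, (e'.le ⟨t, ht⟩).1⟩, fun Ω _ _ ξ hV hx => ?_⟩
  obtain ⟨t', ht'⟩ : ξ.base default ∈ Set.range (g i) :=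
    e'.ge ⟨hV.2, hx.mem_closed hZ (e'.le ⟨t, ht⟩).2⟩
  obtain ⟨ζ, rfl⟩ := exists_lift_immersion (g i) ξ ⟨t', ht'⟩
  obtain ⟨w, hw⟩ : t' ∈ Set.range W.hom := hOe.le (show (g i).base t' ∈ O from ht'.symm ▸ hV.1)
  obtain ⟨v, -⟩ := exists_fib (ξ := ζ) w (hw.trans ((g i).isEmbedding.injective ht'))
  have : Finite ↑((EtCoh.pull (g i) ⋙ EtCoh.stalk ζ).obj F) := Finite.of_surjective _ (he Ω ζ v).2
  exact ⟨Finite.of_equiv _ ((stalkPullIso (g i) ζ).app F).addCommGroupIsoToAddEquiv.toEquiv,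
    (Nat.card_congr ((stalkPullIso (g i) ζ).app F).addCommGroupIsoToAddEquiv.toEquiv).symm.trans
      (Nat.card_eq_of_bijective _ (he Ω ζ v)).symm⟩

/-- injectivity of germs spreads to specialisations -/
theorem injective_germ_of_specializes (G : EtCoh.Ab X) {W : X.Etale} {M : Type} [AddCommGroup M]
    (e : M →+ EtCoh.sect G W) {Ω Ω' : Type u} [Field Ω] [IsSepClosed Ω] [Field Ω'] [IsSepClosed Ω']
    {ξ : Spec (CommRingCat.of Ω) ⟶ X} (t : Fib ξ W) {ξ' : Spec (CommRingCat.of Ω') ⟶ X} (t' : Fib ξ' W)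
    (h : fpt t ⤳ fpt t') (hinj : Function.Injective fun m => germ ξ G t (e m)) :
    Function.Injective fun m => germ ξ' G t' (e m) := by
  refine (injective_iff_map_eq_zero ((germ ξ' G t').hom.comp e)).2 fun m hm => ?_
  obtain ⟨V, k, z, hz, hk⟩ := (germ_eq_zero_iff G t' (e m)).1 hm
  have : Etale k.left := etale_left k
  obtain ⟨z', hz'⟩ := h.mem_open k.left.isOpenMap.isOpen_range ⟨z, hz⟩
  obtain ⟨w, hw⟩ := exists_fib_map k z' t hz'
  refine hinj ?_
  show germ ξ G t (e m) = germ ξ G t (e 0)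
  rw [map_zero, map_zero, ← hw, ← germ_map, hk, map_zero]

/-- membership in a subsheaf spreads to generalisations -/
theorem mem_range_of_specializes {G F : EtCoh.Ab X} (ι : G ⟶ F) {W : X.Etale} (s : EtCoh.sect F W)
    {Ω Ω' : Type u} [Field Ω] [IsSepClosed Ω] [Field Ω'] [IsSepClosed Ω']
    {ξ : Spec (CommRingCat.of Ω) ⟶ X} (t : Fib ξ W) {ξ' : Spec (CommRingCat.of Ω') ⟶ X} (t' : Fib ξ' W)
    (h : fpt t ⤳ fpt t') (hs : germ ξ' F t' s ∈ Set.range ((EtCoh.stalk ξ').map ι)) :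
    germ ξ F t s ∈ Set.range ((EtCoh.stalk ξ).map ι) := by
  obtain ⟨p, hp⟩ := hs
  obtain ⟨V, v, r, rfl⟩ := germ_surjective G p
  rw [stalk_map_germ] at hp
  obtain ⟨⟨A, w⟩, ⟨a, ha⟩, ⟨b, hb⟩, -⟩ := IsCofilteredOrEmpty.cone_objs
    (Functor.elementsMk (Scheme.pointSmallEtale ξ').fiber W t')
    (Functor.elementsMk (Scheme.pointSmallEtale ξ').fiber V v)
  have e : germ ξ' F w (F.obj.map a.op s) = germ ξ' F w (ι.hom.app (op A) (G.obj.map b.op r)) := by
    rw [germ_map, NatTrans.naturality_apply ι.hom b.op r, germ_map, ha, hb, hp]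
  obtain ⟨A', k, z, hk, hh⟩ := (germ_eq_iff F w _ _).1 e
  have : Etale (k ≫ a).left := etale_left _
  have hz : (k ≫ a).left.base z = fpt t' :=
    (congrArg a.left.base hk).trans ((map_fpt a w).symm.trans (congrArg fpt ha))
  obtain ⟨z', hz'⟩ := h.mem_open (k ≫ a).left.isOpenMap.isOpen_range ⟨z, hz⟩
  obtain ⟨u, hu⟩ := exists_fib_map (k ≫ a) z' t hz'
  refine ⟨germ ξ G u (G.obj.map (k ≫ b).op r), ?_⟩
  rw [stalk_map_germ, ← hu, ← germ_map, NatTrans.naturality_apply ι.hom (k ≫ b).op r]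
  simp only [op_comp, Functor.map_comp, ConcreteCategory.comp_apply]
  rw [hh, ← NatTrans.naturality_apply ι.hom b.op r]

/-- lower semicontinuity along the closure of a point -/
theorem exists_card_le (G : EtCoh.Ab X) {Ω : Type u} [Field Ω] [IsSepClosed Ω]
    (ξ : Spec (CommRingCat.of Ω) ⟶ X) [Finite ((EtCoh.stalk ξ).obj G)] :
    ∃ V : X.Opens, ξ.base default ∈ V ∧ ∀ (Ω' : Type u) [Field Ω'] [IsSepClosed Ω']
      (ξ' : Spec (CommRingCat.of Ω') ⟶ X), ξ'.base default ∈ V → ξ.base default ⤳ ξ'.base default →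
        Finite ((EtCoh.stalk ξ').obj G) →
          Nat.card ((EtCoh.stalk ξ).obj G) ≤ Nat.card ((EtCoh.stalk ξ').obj G) := by
  obtain ⟨M, _, _, U, t, e, he⟩ := exists_hom_sections G ξ
  obtain ⟨O, htO, hO⟩ := exists_open_specializes' U (fpt t)
  have : Etale U.hom := U.prop
  refine ⟨⟨U.hom '' (O : Set U.left), U.hom.isOpenMap _ O.2⟩, ⟨_, htO, hom_fpt t⟩,
    fun Ω' _ _ ξ' hV hx hfin => ?_⟩
  obtain ⟨y, hy, hyξ⟩ := hV
  obtain ⟨t', rfl⟩ := exists_fib (ξ := ξ') y hyξ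
  rw [← Nat.card_eq_of_bijective _ he]
  exact Nat.card_le_card_of_injective _ (injective_germ_of_specializes G e t t'
    (hO _ hy (by rw [hom_fpt, hom_fpt]; exact hx)) he.1)

/-- upper semicontinuity for subsheaves, uniformly in the subsheaf -/
theorem exists_card_sub_le {F : EtCoh.Ab X} (hF : EtPBC.IsConstructible F) (x : X) :
    ∃ (V : X.Opens) (Ω : Type u) (_ : Field Ω) (_ : IsSepClosed Ω) (ξ : Spec (CommRingCat.of Ω) ⟶ X),
      x ∈ V ∧ ξ.base default = x ∧ ∀ (G : EtCoh.Ab X) (ι : G ⟶ F) [Mono ι],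
        Finite ((EtCoh.stalk ξ).obj G) ∧ ∀ (Ω' : Type u) [Field Ω'] [IsSepClosed Ω']
          (ξ' : Spec (CommRingCat.of Ω') ⟶ X), ξ'.base default ∈ V → x ⤳ ξ'.base default →
            Finite ((EtCoh.stalk ξ').obj G) ∧
              Nat.card ((EtCoh.stalk ξ').obj G) ≤ Nat.card ((EtCoh.stalk ξ).obj G) := by
  obtain ⟨V₀, n, hxV₀, hV₀⟩ := exists_card_eq hF x
  obtain ⟨Ω, _, _, ξ, hξ⟩ := exists_geometric_point x
  have hξx : ξ.base default = x := Set.eq_of_mem_singleton (hξ.le ⟨default, rfl⟩)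
  obtain ⟨hfinξ, hcardξ⟩ := hV₀ Ω ξ (hξx.symm ▸ hxV₀) (hξx ▸ le_rfl)
  obtain ⟨M, _, _, U, t, e, he⟩ := exists_hom_sections F ξ
  obtain ⟨O, htO, hO⟩ := exists_open_specializes' U (fpt t)
  have : Etale U.hom := U.prop
  refine ⟨⟨(U.hom '' (O : Set U.left)) ∩ (V₀ : Set X), (U.hom.isOpenMap _ O.2).inter V₀.2⟩, Ω,
    inferInstance, inferInstance, ξ, ⟨⟨_, htO, (hom_fpt t).trans hξx⟩, hxV₀⟩, hξx, fun G ι _ => ?_⟩
  have hG : Finite ((EtCoh.stalk ξ).obj G) := Finite.of_injective _ (stalk_map_injective ι)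
  refine ⟨hG, fun Ω' _ _ ξ' hV hx => ?_⟩
  obtain ⟨⟨y, hy, hyξ⟩, hV'⟩ := hV
  obtain ⟨t', rfl⟩ := exists_fib (ξ := ξ') y hyξ
  have hspec : fpt t ⤳ fpt t' := hO _ hy (by rw [hom_fpt, hom_fpt, hξx]; exact hx)
  obtain ⟨hfin', hcard'⟩ := hV₀ Ω' ξ' hV' hx
  have hb : Function.Bijective fun m => germ ξ' F t' (e m) :=
    (Nat.bijective_iff_injective_and_card _).2 ⟨injective_germ_of_specializes F e t t' hspec he.1,
      (Nat.card_eq_of_bijective _ he).trans (hcardξ.trans hcard'.symm)⟩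
  have hG' : Finite ((EtCoh.stalk ξ').obj G) := Finite.of_injective _ (stalk_map_injective ι)
  refine ⟨hG', ?_⟩
  have key : ∀ p, ∃ q, ∀ m, germ ξ' F t' (e m) = (EtCoh.stalk ξ').map ι p →
      (EtCoh.stalk ξ).map ι q = germ ξ F t (e m) := fun p => by
    obtain ⟨m, hm⟩ := hb.2 ((EtCoh.stalk ξ').map ι p)
    obtain ⟨q, hq⟩ := mem_range_of_specializes ι (e m) t t' hspec ⟨p, hm.symm⟩
    exact ⟨q, fun m' hm' => by rw [hq, hb.1 (hm'.trans hm.symm)]⟩
  choose q hq using key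
  refine Nat.card_le_card_of_injective q fun p p' hpp => stalk_map_injective ι ?_
  obtain ⟨m, hm⟩ := hb.2 ((EtCoh.stalk ξ').map ι p)
  obtain ⟨m', hm'⟩ := hb.2 ((EtCoh.stalk ξ').map ι p')
  have : m = m' := he.1 ((hq p m hm).symm.trans (hpp ▸ hq p' m' hm'))
  rw [← hm, ← hm', this]

/-- a covering of an affine open by pieces of closures of points has a finite subcover -/
theorem exists_finite_pieces [IsLocallyNoetherian X] {U : X.Opens} (hU : IsAffineOpen U)
    (V : X → X.Opens) (hV : ∀ x, x ∈ V x) :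
    ∃ t : Finset X, (∀ x ∈ t, Topology.IsConstructible
        ((Subtype.val : ↥(U : Set X) → X) ⁻¹' ((V x : Set X) ∩ closure {x}))) ∧
      (U : Set X) ⊆ ⋃ x ∈ t, (V x : Set X) ∩ closure {x} := by
  classical
  have : IsAffine U.toScheme := hU
  have hN : TopologicalSpace.NoetherianSpace U.toScheme :=
    have := IsLocallyNoetherian.component_noetherian (X := X) ⟨U, hU⟩
    noetherianSpace_of_isAffineOpen U hU
  let E : U → Set U.toScheme := fun x => (Subtype.val : U → X) ⁻¹' ((V x.1 : Set X) ∩ closure {x.1})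
  have hE : ∀ x, Topology.IsConstructible (E x) := fun x => by
    have hop : ∀ O' : Set U.toScheme, IsOpen O' → Topology.IsConstructible O' := fun O' hO' =>
      (show IsRetrocompact O' from fun _ _ _ => TopologicalSpace.NoetherianSpace.isCompact _).isConstructible hO'
    exact (hop _ ((V x.1).2.preimage continuous_subtype_val)).inter
      (Topology.IsConstructible.of_compl (hop _ (isClosed_closure.preimage continuous_subtype_val).isOpen_compl))
  have hcl := fun x => Groth.Agent.Spectral.isClopen_con_of_isConstructible (X := U.toScheme) (hE x)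
  have hK := @CompactSpace.isCompact_univ U.toScheme (constructibleTopology U.toScheme)
    Groth.Agent.Spectral.compactSpace_con
  obtain ⟨t, ht⟩ := @IsCompact.elim_finite_subcover U.toScheme (constructibleTopology U.toScheme) _ _ hK E
    (fun x => (hcl x).2) fun x _ => Set.mem_iUnion.2 ⟨x, hV _, subset_closure rfl⟩
  refine ⟨t.image Subtype.val, fun x hx => ?_, fun y hy => ?_⟩
  · obtain ⟨a, -, rfl⟩ := Finset.mem_image.1 hx
    exact hE a
  · obtain ⟨a, ha, hya⟩ := Set.mem_iUnion₂.1 (ht (Set.mem_univ ⟨y, hy⟩))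
    exact Set.mem_iUnion₂.2 ⟨a.1, Finset.mem_image.2 ⟨a, ha, rfl⟩, hya⟩

end Groth.Agent.EtSh
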