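import Groth.Agent.EtSh.ExtZeroFLC
import Groth.Agent.EtSh.ConstructibleSerre
import Groth.Agent.EtSh.NoethSub
import Mathlib.Data.ZMod.Basic

/-!
# The constructible generators `j_! ℤ/n` of torsion sheaves
-/

set_option autoImplicit false
set_option backward.isDefEq.respectTransparency.types false

universe u

open CategoryTheory CategoryTheory.Limits AlgebraicGeometry Opposite

namespace Groth.Agent.EtSh

variable {X : Scheme.{u}}

/-- `j_! ℤ/n` -/
noncomputable def gen (U : X.Etale) (n : ℕ) : EtCoh.Ab X :=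
  have : Etale U.hom := U.prop
  (EtShriek.extZero U.hom).obj (EtCoh.const U.left (ZMod n))

theorem isConstructible_gen [CompactSpace X] [QuasiSeparatedSpace X] (U : X.Etale) (hU : IsAffine U.left)
    (n : ℕ) [NeZero n] : EtPBC.IsConstructible (gen U n) :=
  have : Etale U.hom := U.prop
  @isConstructible_extZero_of_isFLC U.left X U.hom _ _ inferInstance (quasiSeparatedSpace_of_isAffine U.left) _ _ _
    (isFLC_const (ZMod n))

/-- maps out of `j_! ℤ/n` are sections killed by `n` -/
theorem exists_gen_elem (U : X.Etale) (n : ℕ) :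
    ∃ e : EtCoh.sect (gen U n) U, n • e = 0 ∧
      (∀ (F : EtCoh.Ab X) (s : EtCoh.sect F U), n • s = 0 → ∃ φ : gen U n ⟶ F, φ.hom.app (op U) e = s) ∧
      ∀ (F : EtCoh.Ab X) (φ ψ : gen U n ⟶ F), φ.hom.app (op U) e = ψ.hom.app (op U) e → φ = ψ := by
  have : Etale U.hom := U.prop
  let π : U ⟶ (EtShriek.compEtale U.hom).obj (EtCoh.top U.left) :=
    MorphismProperty.Over.homMk (𝟙 _) (by
      show 𝟙 _ ≫ 𝟙 _ ≫ U.hom = U.hom
      rw [Category.id_comp, Category.id_comp])
  let π' : (EtShriek.compEtale U.hom).obj (EtCoh.top U.left) ⟶ U :=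
    MorphismProperty.Over.homMk (𝟙 _) (by
      show 𝟙 _ ≫ U.hom = 𝟙 _ ≫ U.hom
      rfl)
  have h1 : π ≫ π' = 𝟙 U := MorphismProperty.Over.Hom.ext (Category.id_comp _)
  have h2 : π' ≫ π = 𝟙 _ := MorphismProperty.Over.Hom.ext (Category.id_comp _)
  let adj := (EtCore.constAdj U.left).comp (EtShriek.extZeroAdj U.hom)
  let A : AddCommGrpCat.{u + 1} := AddCommGrpCat.of (ULift.{u + 1} (ZMod n))
  let E : EtCoh.Ab X := gen U n
  let u₁ : A ⟶ E.obj.obj (op U) := adj.unit.app A ≫ E.obj.map π.op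
  have key : ∀ (F : EtCoh.Ab X) (φ : E ⟶ F),
      u₁ ≫ φ.hom.app (op U) = adj.homEquiv A F φ ≫ F.obj.map π.op := fun F φ => by
    refine (Category.assoc _ _ _).trans ((congrArg (adj.unit.app A ≫ ·) (φ.hom.naturality π.op)).trans ?_)
    rw [Adjunction.homEquiv_unit, Category.assoc]
    rfl
  refine ⟨u₁ (ULift.up 1), ?_, fun F s hs => ?_, fun F φ ψ h => ?_⟩
  · rw [← map_nsmul]
    refine (congrArg u₁ ?_).trans (map_zero _)
    exact ULift.ext _ _ (by simp [nsmul_eq_mul])
  · let z : ZMod n →+ EtCoh.sect F ((EtShriek.compEtale U.hom).obj (EtCoh.top U.left)) :=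
      ZMod.lift n ⟨zmultiplesHom _ (F.obj.map π'.op s), by
        simp only [zmultiplesHom_apply, natCast_zsmul]
        rw [← map_nsmul, hs, map_zero]⟩
    let k : A ⟶ (EtShriek.restrAlong U.hom ⋙ EtCore.gsec U.left).obj F :=
      AddCommGrpCat.ofHom (z.comp AddEquiv.ulift.toAddMonoidHom)
    refine ⟨(adj.homEquiv _ _).symm k, ?_⟩
    rw [← ConcreteCategory.comp_apply, key, Equiv.apply_symm_apply, ConcreteCategory.comp_apply]
    show F.obj.map π.op (z 1) = s
    have : z 1 = F.obj.map π'.op s := by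
      show ZMod.lift n _ 1 = _
      rw [← Int.cast_one (R := ZMod n), ZMod.lift_coe]
      simp
    rw [this, ← ConcreteCategory.comp_apply, ← Functor.map_comp, ← op_comp, h1, op_id, CategoryTheory.Functor.map_id]
    rfl
  · apply (adj.homEquiv A F).injective
    refine AddCommGrpCat.hom_ext (AddMonoidHom.ext fun m => ?_)
    have hinj : Function.Injective (F.obj.map π.op) := fun a b hab => by
      have := congrArg (F.obj.map π'.op) hab
      rwa [← ConcreteCategory.comp_apply, ← ConcreteCategory.comp_apply, ← Functor.map_comp, ← op_comp, h2,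
        op_id, CategoryTheory.Functor.map_id] at this
    refine hinj ?_
    have e1 := fun χ : E ⟶ F => congrArg (fun f : A ⟶ F.obj.obj (op U) => f m) (key F χ)
    refine (e1 φ).symm.trans (Eq.trans ?_ (e1 ψ))
    obtain ⟨c, hc⟩ := ZMod.intCast_surjective m.down
    have hm : m = c • ULift.up (1 : ZMod n) := ULift.ext _ _ (by simp [← hc])
    show φ.hom.app (op U) (u₁ m) = ψ.hom.app (op U) (u₁ m)
    rw [hm, map_zsmul, map_zsmul, map_zsmul, h]

/-- stalks of constructible sheaves are finite -/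
theorem finite_stalk {F : EtCoh.Ab X} (hF : EtPBC.IsConstructible F) {Ω : Type u} [Field Ω] [IsSepClosed Ω]
    (ξ : Spec (CommRingCat.of Ω) ⟶ X) : Finite ((EtCoh.stalk ξ).obj F) := by
  obtain ⟨V, n, hV, h⟩ := exists_card_eq hF (ξ.base default)
  exact (h Ω ξ hV specializes_rfl).1

/-- near a lifting, a torsion section is killed by a positive integer on an affine neighbourhood -/
theorem exists_affine_nbhd {U : X.Etale} {Ω : Type u} [Field Ω] [IsSepClosed Ω]
    {ξ : Spec (CommRingCat.of Ω) ⟶ X} (t : Fib ξ U) :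
    ∃ (W : X.Etale) (k : W ⟶ U) (w : Fib ξ W), IsAffine W.left ∧ (Scheme.pointSmallEtale ξ).fiber.map k w = t := by
  obtain ⟨O, hO, htO, -⟩ := exists_isAffineOpen_mem_and_subset (x := fpt t) (U := (⊤ : U.left.Opens)) trivial
  obtain ⟨w, hw⟩ := exists_fib_map (pieceIncl U O) ⟨fpt t, htO⟩ t rfl
  exact ⟨pieceObj U O, pieceIncl U O, w, hO, hw⟩

end Groth.Agent.EtSh
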