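import Groth.Agent.EtSh.Stalks
import Groth.Agent.EtSh.Supp
import Groth.Agent.EtSh.Gluing
import Groth.Agent.EtSh.Generators
import Mathlib.CategoryTheory.Limits.ConcreteCategory.Filtered
import Mathlib.Algebra.Category.Grp.FilteredColimits

/-!
# Sections over affine étale schemes and filtered colimits
-/

set_option autoImplicit false
set_option backward.isDefEq.respectTransparency.types false

universe u w w'

open CategoryTheory CategoryTheory.Limits AlgebraicGeometry Opposite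

namespace Groth.Agent.EtSh

theorem exists_common_stage {J : Type w} [Category.{w'} J] [IsFiltered J] {α : Type*} (t : Finset α) (i : J)
    (k : α → J) (a : ∀ x, i ⟶ k x) : ∃ (K : J) (b : i ⟶ K), ∀ x ∈ t, ∃ r : k x ⟶ K, a x ≫ r = b := by
  classical
  induction t using Finset.induction with
  | empty => exact ⟨i, 𝟙 i, by simp⟩
  | insert x t _ ih =>
    obtain ⟨K, b, hb⟩ := ih
    let K' := IsFiltered.coeq (b ≫ IsFiltered.leftToMax K (k x)) (a x ≫ IsFiltered.rightToMax K (k x))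
    let q := IsFiltered.coeqHom (b ≫ IsFiltered.leftToMax K (k x)) (a x ≫ IsFiltered.rightToMax K (k x))
    refine ⟨K', (b ≫ IsFiltered.leftToMax K (k x)) ≫ q, fun y hy => ?_⟩
    rcases Finset.mem_insert.1 hy with rfl | hy
    · exact ⟨IsFiltered.rightToMax K (k y) ≫ q, (Category.assoc _ _ _).symm.trans (IsFiltered.coeq_condition _ _).symm⟩
    · obtain ⟨r, hr⟩ := hb y hy
      exact ⟨r ≫ IsFiltered.leftToMax K (k x) ≫ q, by rw [reassoc_of% hr, Category.assoc]⟩

variable {X : Scheme.{u}} {J : Type w} [Category.{w'} J] [IsFiltered J]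
  [HasColimitsOfShape J AddCommGrpCat.{u + 1}]
  [PreservesColimitsOfShape J (forget AddCommGrpCat.{u + 1})]
  {D : J ⥤ EtCoh.Ab X} {c : Cocone D} (hc : IsColimit c)
include hc

theorem exists_germ_rep {Ω : Type u} [Field Ω] [IsSepClosed Ω] (ξ : Spec (CommRingCat.of Ω) ⟶ X)
    (p : ↑((EtCoh.stalk ξ).obj c.pt)) : ∃ i q, (EtCoh.stalk ξ).map (c.ι.app i) q = p := by
  have : PreservesColimitsOfSize.{w', w} (EtCoh.stalk ξ) :=
    (Scheme.pointSmallEtale ξ).skyscraperSheafAdjunction.leftAdjoint_preservesColimits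
  exact Concrete.isColimit_exists_rep _ (isColimitOfPreserves (EtCoh.stalk ξ) hc) p

theorem exists_germ_eq_zero {Ω : Type u} [Field Ω] [IsSepClosed Ω] (ξ : Spec (CommRingCat.of Ω) ⟶ X)
    {i : J} (q : ↑((EtCoh.stalk ξ).obj (D.obj i))) (hq : (EtCoh.stalk ξ).map (c.ι.app i) q = 0) :
    ∃ (k : J) (a : i ⟶ k), (EtCoh.stalk ξ).map (D.map a) q = 0 := by
  have : PreservesColimitsOfSize.{w', w} (EtCoh.stalk ξ) :=
    (Scheme.pointSmallEtale ξ).skyscraperSheafAdjunction.leftAdjoint_preservesColimits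
  obtain ⟨k, a, b, h⟩ := Concrete.isColimit_exists_of_rep_eq (D ⋙ EtCoh.stalk ξ)
    (isColimitOfPreserves (EtCoh.stalk ξ) hc) (i := i) (j := i) q 0 (hq.trans (map_zero _).symm)
  exact ⟨k, a, h.trans (map_zero _)⟩

/-- a section vanishing in the colimit vanishes at a stage -/
theorem exists_sect_eq_zero {U : X.Etale} [CompactSpace U.left] {i : J} (s : EtCoh.sect (D.obj i) U)
    (hs : (c.ι.app i).hom.app (op U) s = 0) :
    ∃ (k : J) (a : i ⟶ k), (D.map a).hom.app (op U) s = 0 := by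
  classical
  have key : ∀ x : U.left, ∃ (k : J) (a : i ⟶ k) (O : U.left.Opens), x ∈ O ∧
      ∀ y ∈ O, ∃ (W : X.Etale) (g : W ⟶ U) (w : W.left), g.left.base w = y ∧
        (D.map a).hom.app (op W) ((D.obj i).obj.map g.op s) = 0 := by
    intro x
    obtain ⟨Ω, _, _, ξ, hξ⟩ := exists_geometric_point (U.hom.base x)
    obtain ⟨t, rfl⟩ := exists_fib (ξ := ξ) x (Set.eq_of_mem_singleton (hξ.le ⟨default, rfl⟩)).symm
    obtain ⟨k, a, h⟩ := exists_germ_eq_zero hc ξ (germ ξ _ t s) (by rw [stalk_map_germ, hs, map_zero])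
    rw [stalk_map_germ, germ_eq_zero_iff] at h
    obtain ⟨W, g, z, hz, hg⟩ := h
    have := etale_left g
    refine ⟨k, a, ⟨Set.range g.left.base, g.left.isOpenMap.isOpen_range⟩, ⟨z, hz⟩, ?_⟩
    rintro y ⟨w, rfl⟩
    exact ⟨W, g, w, rfl, (NatTrans.naturality_apply (D.map a).hom g.op s).trans hg⟩
  choose k a O hxO hO using key
  obtain ⟨t, ht⟩ := CompactSpace.isCompact_univ.elim_finite_subcover (fun x => (O x : Set U.left))
    (fun x => (O x).2) fun x _ => Set.mem_iUnion.2 ⟨x, hxO x⟩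
  obtain ⟨K, b, hb⟩ := exists_common_stage t i k a
  refine ⟨K, b, sect_ext _ fun y => ?_⟩
  obtain ⟨x, hx, hyx⟩ := Set.mem_iUnion₂.1 (ht (Set.mem_univ y))
  obtain ⟨W, g, w, hw, hg⟩ := hO x y hyx
  obtain ⟨r, hr⟩ := hb x hx
  refine ⟨W, g, w, hw, ?_⟩
  rw [map_zero, ← NatTrans.naturality_apply (D.map b).hom g.op s, ← hr, D.map_comp]
  show (D.map r).hom.app (op W) ((D.map (a x)).hom.app (op W) _) = 0
  rw [hg, map_zero]

/-- glueing over a finite étale covering of an affine object by affine pieces -/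
theorem exists_sect_rep {U : X.Etale} (hU : IsAffine U.left) (s : EtCoh.sect c.pt U) :
    ∃ (i : J) (r : EtCoh.sect (D.obj i) U), (c.ι.app i).hom.app (op U) r = s := by
  classical
  have key : ∀ x : U.left, ∃ (W : X.Etale) (g : W ⟶ U) (w : W.left) (k : J) (r : EtCoh.sect (D.obj k) W),
      IsAffine W.left ∧ g.left.base w = x ∧ (c.ι.app k).hom.app (op W) r = c.pt.obj.map g.op s := by
    intro x
    obtain ⟨Ω, _, _, ξ, hξ⟩ := exists_geometric_point (U.hom.base x)
    obtain ⟨t, rfl⟩ := exists_fib (ξ := ξ) x (Set.eq_of_mem_singleton (hξ.le ⟨default, rfl⟩)).symm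
    obtain ⟨k, q, hq⟩ := exists_germ_rep hc ξ (germ ξ _ t s)
    obtain ⟨V, v, r, rfl⟩ := germ_surjective _ q
    obtain ⟨ck, hck⟩ : ∃ ck : D.obj k ⟶ c.pt, ck = c.ι.app k := ⟨_, rfl⟩
    replace hq : germ ξ c.pt v (ck.hom.app (op V) r) = germ ξ c.pt t s :=
      (stalk_map_germ ck v r).symm.trans (by subst hck; exact hq)
    obtain ⟨⟨W, w⟩, ⟨a, ha⟩, ⟨b, hb⟩, -⟩ := IsCofilteredOrEmpty.cone_objs
      (Functor.elementsMk (Scheme.pointSmallEtale ξ).fiber U t)
      (Functor.elementsMk (Scheme.pointSmallEtale ξ).fiber V v)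
    have e : germ ξ c.pt w (c.pt.obj.map a.op s) =
        germ ξ c.pt w (ck.hom.app (op W) ((D.obj k).obj.map b.op r)) := by
      rw [germ_map, NatTrans.naturality_apply ck.hom b.op r, germ_map, ha, hb]
      exact hq.symm
    obtain ⟨W', g, w', hw', hh⟩ := (germ_eq_iff c.pt w _ _).1 e
    obtain ⟨t', ht'⟩ := exists_fib_map g w' w hw'
    obtain ⟨A, e', ta, hA, hta⟩ := exists_affine_nbhd t'
    refine ⟨A, e' ≫ g ≫ a, fpt ta, k, (D.obj k).obj.map (e' ≫ g ≫ b).op r, hA, ?_, ?_⟩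
    · rw [← map_fpt, Functor.map_comp_apply, Functor.map_comp_apply, hta, ht', ha]
    · subst hck
      refine (NatTrans.naturality_apply (c.ι.app k).hom (e' ≫ g ≫ b).op r).trans ?_
      simp only [op_comp, Functor.map_comp, ConcreteCategory.comp_apply]
      exact (congrArg (c.pt.obj.map e'.op) (hh.trans
        (congrArg (c.pt.obj.map g.op) (NatTrans.naturality_apply (c.ι.app k).hom b.op r)))).symm
  choose W g w k r hW hw hr using key
  obtain ⟨t, ht⟩ := CompactSpace.isCompact_univ.elim_finite_subcover (fun x => Set.range (g x).left.base)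
    (fun x => (etale_left (g x) |> fun _ => (g x).left.isOpenMap.isOpen_range))
    fun x _ => Set.mem_iUnion.2 ⟨x, w x, hw x⟩
  obtain ⟨K₀, hK₀⟩ := IsFiltered.sup_objs_exists (t.image k)
  have m : ∀ x : t, Nonempty (k x.1 ⟶ K₀) := fun x => hK₀ (Finset.mem_image_of_mem k x.2)
  let r₀ : ∀ x : t, EtCoh.sect (D.obj K₀) (W x.1) := fun x => (D.map (m x).some).hom.app (op (W x.1)) (r x.1)
  have hr₀ : ∀ x, (c.ι.app K₀).hom.app (op (W x.1)) (r₀ x) = c.pt.obj.map (g x.1).op s := fun x => by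
    rw [← hr x.1]
    exact congrArg (fun f : D.obj (k x.1) ⟶ c.pt => f.hom.app (op (W x.1)) (r x.1)) (c.w (m x).some)
  let P : t × t → X.Etale := fun p =>
    have : Etale (g p.1.1).left := etale_left _
    have : Etale (g p.2.1).left := etale_left _
    have : Etale U.hom := U.prop
    Scheme.Etale.mk ((pullback.fst (g p.1.1).left (g p.2.1).left ≫ (g p.1.1).left) ≫ U.hom)
  let p₁ : ∀ p, P p ⟶ W p.1.1 := fun p => MorphismProperty.Over.homMk (pullback.fst _ _)
    ((congrArg (pullback.fst _ _ ≫ ·) (MorphismProperty.Over.w (g p.1.1)).symm).trans (Category.assoc _ _ _).symm)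
  let p₂ : ∀ p, P p ⟶ W p.2.1 := fun p => MorphismProperty.Over.homMk (pullback.snd _ _)
    ((congrArg (pullback.snd _ _ ≫ ·) (MorphismProperty.Over.w (g p.2.1)).symm).trans
      ((Category.assoc _ _ _).symm.trans (congrArg (· ≫ U.hom) pullback.condition.symm)))
  have hp : ∀ p, p₁ p ≫ g p.1.1 = p₂ p ≫ g p.2.1 := fun p =>
    MorphismProperty.Over.Hom.ext pullback.condition
  have hPc : ∀ p, CompactSpace (P p).left := fun p => by
    have := hW p.1.1
    have := hW p.2.1
    have : IsAffine (pullback (g p.1.1).left (g p.2.1).left) := inferInstance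
    exact (inferInstance : CompactSpace (pullback (g p.1.1).left (g p.2.1).left : Scheme.{u}))
  let d : ∀ p, EtCoh.sect (D.obj K₀) (P p) := fun p =>
    (D.obj K₀).obj.map (p₁ p).op (r₀ p.1) - (D.obj K₀).obj.map (p₂ p).op (r₀ p.2)
  have hd : ∀ p, ∃ (k : J) (a : K₀ ⟶ k), (D.map a).hom.app (op (P p)) (d p) = 0 := fun p => by
    refine exists_sect_eq_zero hc (d p) ?_
    rw [map_sub, sub_eq_zero]
    refine (NatTrans.naturality_apply (c.ι.app K₀).hom (p₁ p).op (r₀ p.1)).trans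
      (((congrArg (c.pt.obj.map (p₁ p).op) (hr₀ p.1)).trans ?_).trans
        ((NatTrans.naturality_apply (c.ι.app K₀).hom (p₂ p).op (r₀ p.2)).trans
          (congrArg (c.pt.obj.map (p₂ p).op) (hr₀ p.2))).symm)
    rw [← ConcreteCategory.comp_apply, ← ConcreteCategory.comp_apply, ← Functor.map_comp, ← Functor.map_comp,
      ← op_comp, ← op_comp, hp]
  choose kd ad had using hd
  obtain ⟨K, b, hb⟩ := exists_common_stage (Finset.univ : Finset (t × t)) K₀ kd ad
  let r₁ : ∀ x : t, EtCoh.sect (D.obj K) (W x.1) := fun x => (D.map b).hom.app (op (W x.1)) (r₀ x)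
  have hagree : ∀ p, (D.obj K).obj.map (p₁ p).op (r₁ p.1) = (D.obj K).obj.map (p₂ p).op (r₁ p.2) := fun p => by
    obtain ⟨q, hq⟩ := hb p (Finset.mem_univ p)
    refine ((NatTrans.naturality_apply (D.map b).hom (p₁ p).op (r₀ p.1)).symm.trans (sub_eq_zero.1 ?_)).trans
      (NatTrans.naturality_apply (D.map b).hom (p₂ p).op (r₀ p.2))
    rw [← map_sub, ← hq, D.map_comp]
    show (D.map q).hom.app (op (P p)) ((D.map (ad p)).hom.app (op (P p)) (d p)) = 0
    rw [had, map_zero]
  let F := D.obj K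
  have hmem : Sieve.generate (Presieve.ofArrows (fun x : t => W x.1) (fun x => g x.1)) ∈ X.smallEtaleTopology U := by
    refine (mem_topology_iff _).2 fun y => ?_
    obtain ⟨x, hx, z, hz⟩ := Set.mem_iUnion₂.1 (ht (Set.mem_univ y))
    exact ⟨_, g x, z, ⟨_, 𝟙 _, g x, Presieve.ofArrows.mk (⟨x, hx⟩ : t), Category.id_comp _⟩, hz⟩
  have hsh : Presieve.IsSheafFor (F.obj ⋙ forget AddCommGrpCat.{u + 1})
      (Presieve.ofArrows (fun x : t => W x.1) (fun x => g x.1)) :=
    (Presieve.isSheafFor_iff_generate _).2 (((isSheaf_iff_isSheaf_of_type _ _).1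
      ((sheafCompose _ (forget AddCommGrpCat.{u + 1})).obj F).property) _ hmem)
  rw [Presieve.isSheafFor_arrows_iff] at hsh
  obtain ⟨z, hz, -⟩ := hsh r₁ fun a a' Z ga ga' h => by
    let l : Z ⟶ P (a, a') := MorphismProperty.Over.homMk (pullback.lift ga.left ga'.left
      (congrArg (fun f : Z ⟶ U => f.left) h)) (by
        show pullback.lift _ _ _ ≫ (pullback.fst _ _ ≫ (g a.1).left) ≫ U.hom = Z.hom
        simp only [← Category.assoc, pullback.lift_fst]
        rw [Category.assoc, MorphismProperty.Over.w (g a.1)]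
        exact MorphismProperty.Over.w ga)
    have h1 : l ≫ p₁ (a, a') = ga := MorphismProperty.Over.Hom.ext (pullback.lift_fst _ _ _)
    have h2 : l ≫ p₂ (a, a') = ga' := MorphismProperty.Over.Hom.ext (pullback.lift_snd _ _ _)
    show F.obj.map ga.op (r₁ a) = F.obj.map ga'.op (r₁ a')
    rw [← h1, ← h2]
    simp only [op_comp, Functor.map_comp, ConcreteCategory.comp_apply]
    exact congrArg _ (hagree (a, a'))
  refine ⟨K, z, sect_ext _ fun y => ?_⟩
  obtain ⟨x, hx, v, hv⟩ := Set.mem_iUnion₂.1 (ht (Set.mem_univ y))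
  refine ⟨W x, g x, v, hv, ?_⟩
  refine (NatTrans.naturality_apply (c.ι.app K).hom (g x).op z).symm.trans ?_
  refine Eq.trans ?_ (hr₀ ⟨x, hx⟩)
  refine (congrArg _ (hz ⟨x, hx⟩)).trans ?_
  exact congrArg (fun f : D.obj K₀ ⟶ c.pt => f.hom.app (op (W x)) (r₀ ⟨x, hx⟩)) (c.w b)

end Groth.Agent.EtSh
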