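import Groth.Agent.EtSh.EtaleAlong
import Groth.Prelude.Def_PBC
import Mathlib.CategoryTheory.Sites.ConstantSheaf

/-!
# The over-site of an étale `X`-scheme is its own small étale site
-/

set_option autoImplicit false
set_option backward.isDefEq.respectTransparency.types false

universe u

open CategoryTheory CategoryTheory.Limits AlgebraicGeometry Opposite

namespace Groth.Agent.EtSh

variable {X : Scheme.{u}} (U : X.Etale)

/-- étale `U`-schemes as objects over `U` -/
noncomputable def toOver : U.left.Etale ⥤ Over U :=
  have : Etale U.hom := U.prop
  { obj := fun V => Over.mk (Y := (EtShriek.compEtale U.hom).obj V)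
      (MorphismProperty.Over.homMk V.hom rfl)
    map := fun g => Over.homMk ((EtShriek.compEtale U.hom).map g)
      (MorphismProperty.Over.Hom.ext (MorphismProperty.Over.w g))
    map_id := fun V => Over.OverMorphism.ext ((EtShriek.compEtale U.hom).map_id V)
    map_comp := fun a b => Over.OverMorphism.ext ((EtShriek.compEtale U.hom).map_comp a b) }

instance toOver_full : (toOver U).Full where
  map_surjective {V W} g :=
    ⟨MorphismProperty.Over.homMk g.left.left
      (congrArg (fun k : ((toOver U).obj V).left ⟶ U => k.left) (Over.w g)),
      Over.OverMorphism.ext (MorphismProperty.Over.Hom.ext rfl)⟩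

instance toOver_faithful : (toOver U).Faithful where
  map_injective {_ _} _ _ h :=
    MorphismProperty.Over.Hom.ext (congrArg (fun k => k.left.left) h :)

instance toOver_essSurj : (toOver U).EssSurj where
  mem_essImage W := by
    have : Etale U.hom := U.prop
    have hW : Etale W.left.hom := W.left.prop
    have : Etale (W.hom.left ≫ U.hom) := by
      rw [MorphismProperty.Over.w W.hom]
      exact hW
    have : Etale W.hom.left := Etale.of_comp W.hom.left U.hom
    exact ⟨MorphismProperty.Over.mk ⊤ W.hom.left this,
      ⟨Over.isoMk (MorphismProperty.Over.isoMk (Iso.refl _)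
        ((Category.id_comp _).trans (MorphismProperty.Over.w W.hom).symm))
        (MorphismProperty.Over.Hom.ext (Category.id_comp _))⟩⟩

instance toOver_isEquivalence : (toOver U).IsEquivalence where

set_option maxHeartbeats 400000 in
instance toOver_isDenseSubsite :
    (toOver U).IsDenseSubsite U.left.smallEtaleTopology (X.smallEtaleTopology.over U) where
  isCoverDense' := inferInstance
  isLocallyFull' := inferInstance
  isLocallyFaithful' := inferInstance
  functorPushforward_mem_iff {V S} := by
    rw [GrothendieckTopology.mem_over_iff, mem_topology_iff, mem_topology_iff]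
    refine ⟨fun h x => ?_, fun h x => ?_⟩
    · obtain ⟨W, g, w, hg, hw⟩ := h x
      rw [Sieve.overEquiv_iff] at hg
      obtain ⟨V', a, b, ha, he⟩ := hg
      refine ⟨V', a, b.left.left.base w, ha, ?_⟩
      rw [← hw]
      exact (congrArg (fun k => k.left.left.base w) he).symm
    · obtain ⟨V', a, v, ha, hv⟩ := h x
      refine ⟨_, ((toOver U).map a).left, v, ?_, hv⟩
      rw [Sieve.overEquiv_iff]
      refine ⟨V', a, Over.homMk (𝟙 _) ?_, ha, Over.OverMorphism.ext (Category.id_comp _).symm⟩
      exact (Category.id_comp _).trans (Over.w ((toOver U).map a)).symm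

theorem jCont_hom [hj : Etale U.hom] : @EtShriek.JCont X U.left U.hom hj := by
  have := Functor.isContinuous_comp (toOver U) (Over.forget U) U.left.smallEtaleTopology
    (X.smallEtaleTopology.over U) X.smallEtaleTopology
  exact Functor.isContinuous_of_iso (NatIso.ofComponents (fun A => Iso.refl _) (fun g => by
    simp only [Iso.refl_hom, Category.comp_id, Category.id_comp]
    rfl) : toOver U ⋙ Over.forget U ≅ @EtShriek.compEtale X U.left U.hom hj) U.left.smallEtaleTopology
      X.smallEtaleTopology

/-- composition with an étale morphism is continuous -/
instance (priority := 900) jCont {V : Scheme.{u}} (j : V ⟶ X) [hj : Etale j] : EtShriek.JCont j :=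
  @jCont_hom X (Scheme.Etale.mk j) hj

/-- restriction to the over-site, read on the small étale site of `U` -/
noncomputable def overRestrIso [hj : Etale U.hom] :
    X.smallEtaleTopology.overPullback AddCommGrpCat.{u + 1} U ⋙
      (toOver U).sheafPushforwardContinuous AddCommGrpCat.{u + 1} U.left.smallEtaleTopology
        (X.smallEtaleTopology.over U) ≅
        @EtShriek.restrAlong X U.left U.hom hj (jCont_hom U) :=
  NatIso.ofComponents (fun F => Iso.refl _) fun f => by ext; rfl

/-- constant sheaves on the over-site, read on the small étale site of `U` -/
noncomputable def overConstIso :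
    constantSheaf (X.smallEtaleTopology.over U) AddCommGrpCat.{u + 1} ⋙
      (toOver U).sheafPushforwardContinuous AddCommGrpCat.{u + 1} U.left.smallEtaleTopology
        (X.smallEtaleTopology.over U) ≅
      constantSheaf U.left.smallEtaleTopology AddCommGrpCat.{u + 1} :=
  (equivCommuteConstant' U.left.smallEtaleTopology AddCommGrpCat.{u + 1}
    (X.smallEtaleTopology.over U) (toOver U) (EtCore.topIsTerminal U.left)
    (IsTerminal.isTerminalObj (toOver U) _ (EtCore.topIsTerminal U.left))).symm

end Groth.Agent.EtSh
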