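import Groth.Agent.EtSh.Supp
import Groth.Agent.EtSh.OverSite
import Groth.Prelude.Def_EtCore

/-!
# Stalks of constant sheaves and of restrictions
-/

set_option autoImplicit false
set_option backward.isDefEq.respectTransparency.types false

universe u

open CategoryTheory CategoryTheory.Limits AlgebraicGeometry Opposite

namespace Groth.Agent.EtSh

variable {X : Scheme.{u}} {Ω : Type u} [Field Ω] [IsSepClosed Ω] (ξ : Spec (CommRingCat.of Ω) ⟶ X)

/-- the lifting to the terminal object -/
noncomputable def topLift : Fib ξ (EtCoh.top X) := Over.homMk ξ (Category.comp_id _)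

theorem subsingleton_fib_top (t t' : Fib ξ (EtCoh.top X)) : t = t' :=
  Over.OverMorphism.ext ((Category.comp_id _).symm.trans
    ((Over.w t).trans ((Over.w t').symm.trans (Category.comp_id _))))

/-- values of a constant sheaf in its stalks -/
noncomputable def constGerm (M : AddCommGrpCat.{u + 1}) :
    M ⟶ (EtCoh.stalk ξ).obj ((constantSheaf X.smallEtaleTopology AddCommGrpCat.{u + 1}).obj M) :=
  ((EtCore.constAdj X).unit.app M) ≫ germ ξ _ (topLift ξ)

theorem isIso_constGerm (M : AddCommGrpCat.{u + 1}) : IsIso (constGerm ξ M) := by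
  let Φ := Scheme.pointSmallEtale ξ
  let C : EtCoh.Ab X := (constantSheaf X.smallEtaleTopology AddCommGrpCat.{u + 1}).obj M
  have key : ∀ (A : AddCommGrpCat.{u + 1}) (k : (EtCoh.stalk ξ).obj C ⟶ A),
      (EtCore.constAdj X).homEquiv _ _ (Φ.skyscraperSheafAdjunction.homEquiv _ _ k) ≫
        Pi.π (fun _ : Fib ξ (EtCoh.top X) => A) (topLift ξ) = constGerm ξ M ≫ k := by
    intro A k
    rw [Adjunction.homEquiv_unit, constGerm, Category.assoc, Category.assoc]
    refine congrArg (_ ≫ ·) ?_
    show (Φ.skyscraperSheafAdjunction.homEquiv _ _ k).hom.app (op (EtCoh.top X)) ≫ _ = _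
    erw [GrothendieckTopology.Point.skyscraperSheafAdjunction_homEquiv_apply_hom]
    exact Φ.skyscraperPresheafHomEquiv_app_π k _ _
  let g : M ⟶ ((EtCore.gsec X).obj (Φ.skyscraperSheafFunctor.obj M)) := Pi.lift fun _ => 𝟙 M
  let k : (EtCoh.stalk ξ).obj C ⟶ M := (Φ.skyscraperSheafAdjunction.homEquiv _ _).symm
    (((EtCore.constAdj X).homEquiv _ _).symm g)
  have h1 : constGerm ξ M ≫ k = 𝟙 M := by
    rw [← key, Equiv.apply_symm_apply, Equiv.apply_symm_apply]
    exact Pi.lift_π _ _
  refine ⟨k, h1, ?_⟩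
  apply (Φ.skyscraperSheafAdjunction.homEquiv _ _).injective
  apply ((EtCore.constAdj X).homEquiv _ _).injective
  refine limit.hom_ext fun ⟨t⟩ => ?_
  obtain rfl : t = topLift ξ := subsingleton_fib_top ξ _ _
  refine (key _ _).trans (Eq.trans ?_ (key _ _).symm)
  rw [reassoc_of% h1, Category.comp_id]

theorem bijective_constGerm (M : AddCommGrpCat.{u + 1}) : Function.Bijective (constGerm ξ M) :=
  (ConcreteCategory.isIso_iff_bijective _).1 (isIso_constGerm ξ M)

section Restr

variable {U : Scheme.{u}} (j : U ⟶ X) [Etale j] (ζ : Spec (CommRingCat.of Ω) ⟶ U)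

/-- liftings to a `U`-scheme, read over `X` -/
noncomputable def liftRestr {W : U.Etale} (w : Fib ζ W) :
    Fib (ζ ≫ j) ((EtShriek.compEtale j).obj W) :=
  Over.homMk w.left (by
    show w.left ≫ W.hom ≫ j = ζ ≫ j
    exact (Category.assoc _ _ _).symm.trans (congrArg (· ≫ j) (Over.w w)))

/-- comparison of stalks of a restriction -/
noncomputable def restrGerm (F : EtCoh.Ab X) :
    (EtCoh.stalk ζ).obj ((EtShriek.restrAlong j).obj F) ⟶ (EtCoh.stalk (ζ ≫ j)).obj F :=
  (Scheme.pointSmallEtale ζ).presheafFiberDesc (P := ((EtShriek.restrAlong j).obj F).obj)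
    (fun _ w => germ (ζ ≫ j) F (liftRestr j ζ w))
    (fun _ _ k w => (Scheme.pointSmallEtale (ζ ≫ j)).toPresheafFiber_w ((EtShriek.compEtale j).map k)
      (liftRestr j ζ w) F.obj)

theorem restrGerm_germ (F : EtCoh.Ab X) {W : U.Etale} (w : Fib ζ W)
    (s : EtCoh.sect ((EtShriek.restrAlong j).obj F) W) :
    restrGerm j ζ F (germ ζ ((EtShriek.restrAlong j).obj F) w s) = germ (ζ ≫ j) F (liftRestr j ζ w) s :=
  congrArg (fun k : ((EtShriek.restrAlong j).obj F).obj.obj (op W) ⟶ (EtCoh.stalk (ζ ≫ j)).obj F => k s)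
    ((Scheme.pointSmallEtale ζ).toPresheafFiber_presheafFiberDesc
      (P := ((EtShriek.restrAlong j).obj F).obj) _ _ W w)

theorem bijective_restrGerm (F : EtCoh.Ab X) : Function.Bijective (restrGerm j ζ F) := by
  refine ⟨(injective_iff_map_eq_zero (restrGerm j ζ F).hom).2 fun p hp => ?_, fun p => ?_⟩
  · obtain ⟨W, w, s, rfl⟩ := germ_surjective _ p
    rw [restrGerm_germ, germ_eq_zero_iff] at hp
    obtain ⟨W', g, w', hw', hg⟩ := hp
    have hgl : g.left ≫ W.hom ≫ j = W'.hom := MorphismProperty.Over.w g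
    have : Etale (g.left ≫ W.hom) := by
      have : Etale ((g.left ≫ W.hom) ≫ j) := by
        rw [Category.assoc, hgl]
        exact W'.prop
      exact Etale.of_comp _ j
    let W'' : U.Etale := Scheme.Etale.mk (g.left ≫ W.hom)
    let g' : W'' ⟶ W := MorphismProperty.Over.homMk g.left rfl
    refine (germ_eq_zero_iff _ w s).2 ⟨W'', g', w', hw', ?_⟩
    let e : (EtShriek.compEtale j).obj W'' ⟶ W' := MorphismProperty.Over.homMk (𝟙 _) (by
      show 𝟙 _ ≫ W'.hom = (g.left ≫ W.hom) ≫ j
      rw [Category.id_comp, Category.assoc, hgl])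
    have : (EtShriek.compEtale j).map g' = e ≫ g :=
      MorphismProperty.Over.Hom.ext (Category.id_comp _).symm
    show F.obj.map ((EtShriek.compEtale j).map g').op s = 0
    rw [this, op_comp, Functor.map_comp, ConcreteCategory.comp_apply, hg, map_zero]
  · obtain ⟨V, t, s, rfl⟩ := germ_surjective F p
    let W : U.Etale := (EtCoh.bc j).obj V
    let π : (EtShriek.compEtale j).obj W ⟶ V :=
      MorphismProperty.Over.homMk (pullback.fst V.hom j) pullback.condition
    let w : Fib ζ W := Over.homMk (pullback.lift t.left ζ (Over.w t)) (pullback.lift_snd _ _ _)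
    refine ⟨germ ζ _ w (F.obj.map π.op s), ?_⟩
    refine (restrGerm_germ j ζ F w _).trans ((germ_map F π _ s).trans ?_)
    exact congrArg (fun v => germ (ζ ≫ j) F v s) (Over.OverMorphism.ext (pullback.lift_fst _ _ _))

end Restr

end Groth.Agent.EtSh
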