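import Groth.Agent.EtSh.Stalks
import Groth.Prelude.Def_EtBaseX
import Mathlib.RingTheory.Etale.StandardEtale
import Mathlib.RingTheory.Polynomial.Basic
import Mathlib.Algebra.Polynomial.Eval.Irreducible

/-!
# Etale local rings are strictly henselian
-/

set_option autoImplicit false
set_option backward.isDefEq.respectTransparency.types false

universe u

open CategoryTheory CategoryTheory.Limits AlgebraicGeometry Opposite

namespace Groth.Agent.EtSh

variable {X : Scheme.{u}} {Ω : Type u} [Field Ω] [IsSepClosed Ω] (ξ : Spec (CommRingCat.of Ω) ⟶ X)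

/-- germ of a function at a lifting of the geometric point -/
noncomputable abbrev rgerm {U : X.Etale} (t : Fib ξ U) : Γ(U.left, ⊤) ⟶ EtBase.etaleLocalRing ξ :=
  (Scheme.pointSmallEtale ξ).toPresheafFiber U t (EtBase.OO X)

/-- value of a function at a lifting -/
noncomputable abbrev valAt {U : X.Etale} (t : Fib ξ U) : Γ(U.left, ⊤) ⟶ CommRingCat.of Ω :=
  (t.left : Spec (CommRingCat.of Ω) ⟶ U.left).appTop ≫ (Scheme.ΓSpecIso (CommRingCat.of Ω)).hom

/-- evaluation at the geometric point -/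
noncomputable def evalPt : EtBase.etaleLocalRing ξ ⟶ CommRingCat.of Ω :=
  (Scheme.pointSmallEtale ξ).presheafFiberDesc (P := EtBase.OO X) (fun _ t => valAt ξ t)
    (fun U V g t => by
      show g.left.appTop ≫ valAt ξ t = valAt ξ ((Scheme.pointSmallEtale ξ).fiber.map g t)
      exact (Category.assoc _ _ _).symm.trans
        (congrArg (· ≫ (Scheme.ΓSpecIso (CommRingCat.of Ω)).hom) (Scheme.Hom.comp_appTop _ _).symm))

variable {ξ}

theorem evalPt_rgerm {U : X.Etale} (t : Fib ξ U) (a : Γ(U.left, ⊤)) :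
    evalPt ξ (rgerm ξ t a) = valAt ξ t a :=
  congrArg (fun k : Γ(U.left, ⊤) ⟶ CommRingCat.of Ω => k a)
    ((Scheme.pointSmallEtale ξ).toPresheafFiber_presheafFiberDesc (P := EtBase.OO X) _ _ U t)

theorem rgerm_map {U V : X.Etale} (g : V ⟶ U) (t : Fib ξ V) (a : Γ(U.left, ⊤)) :
    rgerm ξ t (g.left.appTop a) = rgerm ξ ((Scheme.pointSmallEtale ξ).fiber.map g t) a :=
  (Scheme.pointSmallEtale ξ).toPresheafFiber_w_apply g t (EtBase.OO X) a

theorem rgerm_surjective (p : EtBase.etaleLocalRing ξ) :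
    ∃ (U : X.Etale) (t : Fib ξ U) (a : Γ(U.left, ⊤)), rgerm ξ t a = p :=
  (Scheme.pointSmallEtale ξ).toPresheafFiber_jointly_surjective p

/-- the open piece of an étale neighbourhood -/
noncomputable abbrev opn (U : X.Etale) (O : U.left.Opens) : X.Etale :=
  haveI : Etale U.hom := U.prop
  Scheme.Etale.mk (O.ι ≫ U.hom)

theorem exists_opn {U : X.Etale} (t : Fib ξ U) (O : U.left.Opens) (h : fpt t ∈ O) :
    ∃ t' : Fib ξ (opn U O), ∀ a : Γ(U.left, ⊤), rgerm ξ t' (O.ι.appTop a) = rgerm ξ t a := by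
  let g : opn U O ⟶ U := MorphismProperty.Over.homMk O.ι rfl
  obtain ⟨t', ht'⟩ := exists_fib_map g ⟨fpt t, h⟩ t rfl
  exact ⟨t', fun a => by rw [show O.ι.appTop a = g.left.appTop a from rfl, rgerm_map, ht']⟩

theorem valAt_eq_zero_iff {U : X.Etale} (t : Fib ξ U) (a : Γ(U.left, ⊤)) :
    valAt ξ t a = 0 ↔ fpt t ∉ U.left.basicOpen a := by
  let l : Spec (CommRingCat.of Ω) ⟶ U.left := t.left
  have h : fpt t ∈ U.left.basicOpen a ↔ (default : Spec (CommRingCat.of Ω)) ∈
      (Spec (CommRingCat.of Ω)).basicOpen (l.appTop a) := by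
    have e := Scheme.preimage_basicOpen_top l a
    rw [← e]
    rfl
  rw [h, basicOpen_eq_of_affine']
  show valAt ξ t a = 0 ↔ ¬ (valAt ξ t a ∉ (default : Spec (CommRingCat.of Ω)).asIdeal)
  rw [not_not]
  have hd : (default : Spec (CommRingCat.of Ω)).asIdeal = ⊥ :=
    ((default : Spec (CommRingCat.of Ω)).asIdeal.eq_bot_or_top).resolve_right
      (default : Spec (CommRingCat.of Ω)).2.ne_top
  rw [hd, Ideal.mem_bot]

theorem isUnit_of_evalPt_ne_zero (r : EtBase.etaleLocalRing ξ) (h : evalPt ξ r ≠ 0) : IsUnit r := by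
  obtain ⟨U, t, a, rfl⟩ := rgerm_surjective r
  rw [evalPt_rgerm, Ne, valAt_eq_zero_iff, not_not] at h
  obtain ⟨t', ht'⟩ := exists_opn t (U.left.basicOpen a) h
  rw [← ht' a]
  refine IsUnit.map (rgerm ξ t').hom ?_
  have := RingedSpace.isUnit_res_basicOpen U.left.toRingedSpace a
  rw [Scheme.Opens.ι_appTop]
  convert! this.map (U.left.presheaf.map (eqToHom (Scheme.Opens.ι_image_top (U.left.basicOpen a))).op).hom using 1
  show _ = ((U.left.presheaf.map _) ≫ (U.left.presheaf.map _)) a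
  rw [← Functor.map_comp]
  rfl

instance nontrivial_etaleLocalRing : Nontrivial (EtBase.etaleLocalRing ξ) :=
  (evalPt ξ).hom.domain_nontrivial

instance isLocalRing_etaleLocalRing : IsLocalRing (EtBase.etaleLocalRing ξ) := by
  refine IsLocalRing.of_isUnit_or_isUnit_one_sub_self fun r => ?_
  by_cases h : evalPt ξ r = 0
  · exact Or.inr (isUnit_of_evalPt_ne_zero _ (by rw [map_sub, map_one, h, sub_zero]; exact one_ne_zero))
  · exact Or.inl (isUnit_of_evalPt_ne_zero _ h)

theorem mem_maximalIdeal_iff (r : EtBase.etaleLocalRing ξ) :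
    r ∈ IsLocalRing.maximalIdeal (EtBase.etaleLocalRing ξ) ↔ evalPt ξ r = 0 := by
  rw [IsLocalRing.mem_maximalIdeal, mem_nonunits_iff]
  refine ⟨fun h => by_contra fun h' => h (isUnit_of_evalPt_ne_zero r h'), fun h hu => ?_⟩
  exact (hu.map (evalPt ξ).hom).ne_zero h

/-- finitely many elements come from one neighbourhood -/
theorem exists_stage (s : Finset (EtBase.etaleLocalRing ξ)) :
    ∃ (U : X.Etale) (t : Fib ξ U), ∀ r ∈ s, ∃ a, rgerm ξ t a = r := by
  classical
  induction s using Finset.induction_on with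
  | empty =>
    obtain ⟨U, t, -⟩ := rgerm_surjective (1 : EtBase.etaleLocalRing ξ)
    exact ⟨U, t, by simp⟩
  | insert r s _ ih =>
    obtain ⟨U, t, ha⟩ := ih
    obtain ⟨V, v, b, rfl⟩ := rgerm_surjective r
    obtain ⟨⟨W, w⟩, ⟨f, hf⟩, ⟨g, hg⟩, -⟩ :=
      IsCofilteredOrEmpty.cone_objs (Functor.elementsMk (Scheme.pointSmallEtale ξ).fiber U t)
        (Functor.elementsMk (Scheme.pointSmallEtale ξ).fiber V v)
    refine ⟨W, w, fun x hx => ?_⟩
    rcases Finset.mem_insert.1 hx with rfl | hx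
    · exact ⟨g.left.appTop b, by rw [rgerm_map, hg]⟩
    · obtain ⟨a, rfl⟩ := ha x hx
      exact ⟨f.left.appTop a, by rw [rgerm_map, hf]⟩

theorem exists_affine_stage (s : Finset (EtBase.etaleLocalRing ξ)) :
    ∃ (U : X.Etale) (_ : IsAffine U.left) (t : Fib ξ U), ∀ r ∈ s, ∃ a, rgerm ξ t a = r := by
  obtain ⟨U, t, h⟩ := exists_stage s
  obtain ⟨O, hO, htO, -⟩ := exists_isAffineOpen_mem_and_subset (x := fpt t) (U := ⊤) trivial
  obtain ⟨t', ht'⟩ := exists_opn t O htO
  refine ⟨opn U O, hO, t', fun r hr => ?_⟩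
  obtain ⟨a, rfl⟩ := h r hr
  exact ⟨_, ht' a⟩

open Polynomial in
/-- simple roots in `Ω` come from the etale local ring -/
theorem exists_root (f : (EtBase.etaleLocalRing ξ)[X]) (hf : f.Monic) (ω : Ω)
    (h : (f.map (evalPt ξ).hom).IsRoot ω) (h' : (f.map (evalPt ξ).hom).derivative.eval ω ≠ 0) :
    ∃ a, f.IsRoot a ∧ evalPt ξ a = ω := by
  classical
  obtain ⟨U, hU, t, hc⟩ := exists_affine_stage (f.support.image f.coeff)
  have hlift : f ∈ lifts (rgerm ξ t).hom := by
    rw [lifts_iff_coeff_lifts]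
    intro n
    by_cases hn : n ∈ f.support
    · exact hc _ (Finset.mem_image_of_mem _ hn)
    · exact ⟨0, by rw [map_zero, notMem_support_iff.mp hn]⟩
  obtain ⟨g, hgf, -, hg⟩ := lifts_and_natDegree_eq_and_monic hlift hf
  let A := Γ(U.left, ⊤)
  let P : StandardEtalePair A := ⟨g, hg, g.derivative, ⟨1, 0, 1, by ring⟩⟩
  let val : A →+* Ω := (valAt ξ t).hom
  letI : Algebra A Ω := val.toAlgebra
  have hmap : g.map val = f.map (evalPt ξ).hom := by
    rw [← hgf, Polynomial.map_map]
    congr 1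
    ext a
    exact (evalPt_rgerm t a).symm
  have hω : P.HasMap ω := by
    refine ⟨?_, ?_⟩
    · rw [Polynomial.aeval_def, ← Polynomial.eval_map]
      show (g.map val).eval ω = 0
      rw [hmap]; exact h
    · rw [Polynomial.aeval_def, ← Polynomial.eval_map]
      show IsUnit ((g.derivative.map val).eval ω)
      rw [← Polynomial.derivative_map, hmap]
      exact IsUnit.mk0 _ h'
  let ψ : A ⟶ CommRingCat.of P.Ring := CommRingCat.ofHom (algebraMap A P.Ring)
  haveI : Etale (Spec.map ψ) := by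
    rw [HasRingHomProperty.Spec_iff (P := @Etale)]
    exact RingHom.etale_algebraMap.mpr inferInstance
  haveI : Etale U.hom := U.prop
  haveI := hU
  let V : X.Etale := Scheme.Etale.mk (Spec.map ψ ≫ U.left.isoSpec.inv ≫ U.hom)
  let g₁ : V ⟶ U := MorphismProperty.Over.homMk (Spec.map ψ ≫ U.left.isoSpec.inv) (Category.assoc _ _ _)
  let l : Spec (CommRingCat.of Ω) ⟶ Spec (CommRingCat.of P.Ring) :=
    Spec.map (CommRingCat.ofHom (P.lift ω hω).toRingHom)
  have hl : l ≫ Spec.map ψ ≫ U.left.isoSpec.inv = t.left := by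
    rw [← Spec.map_comp_assoc]
    have e : ψ ≫ CommRingCat.ofHom (P.lift ω hω).toRingHom = valAt ξ t := by
      ext a
      exact (P.lift ω hω).commutes a
    rw [e, Iso.comp_inv_eq]
    simp only [valAt, Spec.map_comp]
    rw [← Scheme.isoSpec_Spec_hom]
    exact @Scheme.isoSpec_hom_naturality (Spec (CommRingCat.of Ω)) U.left inferInstance hU t.left
  let v : Fib ξ V := Over.homMk l (by
    show l ≫ Spec.map ψ ≫ U.left.isoSpec.inv ≫ U.hom = ξ
    rw [← Category.assoc (Spec.map ψ), ← Category.assoc l, hl]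
    exact Over.w t)
  have hgv : (Scheme.pointSmallEtale ξ).fiber.map g₁ v = t := Over.OverMorphism.ext hl
  let γ : A →+* Γ(V.left, ⊤) := g₁.left.appTop.hom
  let x : Γ(V.left, ⊤) := (Scheme.ΓSpecIso (CommRingCat.of P.Ring)).inv P.X
  have hγ : γ = ((Scheme.ΓSpecIso (CommRingCat.of P.Ring)).inv).hom.comp (algebraMap A P.Ring) := by
    have : g₁.left.appTop = ψ ≫ (Scheme.ΓSpecIso (CommRingCat.of P.Ring)).inv := by
      show (Spec.map ψ ≫ U.left.isoSpec.inv).appTop = _
      haveI : IsIso U.left.isoSpec.hom.appTop :=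
        inferInstanceAs (IsIso (Scheme.Γ.map U.left.isoSpec.hom.op))
      have hi : U.left.isoSpec.inv.appTop = (Scheme.ΓSpecIso A).inv := by
        rw [← cancel_mono U.left.isoSpec.hom.appTop, ← Scheme.Hom.comp_appTop, Iso.hom_inv_id,
          Scheme.isoSpec_hom, Scheme.toSpecΓ_appTop]
        simp [A]
      rw [Scheme.Hom.comp_appTop, hi, Scheme.ΓSpecIso_inv_naturality]
    exact congrArg CommRingCat.Hom.hom this
  refine ⟨rgerm ξ v x, ?_, ?_⟩
  · have hf' : f = g.map ((rgerm ξ v).hom.comp γ) := by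
      rw [← hgf]
      congr 1
      ext a
      exact ((rgerm_map g₁ v a).trans (by rw [hgv])).symm
    rw [IsRoot, hf', Polynomial.eval_map, ← Polynomial.hom_eval₂]
    have h0 : g.eval₂ γ x = 0 := by
      rw [hγ]
      show g.eval₂ _ ((Scheme.ΓSpecIso (CommRingCat.of P.Ring)).inv.hom P.X) = 0
      rw [← Polynomial.hom_eval₂, ← Polynomial.aeval_def, P.hasMap_X.1, map_zero]
    rw [h0, map_zero]
  · rw [evalPt_rgerm]
    show (l.appTop ≫ (Scheme.ΓSpecIso (CommRingCat.of Ω)).hom) x = ω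
    simp only [l, x]
    rw [Scheme.ΓSpecIso_naturality]
    simp

open Polynomial in
theorem isStrictlyHenselian_etaleLocalRing :
    EtCoh.IsStrictlyHenselianLocalRing (EtBase.etaleLocalRing ξ) := by
  let R := EtBase.etaleLocalRing ξ
  refine ⟨{ is_henselian := fun f hf a₀ h h' => ?_ }, ?_⟩
  · rw [mem_maximalIdeal_iff] at h
    have e : ∀ p : R[X], (p.map (evalPt ξ).hom).eval (evalPt ξ a₀) = evalPt ξ (p.eval a₀) :=
      fun p => Polynomial.eval_map_apply _ _
    obtain ⟨a, ha, ha'⟩ := exists_root f hf (evalPt ξ a₀) (by rw [IsRoot, e, h])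
      (by rw [derivative_map, e]; exact (h'.map (evalPt ξ).hom).ne_zero)
    exact ⟨a, ha, by rw [mem_maximalIdeal_iff, map_sub, ha', sub_self]⟩
  · let j : IsLocalRing.ResidueField R →+* Ω :=
      Ideal.Quotient.lift _ (evalPt ξ).hom fun r hr => (mem_maximalIdeal_iff r).1 hr
    refine IsSepClosed.of_exists_root _ fun p hp hirr hsep => ?_
    obtain ⟨f, hf, -, hfm⟩ := lifts_and_natDegree_eq_and_monic
      ((mem_lifts _).mpr (map_surjective _ IsLocalRing.residue_surjective p)) hp
    have hne : (p.map j).degree ≠ 0 := by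
      rw [degree_map_eq_of_injective j.injective]
      exact (degree_pos_of_irreducible hirr).ne'
    obtain ⟨ω, hω⟩ := IsSepClosed.exists_root (p.map j) hne hsep.map
    have hmap : f.map (evalPt ξ).hom = p.map j := by
      rw [← hf, Polynomial.map_map]; rfl
    obtain ⟨a, ha, -⟩ := exists_root f hfm ω (by rw [hmap]; exact hω)
      (by rw [hmap]; exact hsep.map.eval₂_derivative_ne_zero (RingHom.id Ω) (by simpa using hω))
    refine ⟨IsLocalRing.residue R a, ?_⟩
    rw [← hf, Polynomial.eval_map_apply, ha, map_zero]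

end Groth.Agent.EtSh
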