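import Groth.Agent.S14452
import Mathlib.CategoryTheory.Sites.EpiMono
import Mathlib.Algebra.Category.Grp.Abelian

/-!
# Sheaves acyclic on every étale scheme over the base
-/

set_option autoImplicit false
set_option backward.isDefEq.respectTransparency.types false

universe u

open CategoryTheory CategoryTheory.Limits AlgebraicGeometry Opposite CategoryTheory.Abelian

namespace Groth.Agent.EtSh

/-- exactness of restriction to an étale object -/
theorem shortExact_restr {X : Scheme.{u}} (W : X.Etale) [Etale W.hom] [EtShriek.JCont W.hom]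
    {S : ShortComplex (EtCoh.Ab X)} (hS : S.ShortExact) : (S.map (EtShriek.restrAlong W.hom)).ShortExact := by
  let R := EtShriek.restrAlong W.hom
  haveI hc : PreservesColimitsOfSize.{0, 0} R := (restrPushAdj W.hom).leftAdjoint_preservesColimits
  haveI hl : PreservesLimitsOfSize.{0, 0} R := (EtShriek.extZeroAdj W.hom).rightAdjoint_preservesLimits
  haveI : PreservesFiniteColimits R := @PreservesColimitsOfSize.preservesFiniteColimits.{0, 0} _ _ _ _ R hc
  haveI : PreservesFiniteLimits R := @PreservesLimitsOfSize.preservesFiniteLimits.{0, 0} _ _ _ _ R hl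
  exact hS.map_of_exact R

/-- restriction preserves injectives -/
theorem injective_restr {X : Scheme.{u}} (W : X.Etale) [Etale W.hom] [EtShriek.JCont W.hom]
    (I : EtCoh.Ab X) [Injective I] : Injective ((EtShriek.restrAlong W.hom).obj I) := by
  haveI := Groth.Agent.S0648.result W.hom
  haveI : (EtShriek.extZero W.hom).PreservesMonomorphisms := preservesMonomorphisms_of_preservesLimitsOfShape _
  exact Injective.injective_of_adjoint (EtShriek.extZeroAdj W.hom) I

/-- restriction of `W` to an étale object computes the same cohomology as inverse image -/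
theorem subsingleton_H_restr_iff {X : Scheme.{u}} (W : X.Etale) [Etale W.hom] [EtShriek.JCont W.hom]
    (F : EtCoh.Ab X) (q : ℕ) :
    Subsingleton (EtCoh.H W.left ((EtShriek.restrAlong W.hom).obj F) q) ↔
      Subsingleton (EtCoh.H W.left ((EtCoh.pull W.hom).obj F) q) :=
  ⟨CohAcyc.subsingleton_of_iso (Iso.refl _) ((pullRestrIso W.hom).app F).symm,
    CohAcyc.subsingleton_of_iso (Iso.refl _) ((pullRestrIso W.hom).app F)⟩

/-- acyclic on every étale object -/
def Flasque {X : Scheme.{u}} (F : EtCoh.Ab X) : Prop :=
  ∀ (W : X.Etale) (q : ℕ), 0 < q → Subsingleton (EtCoh.H W.left ((EtCoh.pull W.hom).obj F) q)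

theorem flasque_of_injective {X : Scheme.{u}} (I : EtCoh.Ab X) [Injective I] : Flasque I := fun W q hq => by
  haveI : Etale W.hom := W.prop
  haveI : EtShriek.JCont W.hom := jCont_hom W
  haveI := injective_restr W I
  obtain ⟨m, rfl⟩ : ∃ m, q = m + 1 := ⟨q - 1, by omega⟩
  exact (subsingleton_H_restr_iff W I _).1
    (inferInstanceAs (Subsingleton (EtCoh.H W.left ((EtShriek.restrAlong W.hom).obj I) (m + 1))))

theorem Flasque.quot {X : Scheme.{u}} {S : ShortComplex (EtCoh.Ab X)} (hS : S.ShortExact)
    (h₁ : Flasque S.X₁) (h₂ : Flasque S.X₂) : Flasque S.X₃ := fun W q hq => by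
  haveI : Etale W.hom := W.prop
  haveI : EtShriek.JCont W.hom := jCont_hom W
  exact (subsingleton_H_restr_iff W _ q).1 (CohAcyc.subsingleton_quot_of_ses
    (shortExact_restr W hS)
    ((subsingleton_H_restr_iff W _ q).2 (h₂ W q hq))
    ((subsingleton_H_restr_iff W _ (q + 1)).2 (h₁ W (q + 1) (by omega))))

/-- direct image of a short exact sequence with flasque kernel -/
theorem shortExact_push {X Y : Scheme.{u}} (f : X ⟶ Y) {S : ShortComplex (EtCoh.Ab X)} (hS : S.ShortExact)
    (h₁ : Flasque S.X₁) : (S.map (EtCoh.push f)).ShortExact := by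
  haveI : PreservesLimitsOfSize.{0, 0} (EtCoh.push f) := (EtCoh.pullPushAdj f).rightAdjoint_preservesLimits
  haveI : PreservesFiniteLimits (EtCoh.push f) := PreservesLimitsOfSize.preservesFiniteLimits.{0, 0} _
  haveI := hS.mono_f
  have hsur : ∀ U, Function.Surjective (((EtCoh.push f).map S.g).hom.app U) := fun U =>
    S14452.surjective_of_H_one ((EtCoh.bc f).obj U.unop) hS (h₁ _ 1 one_pos)
  haveI : Sheaf.IsLocallySurjective ((EtCoh.push f).map S.g) :=
    Presheaf.isLocallySurjective_of_surjective _ _ hsur
  exact
    { exact := ShortComplex.exact_of_f_is_kernel _ (KernelFork.mapIsLimit _ hS.fIsKernel (EtCoh.push f))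
      mono_f := (EtCoh.push f).map_mono S.f
      epi_g := (Sheaf.isLocallySurjective_iff_epi' (A := AddCommGrpCat.{u + 1}) ((EtCoh.push f).map S.g)).1 ‹_› }

/-- direct images of flasque sheaves are flasque -/
theorem Flasque.push {X Y : Scheme.{u}} (f : X ⟶ Y) : ∀ (q : ℕ) (F : EtCoh.Ab X), Flasque F →
    ∀ W : Y.Etale, Subsingleton (EtCoh.H W.left ((EtCoh.pull W.hom).obj ((EtCoh.push f).obj F)) (q + 1)) := by
  intro q
  induction q with
  | zero =>
    intro F hF W
    haveI : Etale W.hom := W.prop
    haveI : EtShriek.JCont W.hom := jCont_hom W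
    let S := ShortComplex.mk (Injective.ι F) (cokernel.π (Injective.ι F)) (cokernel.condition _)
    have hS : S.ShortExact :=
      { exact := S.exact_of_g_is_cokernel (cokernelIsCokernel _)
        mono_f := inferInstanceAs (Mono (Injective.ι F))
        epi_g := inferInstanceAs (Epi (cokernel.π (Injective.ι F))) }
    have hT := shortExact_restr W (shortExact_push f hS hF)
    haveI : (EtCoh.pull f).PreservesMonomorphisms := pull_preservesMonomorphisms f
    haveI : Injective S.X₂ := inferInstanceAs (Injective (Injective.under F))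
    haveI : Injective ((EtCoh.push f).obj S.X₂) := Injective.injective_of_adjoint (EtCoh.pullPushAdj f) S.X₂
    haveI : Injective ((S.map (EtCoh.push f)).map (EtShriek.restrAlong W.hom)).X₂ :=
      injective_restr W ((EtCoh.push f).obj S.X₂)
    refine (subsingleton_H_restr_iff W _ _).1 (CohAcyc.subsingleton_one_of_lift hT
      (inferInstanceAs (Subsingleton (EtCoh.H W.left
        ((S.map (EtCoh.push f)).map (EtShriek.restrAlong W.hom)).X₂ (0 + 1)))) fun s => ?_)
    let hT' := topTerminal W.left
    let S' := (S.map (EtCoh.push f)).map (EtShriek.restrAlong W.hom)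
    have key : Function.Surjective (S'.g.hom.app (op (EtCoh.top W.left))) :=
      S14452.surjective_of_H_one ((EtCoh.bc f).obj ((EtShriek.compEtale W.hom).obj (EtCoh.top W.left))) hS
        (hF _ 1 one_pos)
    obtain ⟨a, ha⟩ := key (Sheaf.H.equiv₀ S'.X₃ hT' (Ext.addEquiv₀.symm s))
    refine ⟨Ext.addEquiv₀ ((Sheaf.H.equiv₀ S'.X₂ hT').symm a), ?_⟩
    rw [← Sheaf.H.addEquiv₀_map]
    have := Sheaf.H.equiv₀_naturality hT' S'.g ((Sheaf.H.equiv₀ S'.X₂ hT').symm a)
    rw [AddEquiv.apply_symm_apply, ha] at this
    rw [← (Sheaf.H.equiv₀ S'.X₃ hT').injective this, AddEquiv.apply_symm_apply]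
  | succ q ih =>
    intro F hF W
    haveI : Etale W.hom := W.prop
    haveI : EtShriek.JCont W.hom := jCont_hom W
    let S := ShortComplex.mk (Injective.ι F) (cokernel.π (Injective.ι F)) (cokernel.condition _)
    have hS : S.ShortExact :=
      { exact := S.exact_of_g_is_cokernel (cokernelIsCokernel _)
        mono_f := inferInstanceAs (Mono (Injective.ι F))
        epi_g := inferInstanceAs (Epi (cokernel.π (Injective.ι F))) }
    have hT := shortExact_restr W (shortExact_push f hS hF)
    haveI : (EtCoh.pull f).PreservesMonomorphisms := pull_preservesMonomorphisms f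
    haveI : Injective S.X₂ := inferInstanceAs (Injective (Injective.under F))
    haveI : Injective ((EtCoh.push f).obj S.X₂) := Injective.injective_of_adjoint (EtCoh.pullPushAdj f) S.X₂
    refine (subsingleton_H_restr_iff W _ _).1 (CohAcyc.subsingleton_succ_of_ses hT
      ((subsingleton_H_restr_iff W _ _).2 (ih S.X₃ (hF.quot hS (flasque_of_injective S.X₂)) W))
      ((subsingleton_H_restr_iff W _ _).2 (flasque_of_injective ((EtCoh.push f).obj S.X₂) W (q + 1 + 1) (by omega))))

end Groth.Agent.EtSh
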