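import Groth.Agent.EtSh.SectionsColim

/-!
# Sections over quasi-compact quasi-separated étale schemes and filtered colimits
-/

set_option autoImplicit false
set_option backward.isDefEq.respectTransparency.types false

universe u w w'

open CategoryTheory CategoryTheory.Limits AlgebraicGeometry Opposite

namespace Groth.Agent.EtSh

variable {X : Scheme.{u}} {J : Type w} [Category.{w'} J] [IsFiltered J]
  [HasColimitsOfShape J AddCommGrpCat.{u + 1}]
  [PreservesColimitsOfShape J (forget AddCommGrpCat.{u + 1})]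

/-- recognising filtered colimits of abelian groups on elements -/
noncomputable def isColimitOfRepZero {G : J ⥤ AddCommGrpCat.{u + 1}} (c : Cocone G)
    (rep : ∀ x : c.pt, ∃ (i : J) (y : G.obj i), c.ι.app i y = x)
    (zero : ∀ (i : J) (y : G.obj i), c.ι.app i y = 0 → ∃ (k : J) (a : i ⟶ k), G.map a y = 0) :
    IsColimit c :=
  haveI : IsIso (colimit.desc G c) := by
    refine (ConcreteCategory.isIso_iff_bijective _).2 ⟨?_, fun x => ?_⟩
    · refine (injective_iff_map_eq_zero (colimit.desc G c).hom).2 fun x hx => ?_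
      obtain ⟨i, y, rfl⟩ := Concrete.colimit_exists_rep G x
      obtain ⟨k, a, ha⟩ := zero i y ((ConcreteCategory.congr_hom (colimit.ι_desc c i) y).symm.trans hx)
      rw [← ConcreteCategory.congr_hom (colimit.w G a) y, ConcreteCategory.comp_apply, ha, map_zero]
    · obtain ⟨i, y, rfl⟩ := rep x
      exact ⟨colimit.ι G i y, ConcreteCategory.congr_hom (colimit.ι_desc c i) y⟩
  haveI : IsIso ((colimit.isColimit G).desc c) := ‹IsIso (colimit.desc G c)›
  IsColimit.ofPointIso (colimit.isColimit G)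

section

variable {D : J ⥤ EtCoh.Ab X} {c : Cocone D} (hc : IsColimit c)
include hc

/-- glueing over a finite étale covering of a quasi-compact quasi-separated object by affine pieces -/
theorem exists_sect_rep_qcqs {U : X.Etale} [CompactSpace U.left] [QuasiSeparatedSpace U.left] (s : EtCoh.sect c.pt U) :
    ∃ (i : J) (r : EtCoh.sect (D.obj i) U), (c.ι.app i).hom.app (op U) r = s := by
  classical
  have key : ∀ x : U.left, ∃ (W : X.Etale) (g : W ⟶ U) (w : W.left) (k : J) (r : EtCoh.sect (D.obj k) W),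
      IsAffine W.left ∧ g.left.base w = x ∧ (c.ι.app k).hom.app (op W) r = c.pt.obj.map g.op s := by
    intro x
    obtain ⟨Ω, _, _, ξ, hξ⟩ := exists_geometric_point (U.hom.base x)
    obtain ⟨t, rfl⟩ := exists_fib (ξ := ξ) x (Set.eq_of_mem_singleton (hξ.le ⟨default, rfl⟩)).symm
    obtain ⟨k, q, hq⟩ := exists_germ_rep hc ξ (germ ξ _ t s)
    obtain ⟨V, v, r, rfl⟩ := germ_surjective _ q
    obtain ⟨ck, hck⟩ : ∃ ck : D.obj k ⟶ c.pt, ck = c.ι.app k := ⟨_, rfl⟩
    replace hq : germ ξ c.pt v (ck.hom.app (op V) r) = germ ξ c.pt t s :=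
      (stalk_map_germ ck v r).symm.trans (by subst hck; exact hq)
    obtain ⟨⟨W, w⟩, ⟨a, ha⟩, ⟨b, hb⟩, -⟩ := IsCofilteredOrEmpty.cone_objs
      (Functor.elementsMk (Scheme.pointSmallEtale ξ).fiber U t)
      (Functor.elementsMk (Scheme.pointSmallEtale ξ).fiber V v)
    have e : germ ξ c.pt w (c.pt.obj.map a.op s) =
        germ ξ c.pt w (ck.hom.app (op W) ((D.obj k).obj.map b.op r)) := by
      rw [germ_map, NatTrans.naturality_apply ck.hom b.op r, germ_map, ha, hb]
      exact hq.symm
    obtain ⟨W', g, w', hw', hh⟩ := (germ_eq_iff c.pt w _ _).1 e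
    obtain ⟨t', ht'⟩ := exists_fib_map g w' w hw'
    obtain ⟨A, e', ta, hA, hta⟩ := exists_affine_nbhd t'
    refine ⟨A, e' ≫ g ≫ a, fpt ta, k, (D.obj k).obj.map (e' ≫ g ≫ b).op r, hA, ?_, ?_⟩
    · rw [← map_fpt, Functor.map_comp_apply, Functor.map_comp_apply, hta, ht', ha]
    · subst hck
      refine (NatTrans.naturality_apply (c.ι.app k).hom (e' ≫ g ≫ b).op r).trans ?_
      simp only [op_comp, Functor.map_comp, ConcreteCategory.comp_apply]
      exact (congrArg (c.pt.obj.map e'.op) (hh.trans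
        (congrArg (c.pt.obj.map g.op) (NatTrans.naturality_apply (c.ι.app k).hom b.op r)))).symm
  choose W g w k r hW hw hr using key
  obtain ⟨t, ht⟩ := CompactSpace.isCompact_univ.elim_finite_subcover (fun x => Set.range (g x).left.base)
    (fun x => (etale_left (g x) |> fun _ => (g x).left.isOpenMap.isOpen_range))
    fun x _ => Set.mem_iUnion.2 ⟨x, w x, hw x⟩
  obtain ⟨K₀, hK₀⟩ := IsFiltered.sup_objs_exists (t.image k)
  have m : ∀ x : t, Nonempty (k x.1 ⟶ K₀) := fun x => hK₀ (Finset.mem_image_of_mem k x.2)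
  let r₀ : ∀ x : t, EtCoh.sect (D.obj K₀) (W x.1) := fun x => (D.map (m x).some).hom.app (op (W x.1)) (r x.1)
  have hr₀ : ∀ x, (c.ι.app K₀).hom.app (op (W x.1)) (r₀ x) = c.pt.obj.map (g x.1).op s := fun x => by
    rw [← hr x.1]
    exact congrArg (fun f : D.obj (k x.1) ⟶ c.pt => f.hom.app (op (W x.1)) (r x.1)) (c.w (m x).some)
  let P : t × t → X.Etale := fun p =>
    have : Etale (g p.1.1).left := etale_left _
    have : Etale (g p.2.1).left := etale_left _
    have : Etale U.hom := U.prop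
    Scheme.Etale.mk ((pullback.fst (g p.1.1).left (g p.2.1).left ≫ (g p.1.1).left) ≫ U.hom)
  let p₁ : ∀ p, P p ⟶ W p.1.1 := fun p => MorphismProperty.Over.homMk (pullback.fst _ _)
    ((congrArg (pullback.fst _ _ ≫ ·) (MorphismProperty.Over.w (g p.1.1)).symm).trans (Category.assoc _ _ _).symm)
  let p₂ : ∀ p, P p ⟶ W p.2.1 := fun p => MorphismProperty.Over.homMk (pullback.snd _ _)
    ((congrArg (pullback.snd _ _ ≫ ·) (MorphismProperty.Over.w (g p.2.1)).symm).trans
      ((Category.assoc _ _ _).symm.trans (congrArg (· ≫ U.hom) pullback.condition.symm)))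
  have hp : ∀ p, p₁ p ≫ g p.1.1 = p₂ p ≫ g p.2.1 := fun p =>
    MorphismProperty.Over.Hom.ext pullback.condition
  have hPc : ∀ p, CompactSpace (P p).left := fun p => by
    have := hW p.1.1
    have := hW p.2.1
    haveI : QuasiCompact (g p.2.1).left := quasiCompact_of_compactSpace _
    haveI : CompactSpace (W p.1.1).left := inferInstance
    haveI : QuasiCompact (pullback.fst (g p.1.1).left (g p.2.1).left) := MorphismProperty.pullback_fst _ _ ‹QuasiCompact (g p.2.1).left›
    exact (QuasiCompact.compactSpace_of_compactSpace (pullback.fst (g p.1.1).left (g p.2.1).left) :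
      CompactSpace (pullback (g p.1.1).left (g p.2.1).left : Scheme.{u}))
  let d : ∀ p, EtCoh.sect (D.obj K₀) (P p) := fun p =>
    (D.obj K₀).obj.map (p₁ p).op (r₀ p.1) - (D.obj K₀).obj.map (p₂ p).op (r₀ p.2)
  have hd : ∀ p, ∃ (k : J) (a : K₀ ⟶ k), (D.map a).hom.app (op (P p)) (d p) = 0 := fun p => by
    refine exists_sect_eq_zero hc (d p) ?_
    rw [map_sub, sub_eq_zero]
    refine (NatTrans.naturality_apply (c.ι.app K₀).hom (p₁ p).op (r₀ p.1)).trans
      (((congrArg (c.pt.obj.map (p₁ p).op) (hr₀ p.1)).trans ?_).trans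
        ((NatTrans.naturality_apply (c.ι.app K₀).hom (p₂ p).op (r₀ p.2)).trans
          (congrArg (c.pt.obj.map (p₂ p).op) (hr₀ p.2))).symm)
    rw [← ConcreteCategory.comp_apply, ← ConcreteCategory.comp_apply, ← Functor.map_comp, ← Functor.map_comp,
      ← op_comp, ← op_comp, hp]
  choose kd ad had using hd
  obtain ⟨K, b, hb⟩ := exists_common_stage (Finset.univ : Finset (t × t)) K₀ kd ad
  let r₁ : ∀ x : t, EtCoh.sect (D.obj K) (W x.1) := fun x => (D.map b).hom.app (op (W x.1)) (r₀ x)
  have hagree : ∀ p, (D.obj K).obj.map (p₁ p).op (r₁ p.1) = (D.obj K).obj.map (p₂ p).op (r₁ p.2) := fun p => by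
    obtain ⟨q, hq⟩ := hb p (Finset.mem_univ p)
    refine ((NatTrans.naturality_apply (D.map b).hom (p₁ p).op (r₀ p.1)).symm.trans (sub_eq_zero.1 ?_)).trans
      (NatTrans.naturality_apply (D.map b).hom (p₂ p).op (r₀ p.2))
    rw [← map_sub, ← hq, D.map_comp]
    show (D.map q).hom.app (op (P p)) ((D.map (ad p)).hom.app (op (P p)) (d p)) = 0
    rw [had, map_zero]
  let F := D.obj K
  have hmem : Sieve.generate (Presieve.ofArrows (fun x : t => W x.1) (fun x => g x.1)) ∈ X.smallEtaleTopology U := by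
    refine (mem_topology_iff _).2 fun y => ?_
    obtain ⟨x, hx, z, hz⟩ := Set.mem_iUnion₂.1 (ht (Set.mem_univ y))
    exact ⟨_, g x, z, ⟨_, 𝟙 _, g x, Presieve.ofArrows.mk (⟨x, hx⟩ : t), Category.id_comp _⟩, hz⟩
  have hsh : Presieve.IsSheafFor (F.obj ⋙ forget AddCommGrpCat.{u + 1})
      (Presieve.ofArrows (fun x : t => W x.1) (fun x => g x.1)) :=
    (Presieve.isSheafFor_iff_generate _).2 (((isSheaf_iff_isSheaf_of_type _ _).1
      ((sheafCompose _ (forget AddCommGrpCat.{u + 1})).obj F).property) _ hmem)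
  rw [Presieve.isSheafFor_arrows_iff] at hsh
  obtain ⟨z, hz, -⟩ := hsh r₁ fun a a' Z ga ga' h => by
    let l : Z ⟶ P (a, a') := MorphismProperty.Over.homMk (pullback.lift ga.left ga'.left
      (congrArg (fun f : Z ⟶ U => f.left) h)) (by
        show pullback.lift _ _ _ ≫ (pullback.fst _ _ ≫ (g a.1).left) ≫ U.hom = Z.hom
        simp only [← Category.assoc, pullback.lift_fst]
        rw [Category.assoc, MorphismProperty.Over.w (g a.1)]
        exact MorphismProperty.Over.w ga)
    have h1 : l ≫ p₁ (a, a') = ga := MorphismProperty.Over.Hom.ext (pullback.lift_fst _ _ _)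
    have h2 : l ≫ p₂ (a, a') = ga' := MorphismProperty.Over.Hom.ext (pullback.lift_snd _ _ _)
    show F.obj.map ga.op (r₁ a) = F.obj.map ga'.op (r₁ a')
    rw [← h1, ← h2]
    simp only [op_comp, Functor.map_comp, ConcreteCategory.comp_apply]
    exact congrArg _ (hagree (a, a'))
  refine ⟨K, z, sect_ext _ fun y => ?_⟩
  obtain ⟨x, hx, v, hv⟩ := Set.mem_iUnion₂.1 (ht (Set.mem_univ y))
  refine ⟨W x, g x, v, hv, ?_⟩
  refine (NatTrans.naturality_apply (c.ι.app K).hom (g x).op z).symm.trans ?_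
  refine Eq.trans ?_ (hr₀ ⟨x, hx⟩)
  refine (congrArg _ (hz ⟨x, hx⟩)).trans ?_
  exact congrArg (fun f : D.obj K₀ ⟶ c.pt => f.hom.app (op (W x)) (r₀ ⟨x, hx⟩)) (c.w b)

end

/-- sections over a quasi-compact quasi-separated étale scheme commute with filtered colimits -/
theorem preservesColimitsOfShape_sect (U : X.Etale) [CompactSpace U.left] [QuasiSeparatedSpace U.left] :
    PreservesColimitsOfShape J
      (sheafToPresheaf X.smallEtaleTopology AddCommGrpCat.{u + 1} ⋙ (evaluation _ _).obj (op U)) :=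
  ⟨fun {D} => ⟨fun {c} hc => ⟨isColimitOfRepZero _ (fun x => exists_sect_rep_qcqs hc x)
    (fun _ y hy => exists_sect_eq_zero hc y hy)⟩⟩⟩

end Groth.Agent.EtSh
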