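import Groth.Agent.EtSh.Generators
import Groth.Agent.EtSh.StalkPts
import Mathlib.CategoryTheory.Limits.Preserves.Filtered
import Mathlib.CategoryTheory.Limits.ConcreteCategory.Filtered
import Mathlib.CategoryTheory.Comma.StructuredArrow.Basic
import Mathlib.Algebra.Category.Grp.FilteredColimits

/-!
# Torsion sheaves are filtered colimits of constructible sheaves
-/

set_option autoImplicit false
set_option backward.isDefEq.respectTransparency.types false

universe u

open CategoryTheory CategoryTheory.Limits AlgebraicGeometry Opposite ZeroObject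

namespace Groth.Agent.EtSh

variable (X : Scheme.{u})

/-- the levels of the closure of the generators under sums and cokernels -/
noncomputable def lvl : ℕ → Σ T : Type (u + 1), T → EtCoh.Ab X
  | 0 => ⟨Option ({U : X.Etale // IsAffine U.left} × {n : ℕ // n ≠ 0}),
      fun o => Option.elim o 0 fun p => gen p.1.1 p.2.1⟩
  | k + 1 =>
    let L := lvl k
    ⟨L.1 ⊕ ((L.1 × L.1) ⊕ (Σ p : L.1 × L.1, L.2 p.1 ⟶ L.2 p.2)),
      Sum.elim L.2 (Sum.elim (fun p => L.2 p.1 ⊞ L.2 p.2) (fun p => cokernel p.2))⟩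

/-- a small family of constructible sheaves closed under sums and cokernels -/
abbrev CIdx : Type (u + 1) := Σ k, (lvl X k).1

/-- the sheaf of an index -/
noncomputable abbrev cval (a : CIdx X) : EtCoh.Ab X := (lvl X a.1).2 a.2

variable {X}

theorem exists_lift_lvl {k m : ℕ} (h : k ≤ m) (a : (lvl X k).1) :
    ∃ b : (lvl X m).1, Nonempty ((lvl X m).2 b ≅ (lvl X k).2 a) := by
  induction m, h using Nat.le_induction with
  | base => exact ⟨a, ⟨Iso.refl _⟩⟩
  | succ m _ ih =>
    obtain ⟨b, e⟩ := ih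
    exact ⟨Sum.inl b, e⟩

theorem exists_sum (a b : CIdx X) : ∃ c, Nonempty (cval X c ≅ cval X a ⊞ cval X b) := by
  obtain ⟨a', ⟨ea⟩⟩ := exists_lift_lvl (le_max_left a.1 b.1) a.2
  obtain ⟨b', ⟨eb⟩⟩ := exists_lift_lvl (le_max_right a.1 b.1) b.2
  exact ⟨⟨max a.1 b.1 + 1, Sum.inr (Sum.inl (a', b'))⟩, ⟨biprod.mapIso ea eb⟩⟩

theorem exists_coker (a b : CIdx X) (f : cval X a ⟶ cval X b) :
    ∃ c, Nonempty (cval X c ≅ cokernel f) := by
  obtain ⟨a', ⟨ea⟩⟩ := exists_lift_lvl (le_max_left a.1 b.1) a.2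
  obtain ⟨b', ⟨eb⟩⟩ := exists_lift_lvl (le_max_right a.1 b.1) b.2
  exact ⟨⟨max a.1 b.1 + 1, Sum.inr (Sum.inr ⟨(a', b'), ea.hom ≫ f ≫ eb.inv⟩)⟩,
    ⟨cokernel.mapIso _ _ ea eb (by simp)⟩⟩

theorem isConstructible_of_iso {F G : EtCoh.Ab X} (e : F ≅ G) (h : EtPBC.IsConstructible F) :
    EtPBC.IsConstructible G := fun U hU => by
  obtain ⟨m, T, g, hg, hc, hd, hu, hflc⟩ := h U hU
  exact ⟨m, T, g, hg, hc, hd, hu, fun i => isFLC_of_iso ((EtCoh.pull (g i)).mapIso e) (hflc i)⟩

theorem isConstructible_biprod {F G : EtCoh.Ab X} (hF : EtPBC.IsConstructible F) (hG : EtPBC.IsConstructible G) :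
    EtPBC.IsConstructible (F ⊞ G) :=
  isConstructible_extension
    (S := ShortComplex.mk (biprod.inl : F ⟶ F ⊞ G) biprod.snd biprod.inl_snd)
    (ShortComplex.Splitting.shortExact ⟨biprod.fst, biprod.inr, by simp, by simp, biprod.total⟩) hF hG

theorem isConstructible_zero [CompactSpace X] [QuasiSeparatedSpace X] {G : EtCoh.Ab X} (hG : IsZero G) :
    EtPBC.IsConstructible G := by
  refine (isConstructible_iff_univ G).2 (adaptedStrata_of_cover G ⊤ (fun _ : Unit => 𝟙 X) (fun _ => ?_)
    (by simp [Set.iUnion_const]) fun _ => isFLC_of_isZero ?_)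
  · simp [Topology.IsConstructible.univ]
  · exact (EtCoh.pull (𝟙 X)).map_isZero hG

theorem isConstructible_cval [CompactSpace X] [QuasiSeparatedSpace X] (a : CIdx X) :
    EtPBC.IsConstructible (cval X a) := by
  obtain ⟨k, a⟩ := a
  induction k with
  | zero =>
    rcases a with _ | ⟨⟨U, hU⟩, n, hn⟩
    · exact isConstructible_zero (isZero_zero _)
    · have : NeZero n := ⟨hn⟩
      exact isConstructible_gen U hU n
  | succ k ih =>
    rcases a with a | a | a
    · exact ih a
    · exact isConstructible_biprod (ih a.1) (ih a.2)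
    · exact (isConstructible_kernel_cokernel a.2 (ih a.1.1) (ih a.1.2)).2

variable (F : EtCoh.Ab X)

/-- constructible sheaves from the small family over `F` -/
abbrev IndIdx : Type (u + 1) :=
  CostructuredArrow (inducedFunctor (cval X) : InducedCategory (EtCoh.Ab X) (cval X) ⥤ EtCoh.Ab X) F

/-- an object over `F` -/
noncomputable def mkIdx {F : EtCoh.Ab X} (c : CIdx X) (h : cval X c ⟶ F) : IndIdx F :=
  { left := c, right := ⟨⟨⟩⟩, hom := h }

theorem exists_arrow {G : EtCoh.Ab X} (c : CIdx X) (e : cval X c ≅ G) (h : G ⟶ F) :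
    ∃ (j : IndIdx F) (e' : (inducedFunctor (cval X)).obj j.left ≅ G), j.hom = e'.hom ≫ h :=
  ⟨mkIdx c (e.hom ≫ h), e, rfl⟩

instance : IsFilteredOrEmpty (IndIdx F) where
  cocone_objs i j := by
    obtain ⟨c, ⟨e⟩⟩ := exists_sum i.left j.left
    obtain ⟨k, e', hk⟩ := exists_arrow F c e (biprod.desc i.hom j.hom)
    refine ⟨k, CostructuredArrow.homMk (InducedCategory.homMk (biprod.inl ≫ e'.inv)) ?_,
      CostructuredArrow.homMk (InducedCategory.homMk (biprod.inr ≫ e'.inv)) ?_, trivial⟩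
    · show (biprod.inl ≫ e'.inv) ≫ k.hom = i.hom
      simp [hk]
    · show (biprod.inr ≫ e'.inv) ≫ k.hom = j.hom
      simp [hk]
  cocone_maps i j f g := by
    let f' : cval X i.left ⟶ cval X j.left := (inducedFunctor (cval X)).map f.left
    let g' : cval X i.left ⟶ cval X j.left := (inducedFunctor (cval X)).map g.left
    obtain ⟨c, ⟨e⟩⟩ := exists_coker i.left j.left (f' - g')
    obtain ⟨k, e', hk⟩ := exists_arrow F c e (cokernel.desc (f' - g') j.hom (by
      rw [Preadditive.sub_comp]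
      exact sub_eq_zero.2 ((CostructuredArrow.w f).trans (CostructuredArrow.w g).symm)))
    refine ⟨k, CostructuredArrow.homMk (InducedCategory.homMk (cokernel.π (f' - g') ≫ e'.inv)) ?_,
      CostructuredArrow.hom_ext _ _ (InducedCategory.hom_ext ?_)⟩
    · show (cokernel.π (f' - g') ≫ e'.inv) ≫ k.hom = j.hom
      simp [hk]
    · show f' ≫ cokernel.π (f' - g') ≫ e'.inv = g' ≫ cokernel.π (f' - g') ≫ e'.inv
      have h0 := cokernel.condition (f' - g')
      rw [Preadditive.sub_comp, sub_eq_zero] at h0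
      rw [← Category.assoc, h0, Category.assoc]

instance : Nonempty (IndIdx F) :=
  ⟨mkIdx ⟨0, none⟩ 0⟩

instance : IsFiltered (IndIdx F) where

/-- the tautological diagram -/
noncomputable abbrev indDiagram : IndIdx F ⥤ EtCoh.Ab X :=
  CostructuredArrow.proj (inducedFunctor (cval X)) F ⋙ inducedFunctor (cval X)

/-- the tautological cocone -/
noncomputable def indCocone : Cocone (indDiagram F) where
  pt := F
  ι := { app := fun j => j.hom, naturality := fun i j f => (CostructuredArrow.w f).trans (Category.comp_id _).symm }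

theorem isIso_desc [CompactSpace X] [QuasiSeparatedSpace X] (hF : EtCoh.IsTorsion F) :
    IsIso (colimit.desc (indDiagram F) (indCocone F)) := by
  classical
  refine isIso_of_stalk _ fun Ω _ _ ξ => ?_
  have : PreservesColimitsOfSize.{u + 1, u + 1} (EtCoh.stalk ξ) :=
    (Scheme.pointSmallEtale ξ).skyscraperSheafAdjunction.leftAdjoint_preservesColimits
  let hc := isColimitOfPreserves (EtCoh.stalk ξ) (colimit.isColimit (indDiagram F))
  let d := colimit.desc (indDiagram F) (indCocone F)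
  rw [ConcreteCategory.isIso_iff_bijective]
  have hd : ∀ (j : IndIdx F) (p : ↑((EtCoh.stalk ξ).obj ((indDiagram F).obj j))),
      (EtCoh.stalk ξ).map d ((EtCoh.stalk ξ).map (colimit.ι (indDiagram F) j) p) = (EtCoh.stalk ξ).map j.hom p := fun j p => by
    rw [← ConcreteCategory.comp_apply, ← (EtCoh.stalk ξ).map_comp, colimit.ι_desc]
    rfl
  refine ⟨(injective_iff_map_eq_zero ((EtCoh.stalk ξ).map d).hom).2 fun z hz => ?_, fun p => ?_⟩
  · obtain ⟨j, p, rfl⟩ := Concrete.isColimit_exists_rep _ hc z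
    change (EtCoh.stalk ξ).map d ((EtCoh.stalk ξ).map (colimit.ι (indDiagram F) j) p) = 0 at hz
    rw [hd] at hz
    obtain ⟨U, t, r, rfl⟩ := germ_surjective _ p
    obtain ⟨jh, hjh⟩ : ∃ jh : cval X j.left ⟶ F, jh = j.hom := ⟨_, rfl⟩
    replace hz : germ ξ F t (jh.hom.app (op U) r) = 0 :=
      ((stalk_map_germ jh t r).symm.trans (by subst hjh; exact hz))
    rw [germ_eq_zero_iff] at hz
    obtain ⟨U', g, u', hu', hr⟩ := hz
    obtain ⟨t', ht'⟩ := exists_fib_map g u' t hu'
    have hfin := finite_stalk (isConstructible_cval j.left) ξ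
    let N := Nat.card ↑((EtCoh.stalk ξ).obj (cval X j.left))
    have hN : 0 < N := Nat.card_pos
    have hNr : germ ξ (cval X j.left) t' (N • (cval X j.left).obj.map g.op r) = 0 := by
      rw [map_nsmul]
      exact card_nsmul_eq_zero'
    obtain ⟨U'', g', u'', hu'', hr'⟩ := (germ_eq_zero_iff _ t' _).1 hNr
    obtain ⟨t'', ht''⟩ := exists_fib_map g' u'' t' hu''
    obtain ⟨W, k, w, hW, hw⟩ := exists_affine_nbhd t''
    let s := (cval X j.left).obj.map (k ≫ g' ≫ g).op r
    have hNs : N • s = 0 := by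
      simp only [s, op_comp, Functor.map_comp, ConcreteCategory.comp_apply, ← map_nsmul] at hr' ⊢
      rw [hr', map_zero]
    have : NeZero N := ⟨hN.ne'⟩
    obtain ⟨e, -, hex, huniq⟩ := exists_gen_elem W N
    obtain ⟨φ, hφ⟩ := hex _ s hNs
    have hφ0 : φ ≫ j.hom = 0 := huniq F _ _ (by
      show j.hom.hom.app (op W) (φ.hom.app (op W) e) = (0 : (gen W N).obj.obj (op W) ⟶ F.obj.obj (op W)) e
      subst hjh
      refine (congrArg _ hφ).trans ((NatTrans.naturality_apply _ (k ≫ g' ≫ g).op r).trans ?_)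
      rw [op_comp, op_comp, Functor.map_comp, Functor.map_comp, ConcreteCategory.comp_apply,
        ConcreteCategory.comp_apply]
      refine (congrArg (fun z => F.obj.map k.op (F.obj.map g'.op z)) hr).trans ?_
      rw [map_zero, map_zero]
      rfl)
    obtain ⟨c, ⟨ec⟩⟩ := exists_coker (⟨0, some (⟨W, hW⟩, ⟨N, hN.ne'⟩)⟩ : CIdx X) j.left φ
    obtain ⟨j', e', hj'⟩ := exists_arrow F c ec (cokernel.desc φ j.hom hφ0)
    let a : j ⟶ j' := CostructuredArrow.homMk (InducedCategory.homMk (cokernel.π φ ≫ e'.inv))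
      (by
        show (cokernel.π φ ≫ e'.inv) ≫ j'.hom = j.hom
        refine (congrArg ((cokernel.π φ ≫ e'.inv) ≫ ·) hj').trans ((Category.assoc _ _ _).trans
          ((congrArg (cokernel.π φ ≫ ·) ((Category.assoc _ _ _).symm.trans
            ((congrArg (· ≫ cokernel.desc φ _ hφ0) e'.inv_hom_id).trans (Category.id_comp _)))).trans ?_))
        exact cokernel.π_desc φ _ hφ0)
    show (EtCoh.stalk ξ).map (colimit.ι (indDiagram F) j) (germ ξ _ t r) = 0
    have hz' : (EtCoh.stalk ξ).map ((indDiagram F).map a) (germ ξ _ t r) = 0 := by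
      have ha : (indDiagram F).map a = cokernel.π φ ≫ e'.inv := rfl
      have hs : germ ξ (cval X j.left) t r = germ ξ (cval X j.left) w s := by
        show _ = germ ξ _ w ((cval X j.left).obj.map (k ≫ g' ≫ g).op r)
        rw [germ_map, Functor.map_comp_apply, Functor.map_comp_apply, hw, ht'', ht']
      rw [ha]
      show (EtCoh.stalk ξ).map (cokernel.π φ ≫ e'.inv) (germ ξ (cval X j.left) t r) = 0
      rw [hs, stalk_map_germ, ← hφ]
      show germ ξ _ w ((φ ≫ cokernel.π φ ≫ e'.inv).hom.app (op W) e) = 0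
      rw [cokernel.condition_assoc, zero_comp]
      exact map_zero _
    rw [← colimit.w (indDiagram F) a, (EtCoh.stalk ξ).map_comp, ConcreteCategory.comp_apply, hz', map_zero]
  · obtain ⟨U, t, s, rfl⟩ := germ_surjective F p
    obtain ⟨V, g, ⟨v, hv⟩, hfin⟩ := hF U s (fpt t)
    obtain ⟨tv, htv⟩ := exists_fib_map g v t hv
    obtain ⟨W, k, w, hW, hw⟩ := exists_affine_nbhd tv
    let n := addOrderOf (F.obj.map g.op s)
    have hns : n • F.obj.map (k ≫ g).op s = 0 := by
      rw [op_comp, Functor.map_comp, ConcreteCategory.comp_apply, ← map_nsmul, addOrderOf_nsmul_eq_zero, map_zero]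
    have : NeZero n := ⟨hfin.addOrderOf_pos.ne'⟩
    obtain ⟨e, -, hex, -⟩ := exists_gen_elem W n
    obtain ⟨φ, hφ⟩ := hex F _ hns
    obtain ⟨j, e', hj⟩ := exists_arrow F (⟨0, some (⟨W, hW⟩, ⟨n, hfin.addOrderOf_pos.ne'⟩)⟩ : CIdx X) (Iso.refl _) φ
    refine ⟨(EtCoh.stalk ξ).map (colimit.ι (indDiagram F) j) ((EtCoh.stalk ξ).map e'.inv (germ ξ _ w e)), ?_⟩
    show (EtCoh.stalk ξ).map d ((EtCoh.stalk ξ).map (colimit.ι (indDiagram F) j) _) = _
    rw [hd, ← ConcreteCategory.comp_apply, ← (EtCoh.stalk ξ).map_comp, hj, Iso.inv_hom_id_assoc, stalk_map_germ]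
    refine (congrArg (germ ξ F w) hφ).trans ?_
    rw [germ_map, Functor.map_comp_apply, hw, htv]

end Groth.Agent.EtSh
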