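import Groth.Agent.EtSh.Generators
import Groth.Agent.EtSh.IndConstructible
import Groth.Agent.EtSh.FLCSerre
import Groth.Agent.Spectral.Basic
import Mathlib.CategoryTheory.Limits.Shapes.BinaryBiproducts

/-!
# Constructible sheaves are finitely generated by `j_! ℤ/n`'s
-/

set_option autoImplicit false
set_option backward.isDefEq.respectTransparency.types false

universe u

open CategoryTheory CategoryTheory.Limits AlgebraicGeometry Opposite Topology

namespace Groth.Agent.EtSh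

variable {X : Scheme.{u}}

theorem isConstructible_biproduct [CompactSpace X] [QuasiSeparatedSpace X] :
    ∀ {m : ℕ} (f : Fin m → EtCoh.Ab X), (∀ i, EtPBC.IsConstructible (f i)) → EtPBC.IsConstructible (⨁ f) := by
  intro m
  induction m with
  | zero => exact fun f _ => isConstructible_zero ((IsZero.iff_id_eq_zero _).2 (biproduct.hom_ext _ _ fun i => i.elim0))
  | succ m ih =>
    intro f hf
    let e : f 0 ⊞ (⨁ fun i : Fin m => f i.succ) ≅ ⨁ f :=
      { hom := biprod.desc (biproduct.ι f 0) (biproduct.desc fun i => biproduct.ι f i.succ)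
        inv := biproduct.desc (Fin.cases biprod.inl fun i => biproduct.ι (fun i : Fin m => f i.succ) i ≫ biprod.inr)
        hom_inv_id := by
          refine biprod.hom_ext' _ _ (by simp) (biproduct.hom_ext' _ _ fun i => by simp)
        inv_hom_id := biproduct.hom_ext' _ _ (Fin.cases (by simp) fun i => by simp) }
    exact isConstructible_of_iso e (isConstructible_biprod (hf 0) (ih _ fun i => hf _))

/-- a finite list of generators -/
structure Gens (X : Scheme.{u}) where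
  m : ℕ
  W : Fin m → X.Etale
  n : Fin m → ℕ
  affine : ∀ i, IsAffine (W i).left
  pos : ∀ i, NeZero (n i)

/-- the sum of the generators -/
noncomputable abbrev Gens.sheaf (G : Gens X) : EtCoh.Ab X := ⨁ fun i => gen (G.W i) (G.n i)

theorem Gens.isConstructible [CompactSpace X] [QuasiSeparatedSpace X] (G : Gens X) :
    EtPBC.IsConstructible G.sheaf :=
  isConstructible_biproduct _ fun i => have := G.pos i; isConstructible_gen _ (G.affine i) _

/-- constructible sheaves are quotients of finite sums of generators -/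
theorem exists_gens_epi [CompactSpace X] [QuasiSeparatedSpace X] (F : EtCoh.Ab X)
    (hF : EtPBC.IsConstructible F) (Q : ℕ → Prop)
    (hQ : ∀ (Ω : Type u) [Field Ω] [IsSepClosed Ω] (ξ : Spec (CommRingCat.of Ω) ⟶ X)
      (p : ↑((EtCoh.stalk ξ).obj F)), ∃ n, 0 < n ∧ Q n ∧ n • p = 0) :
    ∃ (G : Gens X) (φ : G.sheaf ⟶ F), Epi φ ∧ ∀ i, Q (G.n i) := by
  classical
  have key : ∀ x : X, ∃ (G : Gens X) (φ : G.sheaf ⟶ F) (E : Set X), (∀ i, Q (G.n i)) ∧ IsConstructible E ∧ x ∈ E ∧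
      ∀ y ∈ E, ∃ (Ω : Type u) (_ : Field Ω) (_ : IsSepClosed Ω) (ξ : Spec (CommRingCat.of Ω) ⟶ X),
        ξ.base default = y ∧ Function.Surjective ((EtCoh.stalk ξ).map φ) := by
    intro x
    obtain ⟨Ω, _, _, ξ, hξ⟩ := exists_geometric_point x
    have hξx : ξ.base default = x := Set.eq_of_mem_singleton (hξ.le ⟨default, rfl⟩)
    have := finite_stalk hF ξ
    obtain ⟨m, ⟨e⟩⟩ := Finite.exists_equiv_fin ↑((EtCoh.stalk ξ).obj F)
    have hp : ∀ i : Fin m, ∃ (W : X.Etale) (n : ℕ) (φ : gen W n ⟶ F) (w : Fib ξ W) (s : EtCoh.sect (gen W n) W),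
        IsAffine W.left ∧ 0 < n ∧ Q n ∧ (EtCoh.stalk ξ).map φ (germ ξ _ w s) = e.symm i := by
      intro i
      obtain ⟨n, hn, hQn, hnp⟩ := hQ Ω ξ (e.symm i)
      obtain ⟨U, t, s, hs⟩ := germ_surjective F (e.symm i)
      rw [← hs, ← map_nsmul, germ_eq_zero_iff] at hnp
      obtain ⟨U', g, u', hu', hr⟩ := hnp
      obtain ⟨t', ht'⟩ := exists_fib_map g u' t hu'
      obtain ⟨W, k, w, hW, hw⟩ := exists_affine_nbhd t'
      obtain ⟨el, -, hex, -⟩ := exists_gen_elem W n
      obtain ⟨φ, hφ⟩ := hex F (F.obj.map (k ≫ g).op s) (by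
        rw [op_comp, Functor.map_comp, ConcreteCategory.comp_apply, ← map_nsmul, ← map_nsmul, hr, map_zero])
      refine ⟨W, n, φ, w, el, hW, hn, hQn, ?_⟩
      rw [stalk_map_germ, hφ, germ_map, Functor.map_comp_apply, hw, ht', hs]
    choose W n φ w s hW hn hQn hφ using hp
    let G : Gens X := ⟨m, W, n, hW, fun i => ⟨(hn i).ne'⟩⟩
    let ψ : G.sheaf ⟶ F := biproduct.desc φ
    have hK := (isConstructible_kernel_cokernel ψ G.isConstructible hF).2
    obtain ⟨l, T, g, hg, hc, -, hu, hflc⟩ := (isConstructible_iff_univ _).1 hK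
    obtain ⟨i, t, ht⟩ := Set.mem_iUnion.1 (hu.ge (Set.mem_univ x))
    have := hg i
    obtain ⟨A, a, ha, M, _, _, el, hel⟩ := (isFLC_iff_trivializes _).1 (hflc i) t
    have : Etale A.hom := A.prop
    have hcard : ∀ (Ω' : Type u) [Field Ω'] [IsSepClosed Ω'] (ξ' : Spec (CommRingCat.of Ω') ⟶ X) (z : A.left),
        ξ'.base default = g i (A.hom z) → Nat.card ↑((EtCoh.stalk ξ').obj (cokernel ψ)) = Nat.card M := by
      intro Ω' _ _ ξ' z hz
      obtain ⟨ζ, rfl⟩ := exists_lift_immersion (g i) ξ' ⟨_, hz.symm⟩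
      obtain ⟨v, -⟩ := exists_fib (ξ := ζ) z ((g i).isEmbedding.injective hz).symm
      exact (Nat.card_congr ((stalkPullIso (g i) ζ).app _).addCommGroupIsoToAddEquiv.toEquiv).symm.trans
        (Nat.card_eq_of_bijective _ (hel Ω' ζ v)).symm
    have hψ : Function.Surjective ((EtCoh.stalk ξ).map ψ) := fun p => by
      refine ⟨(EtCoh.stalk ξ).map (biproduct.ι _ (e p)) (germ ξ _ (w (e p)) (s (e p))), ?_⟩
      rw [← ConcreteCategory.comp_apply, ← Functor.map_comp, biproduct.ι_desc, hφ, e.symm_apply_apply]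
    have hzero : ∀ p : ↑((EtCoh.stalk ξ).obj (cokernel ψ)), p = 0 := fun p => by
      obtain ⟨q, rfl⟩ := stalk_map_surjective (cokernel.π ψ) ξ p
      obtain ⟨r, rfl⟩ := hψ q
      rw [← ConcreteCategory.comp_apply, ← Functor.map_comp, cokernel.condition]
      exact congrArg (fun h : (EtCoh.stalk ξ).obj G.sheaf ⟶ _ => h r) ((EtCoh.stalk ξ).map_zero _ _)
    have hM : Nat.card M = 1 := by
      rw [← hcard Ω ξ a (by rw [hξx, ha, ht]), Nat.card_eq_one_iff_unique]
      exact ⟨⟨fun p q => by rw [hzero p, hzero q]⟩, ⟨0⟩⟩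
    obtain ⟨O, hO, hOe⟩ := (g i).isEmbedding.isInducing.isOpen_iff.1 A.hom.isOpenMap.isOpen_range
    obtain ⟨V, hV, hxV, hVO⟩ := exists_isAffineOpen_mem_and_subset (x := x) (U := ⟨O, hO⟩)
      (show x ∈ O by rw [← ht]; exact hOe.ge ⟨a, ha⟩)
    have hgc : IsConstructible (Set.range (g i)) :=
      (hc i).preimage_of_isOpenEmbedding (f := (Homeomorph.Set.univ X).symm)
        (Homeomorph.Set.univ X).symm.isOpenEmbedding
    refine ⟨G, ψ, (V : Set X) ∩ Set.range (g i), hQn,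
      ((isRetrocompact_of_isCompact V.2 hV.isCompact).isConstructible V.2).inter hgc, ⟨hxV, t, ht⟩, ?_⟩
    rintro _ ⟨hyV, t', rfl⟩
    obtain ⟨z, hz⟩ : t' ∈ Set.range A.hom := hOe.le (hVO hyV)
    obtain ⟨Ω', _, _, ξ', hξ'⟩ := exists_geometric_point ((g i) t')
    have hξy : ξ'.base default = g i t' := Set.eq_of_mem_singleton (hξ'.le ⟨default, rfl⟩)
    refine ⟨Ω', inferInstance, inferInstance, ξ', hξy, fun p => ?_⟩
    have h1 := hcard Ω' ξ' z (by rw [hξy, hz])
    rw [hM, Nat.card_eq_one_iff_unique] at h1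
    have := h1.1
    exact stalk_preservesExact (S := ShortComplex.mk ψ (cokernel.π ψ) (cokernel.condition ψ))
      (ShortComplex.exact_of_g_is_cokernel _ (cokernelIsCokernel ψ)) ξ' p (Subsingleton.elim _ _)
  choose G φ E hQG hE hxE hEy using key
  have hcl := fun x => Groth.Agent.Spectral.isClopen_con_of_isConstructible (hE x)
  have hK := @CompactSpace.isCompact_univ X (constructibleTopology X) Groth.Agent.Spectral.compactSpace_con
  obtain ⟨t, ht⟩ := @IsCompact.elim_finite_subcover X (constructibleTopology X) _ _ hK E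
    (fun x => (hcl x).2) fun x _ => Set.mem_iUnion.2 ⟨x, hxE x⟩
  let σ := Σ x : t, Fin (G x.1).m
  obtain ⟨M, ⟨e⟩⟩ := Finite.exists_equiv_fin σ
  let GG : Gens X := ⟨M, fun k => (G (e.symm k).1.1).W (e.symm k).2, fun k => (G (e.symm k).1.1).n (e.symm k).2,
    fun k => (G (e.symm k).1.1).affine _, fun k => (G (e.symm k).1.1).pos _⟩
  let comp : ∀ a : σ, gen ((G a.1.1).W a.2) ((G a.1.1).n a.2) ⟶ F := fun a => biproduct.ι (fun l => gen ((G a.1.1).W l) ((G a.1.1).n l)) a.2 ≫ φ a.1.1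
  let Φ : GG.sheaf ⟶ F := biproduct.desc fun k => comp (e.symm k)
  refine ⟨GG, Φ, epi_of_stalk_exists Φ fun y => ?_, fun k => hQG _ _⟩
  obtain ⟨x, hx, hy⟩ := Set.mem_iUnion₂.1 (ht (Set.mem_univ y))
  obtain ⟨Ω, _, _, ξ, hξ, hsurj⟩ := hEy x y hy
  refine ⟨Ω, inferInstance, inferInstance, ξ, hξ, ?_⟩
  have hι : ∀ a : σ, ∃ h : gen ((G a.1.1).W a.2) ((G a.1.1).n a.2) ⟶ GG.sheaf, h ≫ Φ = comp a := fun a => by
    have : ∀ b : σ, b = a → ∀ (h : gen ((G b.1.1).W b.2) ((G b.1.1).n b.2) ⟶ GG.sheaf), h ≫ Φ = comp b →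
        ∃ h : gen ((G a.1.1).W a.2) ((G a.1.1).n a.2) ⟶ GG.sheaf, h ≫ Φ = comp a := by
      rintro b rfl h hh; exact ⟨h, hh⟩
    exact this _ (e.symm_apply_apply a) _ (biproduct.ι_desc (fun k => comp (e.symm k)) (e a))
  choose h hh using hι
  let H : (G x).sheaf ⟶ GG.sheaf := biproduct.desc fun l => h ⟨⟨x, hx⟩, l⟩
  have hH : H ≫ Φ = φ x := biproduct.hom_ext' _ _ fun l => by rw [biproduct.ι_desc_assoc, hh]
  intro p
  obtain ⟨q, rfl⟩ := hsurj p
  exact ⟨(EtCoh.stalk ξ).map H q, by rw [← ConcreteCategory.comp_apply, ← Functor.map_comp, hH]⟩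

end Groth.Agent.EtSh
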