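import Groth.Agent.EtSh.SectionsColim
import Groth.Agent.EtSh.FinGen
import Groth.Agent.EtSh.ConstructibleSerre

/-!
# Constructible sheaves are compact objects
-/

set_option autoImplicit false
set_option backward.isDefEq.respectTransparency.types false

universe u w w'

open CategoryTheory CategoryTheory.Limits AlgebraicGeometry Opposite

namespace Groth.Agent.EtSh

variable {X : Scheme.{u}} {J : Type w} [Category.{w'} J] [IsFiltered J]
  [HasColimitsOfShape J AddCommGrpCat.{u + 1}]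
  [PreservesColimitsOfShape J (forget AddCommGrpCat.{u + 1})]
  {D : J ⥤ EtCoh.Ab X} {c : Cocone D} (hc : IsColimit c)
include hc

theorem exists_gens_eq_zero (G : Gens X) {i : J} (f : G.sheaf ⟶ D.obj i) (hf : f ≫ c.ι.app i = 0) :
    ∃ (k : J) (a : i ⟶ k), f ≫ D.map a = 0 := by
  classical
  have h : ∀ l, ∃ (k : J) (a : i ⟶ k), (biproduct.ι (fun l => gen (G.W l) (G.n l)) l ≫ f) ≫ D.map a = 0 := fun l => by
    obtain ⟨e, -, -, huniq⟩ := exists_gen_elem (G.W l) (G.n l)
    have := G.affine l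
    let fl := biproduct.ι (fun l => gen (G.W l) (G.n l)) l ≫ f
    obtain ⟨k, a, ha⟩ := exists_sect_eq_zero hc (fl.hom.app (op (G.W l)) e) (by
      show (fl ≫ c.ι.app i).hom.app (op (G.W l)) e = 0
      have h0 : fl ≫ c.ι.app i = 0 := (Category.assoc _ _ _).trans ((congrArg (_ ≫ ·) hf).trans comp_zero)
      rw [h0]
      rfl)
    refine ⟨k, a, huniq _ _ _ ?_⟩
    exact ha
  choose k a ha using h
  obtain ⟨K, b, hb⟩ := exists_common_stage Finset.univ i k a
  refine ⟨K, b, biproduct.hom_ext' _ _ fun l => ?_⟩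
  obtain ⟨r, hr⟩ := hb l (Finset.mem_univ l)
  rw [comp_zero, ← Category.assoc, ← hr, D.map_comp, ← Category.assoc, ha, zero_comp]

theorem exists_gens_rep (G : Gens X) (f : G.sheaf ⟶ c.pt) :
    ∃ (k : J) (h : G.sheaf ⟶ D.obj k), h ≫ c.ι.app k = f := by
  classical
  have h : ∀ l, ∃ (k : J) (h : gen (G.W l) (G.n l) ⟶ D.obj k),
      h ≫ c.ι.app k = biproduct.ι (fun l => gen (G.W l) (G.n l)) l ≫ f := fun l => by
    obtain ⟨e, hne, hex, huniq⟩ := exists_gen_elem (G.W l) (G.n l)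
    have := G.affine l
    let fl := biproduct.ι (fun l => gen (G.W l) (G.n l)) l ≫ f
    obtain ⟨i, r, hr⟩ := exists_sect_rep hc (G.affine l) (fl.hom.app (op (G.W l)) e)
    obtain ⟨k, a, ha⟩ := exists_sect_eq_zero hc (G.n l • r) (by
      rw [map_nsmul, hr, ← map_nsmul, hne, map_zero])
    obtain ⟨ψ, hψ⟩ := hex (D.obj k) ((D.map a).hom.app (op (G.W l)) r) (by rw [← map_nsmul, ha])
    refine ⟨k, ψ, huniq _ _ _ ?_⟩
    refine ((congrArg ((c.ι.app k).hom.app (op (G.W l))) hψ).trans ?_).trans hr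
    exact congrArg (fun f : D.obj i ⟶ c.pt => f.hom.app (op (G.W l)) r) (c.w a)
  choose k h hh using h
  obtain ⟨K, hK⟩ := IsFiltered.sup_objs_exists (Finset.univ.image k)
  have m : ∀ l, Nonempty (k l ⟶ K) := fun l => hK (Finset.mem_image_of_mem k (Finset.mem_univ l))
  refine ⟨K, biproduct.desc fun l => h l ≫ D.map (m l).some, biproduct.hom_ext' _ _ fun l => ?_⟩
  rw [biproduct.ι_desc_assoc, Category.assoc]
  exact (congrArg (h l ≫ ·) (c.w (m l).some)).trans (hh l)

variable [CompactSpace X] [QuasiSeparatedSpace X] {F : EtCoh.Ab X} (hF : EtPBC.IsConstructible F)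
include hF

omit hc in
theorem exists_gens_epi' : ∃ (G : Gens X) (φ : G.sheaf ⟶ F), Epi φ := by
  obtain ⟨G, φ, h, -⟩ := exists_gens_epi F hF (fun _ => True) fun Ω _ _ ξ p => by
    have := finite_stalk hF ξ
    exact ⟨_, Nat.card_pos, trivial, card_nsmul_eq_zero'⟩
  exact ⟨G, φ, h⟩

theorem exists_hom_eq_zero {i : J} (f : F ⟶ D.obj i) (hf : f ≫ c.ι.app i = 0) :
    ∃ (k : J) (a : i ⟶ k), f ≫ D.map a = 0 := by
  obtain ⟨G, π, hπ⟩ := exists_gens_epi' hF
  obtain ⟨k, a, ha⟩ := exists_gens_eq_zero hc G (π ≫ f) (by rw [Category.assoc, hf, comp_zero])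
  exact ⟨k, a, (cancel_epi π).1 ((Category.assoc _ _ _).symm.trans (ha.trans comp_zero.symm))⟩

theorem exists_hom_rep (f : F ⟶ c.pt) : ∃ (k : J) (h : F ⟶ D.obj k), h ≫ c.ι.app k = f := by
  obtain ⟨G, π, hπ⟩ := exists_gens_epi' hF
  obtain ⟨k, h, hh⟩ := exists_gens_rep hc G (π ≫ f)
  have hK := (isConstructible_kernel_cokernel π G.isConstructible hF).1
  obtain ⟨G', π', hπ'⟩ := exists_gens_epi' hK
  obtain ⟨k', a, ha⟩ := exists_gens_eq_zero hc G' (π' ≫ kernel.ι π ≫ h) (by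
    simp only [Category.assoc, hh, kernel.condition_assoc, zero_comp, comp_zero])
  have hz : kernel.ι π ≫ h ≫ D.map a = 0 := by
    rw [← cancel_epi π', comp_zero]
    simpa only [Category.assoc] using ha
  let hcok : IsColimit (CokernelCofork.ofπ π (kernel.condition π)) :=
    Abelian.epiIsCokernelOfKernel _ (limit.isLimit _)
  obtain ⟨g, hg⟩ := CokernelCofork.IsColimit.desc' hcok (h ≫ D.map a) hz
  have hg' : π ≫ g = h ≫ D.map a := hg
  refine ⟨k', g, (cancel_epi π).1 ?_⟩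
  rw [reassoc_of% hg', c.w, hh]

end Groth.Agent.EtSh
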