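import Groth.Agent.EtSh.Pull
import Groth.Agent.EtSh.Supp

/-!
# The locus where two sections agree, counits of open immersions, restriction along étale surjections
-/

set_option autoImplicit false
set_option backward.isDefEq.respectTransparency.types false

universe u

open CategoryTheory CategoryTheory.Limits AlgebraicGeometry Opposite

namespace Groth.Agent.EtSh

variable {X Y : Scheme.{u}}

theorem unit_germ_eq_iff (f : X ⟶ Y) {Ω : Type u} [Field Ω] [IsSepClosed Ω]
    (ξ : Spec (CommRingCat.of Ω) ⟶ X) (F : EtCoh.Ab Y) {V : Y.Etale} (t : Fib (ξ ≫ f) V)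
    (s s' : EtCoh.sect F V) :
    germ ξ ((EtCoh.pull f).obj F) ((fibBC f ξ).inv.app V t)
        (((EtCoh.pullPushAdj f).unit.app F).hom.app (op V) s) =
      germ ξ ((EtCoh.pull f).obj F) ((fibBC f ξ).inv.app V t)
        (((EtCoh.pullPushAdj f).unit.app F).hom.app (op V) s') ↔
      germ (ξ ≫ f) F t s = germ (ξ ≫ f) F t s' := by
  rw [← stalkPullIso_inv_germ, ← stalkPullIso_inv_germ]
  exact ⟨fun h => ((ConcreteCategory.isIso_iff_bijective ((stalkPullIso f ξ).inv.app F)).1
    inferInstance).1 h, fun h => by rw [h]⟩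

theorem exists_open_where_sections_agree (F : EtCoh.Ab Y) (s t : EtCoh.sect F (EtCoh.top Y)) :
    ∃ W : Y.Opens, ∀ (T : Scheme.{u}) (f : T ⟶ Y),
      Set.range f.base ⊆ (W : Set Y) ↔
        ((EtCoh.pullPushAdj f).unit.app F).hom.app (op (EtCoh.top Y)) s =
          ((EtCoh.pullPushAdj f).unit.app F).hom.app (op (EtCoh.top Y)) t := by
  let Z : Set Y := EtShriek.sectSupp F (EtCoh.top Y) (s - t)
  have key : ∀ {Ω : Type u} [Field Ω] [IsSepClosed Ω] {η : Spec (CommRingCat.of Ω) ⟶ Y}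
      (a : Fib η (EtCoh.top Y)), germ η F a s = germ η F a t ↔ fpt a ∉ Z := fun {Ω} _ _ {η} a => by
    rw [← sub_eq_zero, ← map_sub]
    exact not_iff_not.1 (by rw [not_not]; exact germ_ne_zero_iff_mem F a (s - t))
  refine ⟨⟨Zᶜ, (isClosed_sectSupp F _ _).isOpen_compl⟩, fun T f => ⟨fun h => ?_, fun h => ?_⟩⟩
  · refine sect_ext_germ ((EtCoh.pull f).obj F) (U := (EtCoh.bc f).obj (EtCoh.top Y))
      fun Ω _ _ ξ a => ?_
    have ha : a = (fibBC f ξ).inv.app _ ((fibBC f ξ).hom.app _ a) :=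
      (((fibBC f ξ).app _).toEquiv.symm_apply_apply a).symm
    rw [ha, unit_germ_eq_iff, key]
    exact h ⟨(ξ.base default), (hom_fpt ((fibBC f ξ).hom.app _ a)).symm⟩
  · rintro _ ⟨x, rfl⟩
    obtain ⟨Ω, _, _, ξ, hξ⟩ := exists_geometric_point x
    have hx : ξ.base default = x := Set.eq_of_mem_singleton (hξ.le ⟨default, rfl⟩)
    obtain ⟨a, ha⟩ := exists_fib (ξ := ξ ≫ f) (U := EtCoh.top Y) (f.base x) (by
      change f.base x = f.base (ξ.base default); rw [hx])
    have := (key a).1 ((unit_germ_eq_iff f ξ F a s t).1 (congrArg _ h))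
    rw [ha] at this
    exact this

end Groth.Agent.EtSh
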