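import Groth.Agent.EtSh.Pull
import Groth.Agent.EtSh.Supp
import Groth.Agent.AlgSpc.EtLift
import Groth.Agent.RedSepLib.Reduced
import Mathlib.AlgebraicGeometry.Morphisms.ClosedImmersion
import Mathlib.AlgebraicGeometry.Morphisms.FlatMono
import Mathlib.CategoryTheory.Adjunction.FullyFaithful

/-!
# Direct images of abelian étale sheaves along closed immersions
-/

set_option autoImplicit false
set_option backward.isDefEq.respectTransparency.types false

universe u

open CategoryTheory CategoryTheory.Limits AlgebraicGeometry Opposite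

namespace Groth.Agent.EtSh

section Open

variable {Y : Scheme.{u}}

/-- an open subscheme of an object of the small étale site -/
noncomputable abbrev openObj (V : Y.Etale) (O : V.left.Opens) : Y.Etale :=
  haveI : Etale V.hom := V.prop
  Scheme.Etale.mk (O.ι ≫ V.hom)

/-- its inclusion -/
noncomputable def openHom (V : Y.Etale) (O : V.left.Opens) : openObj V O ⟶ V :=
  MorphismProperty.Over.homMk O.ι rfl

theorem openHom_left (V : Y.Etale) (O : V.left.Opens) : (openHom V O).left = O.ι := rfl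

theorem fpt_mem_openObj {Ω : Type u} [Field Ω] [IsSepClosed Ω] {ξ : Spec (CommRingCat.of Ω) ⟶ Y}
    {V : Y.Etale} (O : V.left.Opens) (t : Fib ξ V) (h : fpt t ∈ O) :
    ∃ t' : Fib ξ (openObj V O), (Scheme.pointSmallEtale ξ).fiber.map (openHom V O) t' = t := by
  exact exists_fib_map (openHom V O) ⟨fpt t, h⟩ t rfl

/-- a section vanishes on an object avoiding its support -/
theorem sect_map_eq_zero (F : EtCoh.Ab Y) {V W : Y.Etale} (g : W ⟶ V) (s : EtCoh.sect F V)
    (h : ∀ w : W.left, g.left.base w ∉ EtShriek.sectSupp F V s) : F.obj.map g.op s = 0 := by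
  refine sect_ext_germ F fun Ω _ _ ξ t => ?_
  rw [germ_map, map_zero]
  by_contra hne
  exact h (fpt t) (map_fpt g t ▸ (germ_ne_zero_iff_mem F _ s).1 hne)

theorem eq_zero_of_isEmpty (F : EtCoh.Ab Y) (V : Y.Etale) (h : IsEmpty V.left) (s : EtCoh.sect F V) :
    s = 0 :=
  sect_ext F fun x => (h.false x).elim

end Open

variable {Z X : Scheme.{u}} (i : Z ⟶ X)

theorem bc_fst_map {V V' : X.Etale} (g : V' ⟶ V) (w : ((EtCoh.bc i).obj V').left) :
    (pullback.fst V.hom i : ((EtCoh.bc i).obj V).left ⟶ V.left) (((EtCoh.bc i).map g).left w) =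
      g.left ((pullback.fst V'.hom i : ((EtCoh.bc i).obj V').left ⟶ V'.left) w) :=
  congrArg (fun k : ((EtCoh.bc i).obj V').left ⟶ V.left => k w) (EtCoh.isPullback_bc_map i g).w

variable [IsClosedImmersion i]

theorem exists_open_preimage (V : X.Etale) (O : ((EtCoh.bc i).obj V).left.Opens) :
    ∃ O' : V.left.Opens,
      (pullback.fst V.hom i : ((EtCoh.bc i).obj V).left ⟶ V.left) ⁻¹ᵁ O' = O := by
  obtain ⟨T, hT, hTO⟩ := (pullback.fst V.hom i).isClosedEmbedding.isInducing.isOpen_iff.1 O.2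
  exact ⟨⟨T, hT⟩, TopologicalSpace.Opens.ext hTO⟩

/-- étale neighbourhoods on a closed subscheme extend to the ambient scheme, up to open immersion -/
theorem exists_nbhd_openImmersion (U : Z.Etale) (u : U.left) :
    ∃ (V : X.Etale) (g : (EtCoh.bc i).obj V ⟶ U) (v : ((EtCoh.bc i).obj V).left),
      g.left.base v = u ∧ IsOpenImmersion g.left := by
  haveI : Etale U.hom := U.prop
  obtain ⟨A, hA, hzA, -⟩ := exists_isAffineOpen_mem_and_subset (x := i (U.hom u)) (U := ⊤) trivial
  have hA' : IsAffineOpen (i ⁻¹ᵁ A) := hA.preimage i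
  obtain ⟨U₀, hU₀, huU₀, e⟩ :=
    exists_isAffineOpen_mem_and_subset (x := u) (U := U.hom ⁻¹ᵁ (i ⁻¹ᵁ A)) hzA
  have hs : Function.Surjective (i.app A).hom := i.app_surjective A hA
  have het : (U.hom.appLE (i ⁻¹ᵁ A) U₀ e).hom.Etale :=
    HasRingHomProperty.appLE @Etale U.hom inferInstance ⟨i ⁻¹ᵁ A, hA'⟩ ⟨U₀, hU₀⟩ e
  let P := Γ(X, A)
  let B := Γ(Z, i ⁻¹ᵁ A)
  let C := Γ(U.left, U₀)
  letI : Algebra P B := (i.app A).hom.toAlgebra
  letI : Algebra B C := (U.hom.appLE (i ⁻¹ᵁ A) U₀ e).hom.toAlgebra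
  letI : Algebra P C := ((algebraMap B C).comp (algebraMap P B)).toAlgebra
  haveI : IsScalarTower P B C := IsScalarTower.of_algebraMap_eq' rfl
  haveI : Algebra.Etale B C := het
  obtain ⟨Q, _, _, σ, hQ, hσ, -⟩ := Groth.Agent.AlgSpc.exists_etale_lift P B C hs
  let ψ : P ⟶ CommRingCat.of Q := CommRingCat.ofHom (algebraMap P Q)
  haveI : Etale (Spec.map ψ) := by
    rw [HasRingHomProperty.Spec_iff (P := @Etale)]
    exact RingHom.etale_algebraMap.mpr hQ
  let V : X.Etale := Scheme.Etale.mk (Spec.map ψ ≫ hA.fromSpec)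
  let σ' : CommRingCat.of Q ⟶ C := CommRingCat.ofHom σ.toRingHom
  haveI : IsClosedImmersion (Spec.map σ') := IsClosedImmersion.spec_of_surjective σ' hσ
  let b : Spec C ⟶ Z := Spec.map (U.hom.appLE (i ⁻¹ᵁ A) U₀ e) ≫ hA'.fromSpec
  have hb : b = hU₀.fromSpec ≫ U.hom := IsAffineOpen.SpecMap_appLE_fromSpec U.hom hA' hU₀ e
  have hψ : ψ ≫ σ' = i.app A ≫ U.hom.appLE (i ⁻¹ᵁ A) U₀ e := by
    ext x
    exact σ.commutes x
  have hcond : Spec.map σ' ≫ V.hom = b ≫ i := by
    show Spec.map σ' ≫ Spec.map ψ ≫ hA.fromSpec = _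
    rw [← Spec.map_comp_assoc, hψ, Spec.map_comp_assoc, Category.assoc,
      ← IsAffineOpen.SpecMap_appLE_fromSpec i hA hA' le_rfl, Scheme.Hom.appLE_eq_app]
  let T := (EtCoh.bc i).obj V
  let j : Spec C ⟶ T.left := pullback.lift (Spec.map σ') b hcond
  have hj1 : j ≫ (pullback.fst V.hom i : T.left ⟶ V.left) = Spec.map σ' := pullback.lift_fst _ _ _
  have hj2 : j ≫ T.hom = b := pullback.lift_snd _ _ _
  haveI : IsClosedImmersion (j ≫ (pullback.fst V.hom i : T.left ⟶ V.left)) := by
    rw [hj1]; exact IsClosedImmersion.spec_of_surjective σ' hσ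
  haveI : IsSeparated (pullback.fst V.hom i : T.left ⟶ V.left) :=
    MorphismProperty.pullback_fst _ _ inferInstance
  haveI : IsClosedImmersion j := MorphismProperty.of_postcomp (W := @IsClosedImmersion) (W' := @IsSeparated)
    j (pullback.fst V.hom i : T.left ⟶ V.left)
    (MorphismProperty.pullback_fst V.hom i inferInstance) ‹_›
  haveI : Etale (j ≫ T.hom) := by rw [hj2, hb]; infer_instance
  haveI : Etale T.hom := T.prop
  haveI : Etale j := Etale.of_comp j T.hom
  haveI : IsOpenImmersion j := IsOpenImmersion.of_flat_of_mono j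
  obtain ⟨O', hO'⟩ := exists_open_preimage i V j.opensRange
  let h := ((EtCoh.bc i).map (openHom V O')).left
  have hr : Set.range h ⊆ Set.range j := by
    rintro _ ⟨w, rfl⟩
    show h w ∈ j.opensRange
    rw [← hO']
    show (pullback.fst V.hom i : T.left ⟶ V.left) (h w) ∈ O'
    rw [bc_fst_map]
    exact ((pullback.fst (openObj V O').hom i : ((EtCoh.bc i).obj (openObj V O')).left ⟶ _) w).2
  let g₀ := IsOpenImmersion.lift j h hr ≫ hU₀.fromSpec
  have hg₀ : g₀ ≫ U.hom = ((EtCoh.bc i).obj (openObj V O')).hom := by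
    rw [Category.assoc, ← hb, ← hj2, IsOpenImmersion.lift_fac_assoc]
    exact Over.w ((EtCoh.bc i).map (openHom V O')).hom
  let q : Spec C := hU₀.primeIdealOf ⟨u, huU₀⟩
  have hq : (pullback.fst V.hom i : T.left ⟶ V.left) (j q) ∈ O' := by
    show j q ∈ (pullback.fst V.hom i : T.left ⟶ V.left) ⁻¹ᵁ O'
    rw [hO']
    exact ⟨q, rfl⟩
  obtain ⟨w, hw1, hw2⟩ := Scheme.Pullback.exists_preimage_pullback
    (f := (pullback.fst V.hom i : T.left ⟶ V.left)) (g := (openHom V O').left) (j q) ⟨_, hq⟩ rfl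
  let sq := EtCoh.isPullback_bc_map i (openHom V O')
  haveI : IsOpenImmersion h :=
    MorphismProperty.of_isPullback (P := @IsOpenImmersion) (EtCoh.isPullback_bc_map i (openHom V O')).flip
      (inferInstanceAs (IsOpenImmersion O'.ι))
  haveI : IsOpenImmersion (IsOpenImmersion.lift j h hr) := by
    haveI : IsOpenImmersion (IsOpenImmersion.lift j h hr ≫ j) := by
      rw [IsOpenImmersion.lift_fac]; infer_instance
    exact IsOpenImmersion.of_comp _ j
  have himm : IsOpenImmersion g₀ :=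
    inferInstanceAs (IsOpenImmersion (IsOpenImmersion.lift j h hr ≫ hU₀.fromSpec))
  refine ⟨openObj V O', MorphismProperty.Over.homMk g₀ hg₀, sq.isoPullback.inv w, ?_, himm⟩
  have hw : h (sq.isoPullback.inv w) = j q := by
    rw [← hw1, ← Scheme.Hom.comp_apply]
    show (sq.isoPullback.inv ≫ ((EtCoh.bc i).map (openHom V O')).left) w = _
    rw [IsPullback.isoPullback_inv_fst]
    rfl
  show g₀ (sq.isoPullback.inv w) = u
  have hl : IsOpenImmersion.lift j h hr (sq.isoPullback.inv w) = q := by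
    refine j.isOpenEmbedding.injective ?_
    rw [← Scheme.Hom.comp_apply, IsOpenImmersion.lift_fac, hw]
  rw [Scheme.Hom.comp_apply, hl]
  exact hU₀.fromSpec_primeIdealOf ⟨u, huU₀⟩

/-- étale neighbourhoods on a closed subscheme extend to the ambient scheme -/
theorem exists_nbhd (U : Z.Etale) (u : U.left) :
    ∃ (V : X.Etale) (g : (EtCoh.bc i).obj V ⟶ U) (v : ((EtCoh.bc i).obj V).left),
      g.left.base v = u := by
  obtain ⟨V, g, v, hv, -⟩ := exists_nbhd_openImmersion i U u
  exact ⟨V, g, v, hv⟩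

section Stalk

variable {Ω : Type u} [Field Ω] [IsSepClosed Ω] (ζ : Spec (CommRingCat.of Ω) ⟶ Z)

/-- comparison of stalks of a direct image -/
noncomputable def pushStalkMap (G : EtCoh.Ab Z) :
    (EtCoh.stalk (ζ ≫ i)).obj ((EtCoh.push i).obj G) ⟶ (EtCoh.stalk ζ).obj G :=
  (stalkPullIso i ζ).inv.app ((EtCoh.push i).obj G) ≫
    (EtCoh.stalk ζ).map ((EtCoh.pullPushAdj i).counit.app G)

omit [IsClosedImmersion i] in
theorem pushStalkMap_germ (G : EtCoh.Ab Z) {V : X.Etale} (t : Fib (ζ ≫ i) V)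
    (r : EtCoh.sect ((EtCoh.push i).obj G) V) :
    pushStalkMap i ζ G (germ (ζ ≫ i) ((EtCoh.push i).obj G) t r) =
      germ ζ G ((fibBC i ζ).inv.app V t) r := by
  rw [pushStalkMap, ConcreteCategory.comp_apply, stalkPullIso_inv_germ, stalk_map_germ]
  refine congrArg _ ?_
  have := congrArg (fun k : (EtCoh.push i).obj G ⟶ (EtCoh.push i).obj G => k.hom.app (op V) r)
    ((EtCoh.pullPushAdj i).right_triangle_components G)
  exact this

theorem bijective_pushStalkMap (G : EtCoh.Ab Z) : Function.Bijective (pushStalkMap i ζ G) := by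
  refine ⟨(injective_iff_map_eq_zero (pushStalkMap i ζ G).hom).2 fun p hp => ?_, fun p => ?_⟩
  · obtain ⟨V, t, r, rfl⟩ := germ_surjective _ p
    rw [pushStalkMap_germ] at hp
    by_contra hne
    let w := (fibBC i ζ).inv.app V t
    have hw : fpt w ∉ EtShriek.sectSupp G ((EtCoh.bc i).obj V) r := fun h =>
      (germ_ne_zero_iff_mem G w r).2 h hp
    obtain ⟨O', hO'⟩ := exists_open_preimage i V
      ⟨_, (isClosed_sectSupp G ((EtCoh.bc i).obj V) r).isOpen_compl⟩
    have hfst : (pullback.fst V.hom i : ((EtCoh.bc i).obj V).left ⟶ V.left) (fpt w) = fpt t := by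
      have := congrArg (fun a : Fib (ζ ≫ i) V => fpt a) ((fibBC i ζ).inv_hom_id_app_apply V t)
      exact this
    have ht : fpt t ∈ O' := by
      rw [← hfst]
      exact (congrArg (fun O : ((EtCoh.bc i).obj V).left.Opens => fpt w ∈ O) hO').mpr hw
    obtain ⟨t', ht'⟩ := fpt_mem_openObj O' t ht
    refine hne ((germ_eq_zero_iff _ t r).2 ⟨openObj V O', openHom V O', fpt t', ?_, ?_⟩)
    · rw [← map_fpt, ht']
    · refine sect_map_eq_zero G ((EtCoh.bc i).map (openHom V O')) r fun x hx => ?_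
      have hm : (pullback.fst V.hom i : ((EtCoh.bc i).obj V).left ⟶ V.left)
          (((EtCoh.bc i).map (openHom V O')).left x) ∈ O' := by
        rw [bc_fst_map]
        exact ((pullback.fst (openObj V O').hom i : ((EtCoh.bc i).obj (openObj V O')).left ⟶ _) x).2
      exact ((congrArg (fun O : ((EtCoh.bc i).obj V).left.Opens =>
        ((EtCoh.bc i).map (openHom V O')).left x ∈ O) hO').mp hm) hx
  · obtain ⟨U, t, s, rfl⟩ := germ_surjective G p
    obtain ⟨V, g, v, hv⟩ := exists_nbhd i U (fpt t)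
    obtain ⟨w, hw⟩ := exists_fib_map g v t hv
    let r : EtCoh.sect ((EtCoh.push i).obj G) V := G.obj.map g.op s
    refine ⟨germ (ζ ≫ i) _ ((fibBC i ζ).hom.app V w) r, ?_⟩
    have e : (fibBC i ζ).inv.app V ((fibBC i ζ).hom.app V w) = w :=
      ((fibBC i ζ).app V).toEquiv.symm_apply_apply w
    rw [pushStalkMap_germ, e]
    exact (germ_map G g w s).trans (by rw [hw])

theorem isIso_counit (G : EtCoh.Ab Z) : IsIso ((EtCoh.pullPushAdj i).counit.app G) := by
  refine isIso_of_stalk _ fun Ω _ _ ζ => ?_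
  have h : IsIso (pushStalkMap i ζ G) :=
    (ConcreteCategory.isIso_iff_bijective _).2 (bijective_pushStalkMap i ζ G)
  exact @IsIso.of_isIso_comp_left _ _ _ _ _ ((stalkPullIso i ζ).inv.app ((EtCoh.push i).obj G))
    ((EtCoh.stalk ζ).map ((EtCoh.pullPushAdj i).counit.app G)) inferInstance h

/-- direct image along a closed immersion is fully faithful -/
noncomputable def pushClosedFullyFaithful : (EtCoh.push i).FullyFaithful :=
  haveI : ∀ G, IsIso ((EtCoh.pullPushAdj i).counit.app G) := isIso_counit i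
  haveI : IsIso (EtCoh.pullPushAdj i).counit := NatIso.isIso_of_isIso_app _
  (EtCoh.pullPushAdj i).fullyFaithfulROfIsIsoCounit

end Stalk

omit [IsClosedImmersion i] in
theorem isEmpty_bc {V : X.Etale} (h : Disjoint (Set.range V.hom.base) (Set.range i.base)) :
    IsEmpty ((EtCoh.bc i).obj V).left :=
  ⟨fun x => Set.disjoint_left.1 h ⟨(pullback.fst V.hom i : ((EtCoh.bc i).obj V).left ⟶ V.left) x, rfl⟩
    ⟨(pullback.snd V.hom i : ((EtCoh.bc i).obj V).left ⟶ Z) x,
      congrArg (fun k : ((EtCoh.bc i).obj V).left ⟶ X => k x) pullback.condition.symm⟩⟩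

omit [IsClosedImmersion i] in
theorem isZero_push_sect (G : EtCoh.Ab Z) {V : X.Etale}
    (h : Disjoint (Set.range V.hom.base) (Set.range i.base)) :
    IsZero (((EtCoh.push i).obj G).obj.obj (op V)) :=
  AddCommGrpCat.isZero_iff_subsingleton.2 ⟨fun a b =>
    (eq_zero_of_isEmpty G _ (isEmpty_bc i h) a).trans (eq_zero_of_isEmpty G _ (isEmpty_bc i h) b).symm⟩

theorem isZero_stalk_of_sect (F : EtCoh.Ab X)
    (hF : ∀ V : X.Etale, Disjoint (Set.range V.hom.base) (Set.range i.base) → IsZero (F.obj.obj (op V)))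
    {Ω : Type u} [Field Ω] [IsSepClosed Ω] (ξ : Spec (CommRingCat.of Ω) ⟶ X)
    (hξ : ξ.base default ∉ Set.range i.base) : IsZero ((EtCoh.stalk ξ).obj F) := by
  refine AddCommGrpCat.isZero_iff_subsingleton.2 ?_
  suffices h : ∀ p : ↑((EtCoh.stalk ξ).obj F), p = 0 from ⟨fun a b => (h a).trans (h b).symm⟩
  intro p
  obtain ⟨V, t, s, rfl⟩ := germ_surjective F p
  let O : V.left.Opens :=
    ⟨V.hom.base ⁻¹' (Set.range i.base)ᶜ, i.isClosedEmbedding.isClosed_range.isOpen_compl.preimage V.hom.continuous⟩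
  have ht : fpt t ∈ O := by
    show V.hom.base (fpt t) ∉ Set.range i.base
    rw [hom_fpt]
    exact hξ
  have hd : Disjoint (Set.range (openObj V O).hom.base) (Set.range i.base) :=
    Set.disjoint_left.2 fun x ⟨y, hy⟩ hx => y.2 (by rw [← hy] at hx; exact hx)
  refine (germ_eq_zero_iff F t s).2 ⟨openObj V O, openHom V O, ⟨_, ht⟩, rfl, ?_⟩
  exact (AddCommGrpCat.isZero_iff_subsingleton.1 (hF _ hd)).elim _ _

/-- sheaves without sections off the closed subscheme are direct images -/
theorem isIso_unit_of_sect (F : EtCoh.Ab X)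
    (hF : ∀ V : X.Etale, Disjoint (Set.range V.hom.base) (Set.range i.base) → IsZero (F.obj.obj (op V))) :
    IsIso ((EtCoh.pullPushAdj i).unit.app F) := by
  refine isIso_of_stalk _ fun Ω _ _ ξ => ?_
  by_cases hξ : ξ.base default ∈ Set.range i.base
  · have hrange : Set.range ξ ⊆ Set.range i := by
      rintro _ ⟨y, rfl⟩
      rw [Subsingleton.elim y default]
      exact hξ
    obtain ⟨ζ, rfl⟩ := Groth.Agent.RedSepLib.exists_lift_of_range_subset ξ i hrange
    haveI : IsIso (pushStalkMap i ζ ((EtCoh.pull i).obj F)) :=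
      (ConcreteCategory.isIso_iff_bijective _).2 (bijective_pushStalkMap i ζ _)
    have e : (EtCoh.stalk (ζ ≫ i)).map ((EtCoh.pullPushAdj i).unit.app F) ≫
        pushStalkMap i ζ ((EtCoh.pull i).obj F) = (stalkPullIso i ζ).inv.app F := by
      rw [pushStalkMap]
      erw [(stalkPullIso i ζ).inv.naturality_assoc ((EtCoh.pullPushAdj i).unit.app F)]
      refine (congrArg ((stalkPullIso i ζ).inv.app F ≫ ·) ?_).trans (Category.comp_id _)
      show (EtCoh.stalk ζ).map ((EtCoh.pull i).map ((EtCoh.pullPushAdj i).unit.app F)) ≫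
        (EtCoh.stalk ζ).map ((EtCoh.pullPushAdj i).counit.app ((EtCoh.pull i).obj F)) = _
      rw [← Functor.map_comp]
      exact (congrArg (EtCoh.stalk ζ).map ((EtCoh.pullPushAdj i).left_triangle_components F)).trans
        (CategoryTheory.Functor.map_id _ _)
    exact IsIso.of_isIso_fac_right e
  · exact isIso_of_source_target_iso_zero _ (isZero_stalk_of_sect i F hF ξ hξ).isoZero
      (isZero_stalk_of_sect i _ (fun V => isZero_push_sect i _) ξ hξ).isoZero

end Groth.Agent.EtSh
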