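import Groth.Agent.NormalSmooth.Basic
import Groth.Agent.EtSh.ConstStalk
import Groth.Agent.EtSh.StalkPts
import Groth.Agent.EtSh.Pull
import Groth.Agent.EtSh.Point
import Groth.Agent.EtSh.Supp
import Groth.Agent.EtSh.Gluing
import Groth.Agent.ProConsLib.Scheme
import Groth.Prelude.Def_Pi1

/-!
# Constant sheaves on normal schemes are direct images from dense parts
-/

set_option autoImplicit false
set_option backward.isDefEq.respectTransparency.types false

universe u

open CategoryTheory CategoryTheory.Limits AlgebraicGeometry Opposite Topology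

namespace Groth.Agent.EtSh

variable {X : Scheme.{u}}

theorem isDomain_stalk_of_etale (hX : ∀ x : X, IsDomain (X.presheaf.stalk x) ∧ IsIntegrallyClosed (X.presheaf.stalk x))
    {Y : Scheme.{u}} (f : Y ⟶ X) [Etale f] (y : Y) : IsDomain (Y.presheaf.stalk y) := by
  obtain ⟨U, hU, hxU, -⟩ := exists_isAffineOpen_mem_and_subset (x := f y) (U := ⊤) trivial
  obtain ⟨V, hV, hyV, hVU⟩ := exists_isAffineOpen_mem_and_subset (x := y) (U := f ⁻¹ᵁ U) hxU
  algebraize [(f.appLE U V hVU).hom]
  have : Algebra.Etale Γ(X, U) Γ(Y, V) := f.etale_appLE hU hV hVU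
  have hP : EGA4.IsNormalRing Γ(X, U) := fun p _ => by
    let x : U := ⟨hU.fromSpec ⟨p, ‹_›⟩, hU.range_fromSpec.le ⟨_, rfl⟩⟩
    let := TopCat.Presheaf.algebra_section_stalk X.presheaf x
    have : IsLocalization.AtPrime (X.presheaf.stalk x.1) p :=
      hU.isLocalization_stalk' ⟨p, ‹_›⟩ x.2
    let e : Localization.AtPrime p ≃ₐ[Γ(X, U)] X.presheaf.stalk x.1 := IsLocalization.algEquiv p.primeCompl _ _
    have := (hX x.1).1
    have := (hX x.1).2
    exact ⟨MulEquiv.isDomain (X.presheaf.stalk x.1) e.toRingEquiv.toMulEquiv,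
      IsIntegrallyClosed.of_equiv e.symm.toRingEquiv⟩
  let := TopCat.Presheaf.algebra_section_stalk Y.presheaf (⟨y, hyV⟩ : V)
  have := hV.isLocalization_stalk ⟨y, hyV⟩
  let q := (hV.primeIdealOf ⟨y, hyV⟩).asIdeal
  let e : Y.presheaf.stalk y ≃ₐ[Γ(Y, V)] Localization.AtPrime q := IsLocalization.algEquiv q.primeCompl _ _
  have := (NormalSmooth.isNormalRing_of_etale Γ(X, U) Γ(Y, V) hP q).1
  exact MulEquiv.isDomain (Localization.AtPrime q) e.toRingEquiv.toMulEquiv

section Push

variable {U : Scheme.{u}} (g : U ⟶ X) (M : Type) [AddCommGroup M]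

/-- a value as a section of the pulled back constant sheaf over a base change -/
noncomputable def pullVal (V : X.Etale) (m : ULift.{u + 1} M) :
    EtCoh.sect ((EtCoh.pull g).obj (EtCoh.const X M)) ((EtCoh.bc g).obj V) :=
  ((EtCoh.pullPushAdj g).unit.app (EtCoh.const X M)).hom.app (op V)
    ((EtCoh.const X M).obj.map (MorphismProperty.Over.homMk V.hom (Category.comp_id _) : V ⟶ EtCoh.top X).op
      ((EtCore.constAdj X).unit.app (AddCommGrpCat.of (ULift.{u + 1} M)) m))

theorem germ_constVal {Ω : Type u} [Field Ω] [IsSepClosed Ω] (ξ : Spec (CommRingCat.of Ω) ⟶ X) {V : X.Etale}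
    (t : Fib ξ V) (m : ULift.{u + 1} M) :
    germ ξ (EtCoh.const X M) t
        ((EtCoh.const X M).obj.map (MorphismProperty.Over.homMk V.hom (Category.comp_id _) : V ⟶ EtCoh.top X).op
          ((EtCore.constAdj X).unit.app (AddCommGrpCat.of (ULift.{u + 1} M)) m)) =
      constGerm ξ (AddCommGrpCat.of (ULift.{u + 1} M)) m := by
  refine (germ_map (EtCoh.const X M) _ t _).trans ?_
  rw [constGerm, ConcreteCategory.comp_apply]
  exact congrArg (fun w => germ ξ (EtCoh.const X M) w _) (subsingleton_fib_top ξ _ _)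

theorem bijective_germ_pullVal (V : X.Etale) {Ω : Type u} [Field Ω] [IsSepClosed Ω]
    (ξ : Spec (CommRingCat.of Ω) ⟶ U) (t : Fib ξ ((EtCoh.bc g).obj V)) :
    Function.Bijective fun m => germ ξ _ t (pullVal g M V m) := by
  have e : (fun m => germ ξ _ t (pullVal g M V m)) = (fun p => (stalkPullIso g ξ).inv.app (EtCoh.const X M) p) ∘
      fun m => constGerm (ξ ≫ g) (AddCommGrpCat.of (ULift.{u + 1} M)) m := funext fun m => by
    show germ ξ _ t (pullVal g M V m) = (stalkPullIso g ξ).inv.app (EtCoh.const X M) (constGerm (ξ ≫ g) _ m)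
    rw [← germ_constVal M (ξ ≫ g) ((fibBC g ξ).hom.app V t) m, stalkPullIso_inv_germ]
    exact congrArg (fun w => germ ξ _ w (pullVal g M V m)) ((fibBC g ξ).hom_inv_id_app_apply V t).symm
  rw [e]
  exact ((ConcreteCategory.isIso_iff_bijective _).1 inferInstance).comp (bijective_constGerm _ _)

/-- the locus where a section takes a value -/
def valLocus (V : X.Etale) (s : EtCoh.sect ((EtCoh.pull g).obj (EtCoh.const X M)) ((EtCoh.bc g).obj V))
    (m : ULift.{u + 1} M) : Set ((EtCoh.bc g).obj V).left :=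
  {z | ∃ (W : U.Etale) (k : W ⟶ (EtCoh.bc g).obj V) (w : W.left), k.left.base w = z ∧
    ((EtCoh.pull g).obj (EtCoh.const X M)).obj.map k.op s =
      ((EtCoh.pull g).obj (EtCoh.const X M)).obj.map k.op (pullVal g M V m)}

theorem mem_valLocus_iff (V : X.Etale) (s : EtCoh.sect ((EtCoh.pull g).obj (EtCoh.const X M)) ((EtCoh.bc g).obj V))
    (m : ULift.{u + 1} M) {Ω : Type u} [Field Ω] [IsSepClosed Ω] {ξ : Spec (CommRingCat.of Ω) ⟶ U}
    (t : Fib ξ ((EtCoh.bc g).obj V)) :
    fpt t ∈ valLocus g M V s m ↔ germ ξ _ t s = germ ξ _ t (pullVal g M V m) := by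
  rw [germ_eq_iff]
  rfl

theorem exists_fib_over (V : X.Etale) (z : ((EtCoh.bc g).obj V).left) :
    ∃ (Ω : Type u) (_ : Field Ω) (_ : IsSepClosed Ω) (ξ : Spec (CommRingCat.of Ω) ⟶ U)
      (t : Fib ξ ((EtCoh.bc g).obj V)), fpt t = z := by
  obtain ⟨Ω, _, _, ζ, hζ⟩ := exists_geometric_point z
  exact ⟨Ω, inferInstance, inferInstance, ζ ≫ ((EtCoh.bc g).obj V).hom, Over.homMk ζ rfl,
    Set.eq_of_mem_singleton (hζ.le ⟨default, rfl⟩)⟩

theorem exists_mem_valLocus (V : X.Etale) (s : EtCoh.sect ((EtCoh.pull g).obj (EtCoh.const X M)) ((EtCoh.bc g).obj V))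
    (z : ((EtCoh.bc g).obj V).left) : ∃ m, z ∈ valLocus g M V s m := by
  obtain ⟨Ω, _, _, ξ, t, rfl⟩ := exists_fib_over g V z
  obtain ⟨m, hm⟩ := (bijective_germ_pullVal g M V ξ t).2 (germ ξ _ t s)
  exact ⟨m, (mem_valLocus_iff g M V s m t).2 hm.symm⟩

theorem eq_of_mem_valLocus (V : X.Etale) (s : EtCoh.sect ((EtCoh.pull g).obj (EtCoh.const X M)) ((EtCoh.bc g).obj V))
    {m m'} {z : ((EtCoh.bc g).obj V).left} (h : z ∈ valLocus g M V s m) (h' : z ∈ valLocus g M V s m') : m = m' := by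
  obtain ⟨Ω, _, _, ξ, t, rfl⟩ := exists_fib_over g V z
  exact (bijective_germ_pullVal g M V ξ t).1
    (((mem_valLocus_iff g M V s m t).1 h).symm.trans ((mem_valLocus_iff g M V s m' t).1 h'))

theorem isOpen_valLocus (V : X.Etale) (s : EtCoh.sect ((EtCoh.pull g).obj (EtCoh.const X M)) ((EtCoh.bc g).obj V))
    (m : ULift.{u + 1} M) : IsOpen (valLocus g M V s m) := by
  refine isOpen_iff_forall_mem_open.2 fun z ⟨W, k, w, hw, he⟩ => ?_
  have := etale_left k
  exact ⟨Set.range k.left, fun z' ⟨w', hw'⟩ => ⟨W, k, w', hw', he⟩, k.left.isOpenMap.isOpen_range, ⟨w, hw⟩⟩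

theorem isClopen_valLocus (V : X.Etale) (s : EtCoh.sect ((EtCoh.pull g).obj (EtCoh.const X M)) ((EtCoh.bc g).obj V))
    (m : ULift.{u + 1} M) : IsClopen (valLocus g M V s m) := by
  refine ⟨⟨isOpen_iff_forall_mem_open.2 fun z hz => ?_⟩, isOpen_valLocus g M V s m⟩
  obtain ⟨m', hm'⟩ := exists_mem_valLocus g M V s z
  exact ⟨_, fun z' hz' hz'' => hz (eq_of_mem_valLocus g M V s hz'' hz' ▸ hm'), isOpen_valLocus g M V s m', hm'⟩

/-- the unit is invertible as soon as the base changes of `g` are connected near every point -/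
theorem isIso_unit_const_of_nbhd (hd : DenseRange g.base)
    (H : ∀ (V : X.Etale) (v : V.left), ∃ z₀ : ((EtCoh.bc g).obj V).left, ∀ C, IsClopen C → z₀ ∈ C →
      ∃ O : V.left.Opens, v ∈ O ∧ ∀ z : ((EtCoh.bc g).obj V).left,
        (pullback.fst V.hom g : ((EtCoh.bc g).obj V).left ⟶ V.left) z ∈ O → z ∈ C) :
    IsIso ((EtCoh.pullPushAdj g).unit.app (EtCoh.const X M)) := by
  refine isIso_of_stalk_exists _ fun x => ?_
  obtain ⟨Ω, _, _, ξ, hξ⟩ := exists_geometric_point x
  refine ⟨Ω, inferInstance, inferInstance, ξ, Set.eq_of_mem_singleton (hξ.le ⟨default, rfl⟩),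
    (ConcreteCategory.isIso_iff_bijective _).2 ⟨?_, ?_⟩⟩
  · refine (injective_iff_map_eq_zero ((EtCoh.stalk ξ).map _).hom).2 fun p hp => ?_
    obtain ⟨m, rfl⟩ := (bijective_constGerm ξ _).2 p
    replace hp := (stalk_map_germ ((EtCoh.pullPushAdj g).unit.app (EtCoh.const X M)) (topLift ξ) _).symm.trans
      ((congrArg _ (germ_constVal M ξ (topLift ξ) m)).trans hp)
    obtain ⟨W, k, w, -, hk⟩ := (germ_eq_zero_iff _ _ _).1 hp
    have : Etale W.hom := W.prop
    obtain ⟨u, hu⟩ := hd.exists_mem_open W.hom.isOpenMap.isOpen_range ⟨_, w, rfl⟩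
    obtain ⟨w', hw'⟩ := hu
    obtain ⟨z, -, -⟩ := Scheme.Pullback.exists_preimage_pullback (f := W.hom) (g := g) w' u hw'
    obtain ⟨K, _, _, ζ, t, -⟩ := exists_fib_over g W (show ((EtCoh.bc g).obj W).left from z)
    have h1 : pullVal g M W m = 0 := by
      refine Eq.trans ?_ hk
      refine Eq.trans ?_ (NatTrans.naturality_apply ((EtCoh.pullPushAdj g).unit.app (EtCoh.const X M)).hom k.op _)
      refine congrArg (((EtCoh.pullPushAdj g).unit.app (EtCoh.const X M)).hom.app (op W)) ?_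
      let a : W ⟶ EtCoh.top X := MorphismProperty.Over.homMk W.hom (Category.comp_id _)
      let b : EtCoh.top X ⟶ EtCoh.top X := MorphismProperty.Over.homMk (EtCoh.top X).hom (Category.comp_id _)
      let a₀ := (EtCore.constAdj X).unit.app (AddCommGrpCat.of (ULift.{u + 1} M)) m
      show (EtCoh.const X M).obj.map a.op a₀ =
        (EtCoh.const X M).obj.map k.op ((EtCoh.const X M).obj.map b.op a₀)
      refine Eq.trans ?_ (ConcreteCategory.comp_apply ((EtCoh.const X M).obj.map b.op) ((EtCoh.const X M).obj.map k.op) a₀)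
      rw [← Functor.map_comp, ← op_comp]
      exact congrArg (fun r : W ⟶ EtCoh.top X => (EtCoh.const X M).obj.map r.op a₀)
        (MorphismProperty.Over.Hom.ext ((MorphismProperty.Over.w (k ≫ b)).symm.trans (Category.comp_id _)))
    have hm : m = 0 := by
      refine (bijective_germ_pullVal g M W ζ t).1 ?_
      show germ ζ _ t (pullVal g M W m) = germ ζ _ t (pullVal g M W 0)
      rw [h1]
      have h0 : pullVal g M W (0 : ULift.{u + 1} M) = 0 :=
        map_zero ((((EtCoh.const X M).obj.map (MorphismProperty.Over.homMk W.hom (Category.comp_id _) : W ⟶ EtCoh.top X).op) ≫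
          ((EtCoh.pullPushAdj g).unit.app (EtCoh.const X M)).hom.app (op W)).hom.comp
            ((EtCore.constAdj X).unit.app (AddCommGrpCat.of (ULift.{u + 1} M))).hom)
      rw [h0]
    rw [hm, map_zero]
  · intro p
    obtain ⟨V, t, s, rfl⟩ := germ_surjective _ p
    obtain ⟨z₀, hz₀⟩ := H V (fpt t)
    obtain ⟨m, hm⟩ := exists_mem_valLocus g M V s z₀
    obtain ⟨O, htO, hO⟩ := hz₀ _ (isClopen_valLocus g M V s m) hm
    obtain ⟨t', ht'⟩ := exists_fib_map (pieceIncl V O) ⟨fpt t, htO⟩ t rfl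
    refine ⟨constGerm ξ _ m, ?_⟩
    refine ((congrArg _ (germ_constVal M ξ t m)).symm.trans
      (stalk_map_germ ((EtCoh.pullPushAdj g).unit.app (EtCoh.const X M)) t _)).trans ?_
    rw [← ht']
    refine (germ_map _ (pieceIncl V O) t' _).symm.trans (Eq.trans ?_ (germ_map _ (pieceIncl V O) t' s))
    refine congrArg (germ ξ _ t') ?_
    refine sect_ext_germ ((EtCoh.pull g).obj (EtCoh.const X M)) (U := (EtCoh.bc g).obj (pieceObj V O))
      fun K _ _ ζ w => ?_
    refine (germ_map _ ((EtCoh.bc g).map (pieceIncl V O)) w _).trans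
      (Eq.trans ?_ (germ_map _ ((EtCoh.bc g).map (pieceIncl V O)) w s).symm)
    refine ((mem_valLocus_iff g M V s m _).1 (hO _ ?_)).symm
    show (pullback.fst V.hom g : ((EtCoh.bc g).obj V).left ⟶ V.left) _ ∈ O
    rw [map_fpt]
    have h2 := congrArg (fun r : ((EtCoh.bc g).obj (pieceObj V O)).left ⟶ V.left => r (fpt w))
      (EtCoh.isPullback_bc_map g (pieceIncl V O)).w
    refine (Eq.symm h2.symm).symm ▸ ?_
    exact ((pullback.fst (pieceObj V O).hom g : ((EtCoh.bc g).obj (pieceObj V O)).left ⟶ (pieceObj V O).left) (fpt w)).2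

variable (hX : ∀ x : X, IsDomain (X.presheaf.stalk x) ∧ IsIntegrallyClosed (X.presheaf.stalk x))
include hX

theorem exists_generization (V : X.Etale) (v : V.left) :
    ∃ η : V.left, η ⤳ v ∧ (∀ y, y ⤳ v → η ⤳ y) ∧ ∀ x, x ⤳ V.hom.base η → x = V.hom.base η := by
  have : Etale V.hom := V.prop
  obtain ⟨η, hη, hmin⟩ := FEtLib.irreducible_generization (isDomain_stalk_of_etale hX V.hom) v
  refine ⟨η, hη, hmin, fun x hx => ?_⟩
  obtain ⟨z, hz, rfl⟩ := Flat.generalizingMap (f := V.hom) hx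
  exact congrArg V.hom.base (hz.antisymm (hmin z (hz.trans hη))).eq

/-- normal base, quasi-compact preimmersion through all maximal points -/
theorem isIso_unit_const_of_qc [IsPreimmersion g] [QuasiCompact g]
    (hmem : ∀ x : X, (∀ y, y ⤳ x → y = x) → x ∈ Set.range g) (hd : DenseRange g.base) :
    IsIso ((EtCoh.pullPushAdj g).unit.app (EtCoh.const X M)) := by
  refine isIso_unit_const_of_nbhd g M hd fun V v => ?_
  obtain ⟨η, hη, hmin, hmax⟩ := exists_generization hX V v
  obtain ⟨u, hu⟩ := hmem _ hmax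
  obtain ⟨z₀, hz₀, -⟩ := Scheme.Pullback.exists_preimage_pullback (f := V.hom) (g := g) η u hu.symm
  let q : ((EtCoh.bc g).obj V).left ⟶ V.left := pullback.fst V.hom g
  have : IsPreimmersion q := MorphismProperty.pullback_fst _ _ ‹IsPreimmersion g›
  have : QuasiCompact q := MorphismProperty.pullback_fst _ _ ‹QuasiCompact g›
  refine ⟨z₀, fun C hC hzC => ?_⟩
  have hpro : ProCons.IsProConstructible Cᶜ :=
    ProConsLib.isPro_iff_compl.2 (by rw [compl_compl]; exact ProConsLib.isInd_of_isOpen hC.2)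
  have hind : ProCons.IsIndConstructible (q '' Cᶜ)ᶜ := ProConsLib.isPro_iff_compl.1 (ProConsLib.isPro_image q hpro)
  refine ⟨⟨interior (q '' Cᶜ)ᶜ, isOpen_interior⟩, (ProConsLib.mem_interior_iff hind).2 ?_, fun z hz => ?_⟩
  · rintro y hy ⟨b, hb, rfl⟩
    have h1 : q z₀ ⤳ q b := hz₀.symm ▸ hmin _ hy
    exact hb ((q.isEmbedding.isInducing.specializes_iff.1 h1).mem_closed hC.1 hzC)
  · by_contra h
    exact interior_subset hz ⟨z, h, rfl⟩

/-- normal integral base, preimmersion through the generic point -/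
theorem isIso_unit_const_of_generic [IsIntegral X] [IsPreimmersion g] (hmem : genericPoint X ∈ Set.range g) :
    IsIso ((EtCoh.pullPushAdj g).unit.app (EtCoh.const X M)) := by
  have hd : DenseRange g.base := by
    intro x
    refine closure_mono (Set.singleton_subset_iff.2 hmem) ?_
    exact specializes_iff_mem_closure.1 ((genericPoint_spec X).specializes (Set.mem_univ x))
  refine isIso_unit_const_of_nbhd g M hd fun V v => ?_
  have : Etale V.hom := V.prop
  obtain ⟨η, hη, hmin, hmax⟩ := exists_generization hX V v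
  have hgen : ∀ x, (∀ y, y ⤳ x → y = x) → x = genericPoint X := fun x h =>
    (h _ ((genericPoint_spec X).specializes (Set.mem_univ x))).symm
  obtain ⟨u, hu⟩ : V.hom.base η ∈ Set.range g := by rw [hgen _ hmax]; exact hmem
  obtain ⟨z₀, hz₀, -⟩ := Scheme.Pullback.exists_preimage_pullback (f := V.hom) (g := g) η u hu.symm
  refine ⟨z₀, fun C hC hzC => ?_⟩
  obtain ⟨A, hA, hxA, -⟩ := exists_isAffineOpen_mem_and_subset (x := V.hom.base v) (U := ⊤) trivial
  obtain ⟨W, hW, hvW, hWA⟩ := exists_isAffineOpen_mem_and_subset (x := v) (U := V.hom ⁻¹ᵁ A) hxA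
  have hfin : ((W : Set V.left) ∩ V.hom.base ⁻¹' {genericPoint X}).Finite := by
    let p : W.toScheme ⟶ A.toScheme := V.hom.resLE A W hWA
    have : IsAffine W.toScheme := hW
    have : IsAffine A.toScheme := hA
    have : LocallyQuasiFinite p := by
      have := locallyQuasiFinite_of_etale V.hom
      have : LocallyQuasiFinite (p ≫ A.ι) := by
        rw [Scheme.Hom.resLE_comp_ι]
        infer_instance
      exact LocallyQuasiFinite.of_comp p A.ι
    have hgA : genericPoint X ∈ A :=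
      ((genericPoint_spec X).mem_open_set_iff A.2).2 ⟨_, Set.mem_univ _, hxA⟩
    refine ((p.finite_preimage_singleton ⟨genericPoint X, hgA⟩).image W.ι).subset ?_
    rintro z ⟨hz, hzy⟩
    refine ⟨⟨z, hz⟩, Subtype.ext ?_, rfl⟩
    exact (congrArg (fun r : W.toScheme ⟶ X => r.base ⟨z, hz⟩) (Scheme.Hom.resLE_comp_ι V.hom hWA)).trans hzy
  let B : Set V.left := ⋃ y ∈ ((W : Set V.left) ∩ V.hom.base ⁻¹' {genericPoint X}) \ {η}, closure {y}
  have hB : IsClosed B := (hfin.subset Set.sdiff_subset).isClosed_biUnion fun _ _ => isClosed_closure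
  refine ⟨⟨(W : Set V.left) \ B, W.2.sdiff hB⟩, ⟨hvW, ?_⟩, fun z hz => ?_⟩
  · intro h
    obtain ⟨y, ⟨⟨-, hy⟩, hne⟩, hyv⟩ := Set.mem_iUnion₂.1 h
    refine hne ?_
    have h1 := hmin y (specializes_iff_mem_closure.2 hyv)
    have := locallyQuasiFinite_of_etale V.hom
    obtain ⟨o, ho, hos⟩ := isDiscrete_iff_forall_exists_isOpen.1
      (V.hom.isDiscrete_preimage_singleton (genericPoint X)) y hy
    exact (hos.le ⟨h1.mem_open ho (hos.ge rfl).1, hgen _ hmax⟩).symm
  · have : IsPreimmersion (pullback.fst V.hom g : ((EtCoh.bc g).obj V).left ⟶ V.left) :=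
      MorphismProperty.pullback_fst _ _ ‹IsPreimmersion g›
    let q : ((EtCoh.bc g).obj V).left ⟶ V.left := pullback.fst V.hom g
    have : IsPreimmersion q := MorphismProperty.pullback_fst _ _ ‹IsPreimmersion g›
    obtain ⟨η', hη', -, hmax'⟩ := exists_generization hX V (q z)
    have : η' = η := by
      by_contra hne
      exact hz.2 (Set.mem_iUnion₂.2 ⟨η', ⟨⟨hη'.mem_open W.2 hz.1, hgen _ hmax'⟩, hne⟩,
        specializes_iff_mem_closure.1 hη'⟩)
    have h1 : q z₀ ⤳ q z := hz₀.symm ▸ this ▸ hη'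
    exact (q.isEmbedding.isInducing.specializes_iff.1 h1).mem_closed hC.1 hzC

end Push

end Groth.Agent.EtSh
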