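import Groth.Agent.EtSh.Compact
import Groth.Agent.EtSh.Pull
import Groth.Agent.EtSh.IndConstructible
import Groth.Agent.EtSh.StalkPts
import Groth.Agent.EtSh.Point

/-!
# Constructibility descends along jointly surjective morphisms
-/

set_option autoImplicit false
set_option backward.isDefEq.respectTransparency.types false

universe u

open CategoryTheory CategoryTheory.Limits AlgebraicGeometry Opposite

namespace Groth.Agent.EtSh

variable {Y : Scheme.{u}}

theorem exists_point_over {ι : Type*} {X : ι → Scheme.{u}} (f : ∀ a, X a ⟶ Y)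
    (hf : ∀ y : Y, ∃ a, y ∈ Set.range (f a)) (y : Y) :
    ∃ (a : ι) (Ω : Type u) (_ : Field Ω) (_ : IsSepClosed Ω) (ζ : Spec (CommRingCat.of Ω) ⟶ X a),
      (ζ ≫ f a).base default = y := by
  obtain ⟨a, x, hx⟩ := hf y
  obtain ⟨Ω, _, _, ζ, hζ⟩ := exists_geometric_point x
  refine ⟨a, Ω, inferInstance, inferInstance, ζ, ?_⟩
  rw [Scheme.Hom.comp_apply, Set.eq_of_mem_singleton (hζ.le ⟨default, rfl⟩), hx]

theorem isTorsion_of_pull {ι : Type*} {X : ι → Scheme.{u}} (f : ∀ a, X a ⟶ Y)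
    (hf : ∀ y : Y, ∃ a, y ∈ Set.range (f a)) (F : EtCoh.Ab Y)
    (h : ∀ a, EtPBC.IsConstructible ((EtCoh.pull (f a)).obj F)) : EtCoh.IsTorsion F := by
  intro U s x
  obtain ⟨a, Ω, _, _, ζ, hζ⟩ := exists_point_over f hf (U.hom.base x)
  obtain ⟨t, rfl⟩ := exists_fib (ξ := ζ ≫ f a) x hζ.symm
  have h1 : Finite ↑((EtCoh.pull (f a) ⋙ EtCoh.stalk ζ).obj F) := finite_stalk (h a) ζ
  have : Finite ↑((EtCoh.stalk (ζ ≫ f a)).obj F) :=
    Finite.of_equiv _ ((stalkPullIso (f a) ζ).app F).addCommGroupIsoToAddEquiv.toEquiv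
  have hN : germ (ζ ≫ f a) F t (Nat.card ↑((EtCoh.stalk (ζ ≫ f a)).obj F) • s) = 0 := by
    rw [map_nsmul]
    exact card_nsmul_eq_zero'
  obtain ⟨V, g, v, hv, hg⟩ := (germ_eq_zero_iff F t _).1 hN
  rw [map_nsmul] at hg
  exact ⟨V, g, ⟨v, hv⟩, isOfFinAddOrder_iff_nsmul_eq_zero.2 ⟨_, Nat.card_pos, hg⟩⟩

theorem exists_constructible_epi [CompactSpace Y] [QuasiSeparatedSpace Y] {ι : Type u} [Finite ι]
    {X : ι → Scheme.{u}} [∀ a, CompactSpace (X a)] [∀ a, QuasiSeparatedSpace (X a)] (f : ∀ a, X a ⟶ Y)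
    (hf : ∀ y : Y, ∃ a, y ∈ Set.range (f a)) (F : EtCoh.Ab Y)
    (h : ∀ a, EtPBC.IsConstructible ((EtCoh.pull (f a)).obj F)) :
    ∃ (P : EtCoh.Ab Y) (φ : P ⟶ F), EtPBC.IsConstructible P ∧ Epi φ := by
  classical
  have hiso := isIso_desc F (isTorsion_of_pull f hf F h)
  let e : (colimit.cocone (indDiagram F)).pt ≅ (indCocone F).pt :=
    @asIso _ _ _ _ (colimit.desc (indDiagram F) (indCocone F)) hiso
  have hc : IsColimit (indCocone F) := (colimit.isColimit (indDiagram F)).ofIsoColimit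
    (Cocone.ext e fun j => colimit.ι_desc _ _)
  have key : ∀ a, ∃ (k : IndIdx F) (s : (EtCoh.pull (f a)).obj F ⟶ (EtCoh.pull (f a)).obj ((indDiagram F).obj k)),
      s ≫ (EtCoh.pull (f a)).map k.hom = 𝟙 _ := fun a => by
    have : PreservesColimitsOfSize.{u + 1, u + 1} (EtCoh.pull (f a)) :=
      (EtCoh.pullPushAdj (f a)).leftAdjoint_preservesColimits
    obtain ⟨k, s, hs⟩ := exists_hom_rep (isColimitOfPreserves (EtCoh.pull (f a)) hc) (h a) (𝟙 _)
    exact ⟨k, s, hs⟩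
  choose k s hs using key
  have := Fintype.ofFinite ι
  obtain ⟨K, hK⟩ := IsFiltered.sup_objs_exists (Finset.univ.image k)
  obtain ⟨κ, hκ⟩ : ∃ κ : (indDiagram F).obj K ⟶ F, κ = K.hom := ⟨_, rfl⟩
  refine ⟨(indDiagram F).obj K, κ, isConstructible_cval K.left, epi_of_stalk_exists _ fun y => ?_⟩
  obtain ⟨a, Ω, _, _, ζ, hζ⟩ := exists_point_over f hf y
  refine ⟨Ω, inferInstance, inferInstance, ζ ≫ f a, hζ, ?_⟩
  obtain ⟨m⟩ := hK (Finset.mem_image_of_mem k (Finset.mem_univ a))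
  let P := EtCoh.pull (f a)
  have hm : (indDiagram F).map m ≫ κ = (k a).hom := by subst hκ; exact CostructuredArrow.w m
  have hsurj : Function.Surjective ((EtCoh.stalk ζ).map (P.map κ)) := fun p => by
    refine ⟨(EtCoh.stalk ζ).map (s a ≫ P.map ((indDiagram F).map m)) p, ?_⟩
    rw [← ConcreteCategory.comp_apply, ← Functor.map_comp, Category.assoc, ← P.map_comp]
    have h2 : s a ≫ P.map ((indDiagram F).map m ≫ κ) = 𝟙 _ := by
      rw [hm]
      exact hs a
    refine (congrArg (fun r : P.obj F ⟶ P.obj F => (EtCoh.stalk ζ).map r p) h2).trans ?_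
    rw [CategoryTheory.Functor.map_id]
    rfl
  intro p
  obtain ⟨q, hq⟩ := hsurj ((stalkPullIso (f a) ζ).inv.app F p)
  refine ⟨(stalkPullIso (f a) ζ).hom.app _ q, ?_⟩
  have hnat := congrArg (fun r => r q) ((stalkPullIso (f a) ζ).hom.naturality κ)
  refine hnat.symm.trans ((congrArg ((stalkPullIso (f a) ζ).hom.app F) hq).trans ?_)
  exact congrArg (fun r : (EtCoh.stalk (ζ ≫ f a)).obj F ⟶ _ => r p) ((stalkPullIso (f a) ζ).inv_hom_id_app F)

/-- constructibility descends along finite jointly surjective families of qcqs schemes -/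
theorem isConstructible_of_pull [CompactSpace Y] [QuasiSeparatedSpace Y] {ι : Type u} [Finite ι]
    {X : ι → Scheme.{u}} [∀ a, CompactSpace (X a)] [∀ a, QuasiSeparatedSpace (X a)] (f : ∀ a, X a ⟶ Y)
    (hf : ∀ y : Y, ∃ a, y ∈ Set.range (f a)) (F : EtCoh.Ab Y)
    (h : ∀ a, EtPBC.IsConstructible ((EtCoh.pull (f a)).obj F)) : EtPBC.IsConstructible F := by
  obtain ⟨P, φ, hP, hφ⟩ := exists_constructible_epi f hf F h
  obtain ⟨Q, ψ, hQ, hψ⟩ := exists_constructible_epi f hf (kernel φ) fun a => by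
    have := pull_preservesFiniteLimits (f a)
    exact isConstructible_of_iso (PreservesKernel.iso (EtCoh.pull (f a)) φ).symm
      (isConstructible_kernel_cokernel ((EtCoh.pull (f a)).map φ) (isConstructible_pull (f a) hP) (h a)).1
  refine isConstructible_of_iso ?_ (isConstructible_kernel_cokernel (ψ ≫ kernel.ι φ) hQ hP).2
  exact cokernelEpiComp ψ (kernel.ι φ) ≪≫ IsColimit.coconePointUniqueUpToIso (cokernelIsCokernel (kernel.ι φ))
    (Abelian.epiIsCokernelOfKernel _ (limit.isLimit _))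

end Groth.Agent.EtSh
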