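import Groth.Agent.EtSh.Supp
import Groth.Prelude.Def_EtCore
import Mathlib.CategoryTheory.Adjunction.Triple

/-!
# Inverse and direct image along étale morphisms and open immersions
-/

set_option autoImplicit false
set_option backward.isDefEq.respectTransparency.types false

universe u

open CategoryTheory CategoryTheory.Limits AlgebraicGeometry Opposite

namespace Groth.Agent.EtSh

variable {U X : Scheme.{u}} (j : U ⟶ X) [Etale j]

/-- composition with `j` is left adjoint to base change along `j` -/
noncomputable def compBCAdj : EtShriek.compEtale j ⊣ EtCoh.bc j :=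
  MorphismProperty.Over.mapPullbackAdj (P := EtCoh.etaleMP.{u}) (Q := ⊤) j ‹Etale j› trivial

/-- restriction is left adjoint to direct image along an étale morphism -/
noncomputable def restrPushAdj [EtShriek.JCont j] : EtShriek.restrAlong j ⊣ EtCoh.push j :=
  (compBCAdj j).sheafPushforwardContinuous U.smallEtaleTopology X.smallEtaleTopology

/-- inverse image along an étale morphism is restriction -/
noncomputable def pullRestrIso [EtShriek.JCont j] : EtCoh.pull j ≅ EtShriek.restrAlong j :=
  Adjunction.leftAdjointUniq (EtCoh.pullPushAdj j) (restrPushAdj j)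

/-- direct image along an open immersion is fully faithful -/
noncomputable def pushFullyFaithful [EtShriek.JCont j] [Mono j] : (EtCoh.push j).FullyFaithful :=
  have : IsIso (restrPushAdj j).counit := by
    have : ∀ F, IsIso ((restrPushAdj j).counit.app F) := fun F => by
      have : ∀ V, IsIso (((sheafToPresheaf _ _).map ((restrPushAdj j).counit.app F)).app V) :=
        fun V => inferInstanceAs (IsIso (F.obj.map ((compBCAdj j).unit.app V.unop).op))
      have : IsIso ((sheafToPresheaf _ _).map ((restrPushAdj j).counit.app F)) :=
        NatIso.isIso_of_isIso_app _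
      exact isIso_of_reflects_iso _ (sheafToPresheaf _ _)
    exact NatIso.isIso_of_isIso_app _
  (restrPushAdj j).fullyFaithfulROfIsIsoCounit

theorem isIso_counit_of_mono [EtShriek.JCont j] [Mono j] (F : EtCoh.Ab U) :
    IsIso ((EtCoh.pullPushAdj j).counit.app F) :=
  have := (pushFullyFaithful j).full
  have := (pushFullyFaithful j).faithful
  inferInstance

/-- extension by zero, restriction, direct image -/
noncomputable def etaleTriple [EtShriek.JCont j] :
    CategoryTheory.Adjunction.Triple (EtShriek.extZero j) (EtShriek.restrAlong j) (EtCoh.push j) where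
  adj₁ := EtShriek.extZeroAdj j
  adj₂ := restrPushAdj j

theorem isIso_unit_extZero_of_mono [EtShriek.JCont j] [Mono j] (F : EtCoh.Ab U) :
    IsIso ((EtShriek.extZeroAdj j).unit.app F) :=
  have := ((etaleTriple j).fullyFaithfulEquiv.symm (pushFullyFaithful j)).full
  have := ((etaleTriple j).fullyFaithfulEquiv.symm (pushFullyFaithful j)).faithful
  inferInstance

/-- restriction along an étale surjection is faithful -/
theorem restrAlong_faithful [EtShriek.JCont j] [Surjective j] : (EtShriek.restrAlong j).Faithful where
  map_injective {F G} a b h := by
    ext V s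
    refine sect_ext G fun x => ?_
    let W : U.Etale := Scheme.Etale.mk (pullback.snd V.unop.hom j)
    let g : (EtShriek.compEtale j).obj W ⟶ V.unop :=
      MorphismProperty.Over.homMk (pullback.fst V.unop.hom j) pullback.condition
    obtain ⟨u, hu⟩ := j.surjective (V.unop.hom.base x)
    obtain ⟨w, hw, -⟩ := Scheme.Pullback.exists_preimage_pullback (f := V.unop.hom) (g := j) x u hu.symm
    refine ⟨_, g, w, hw, ?_⟩
    have e := congrArg (fun k => (k.hom.app (op W)) (F.obj.map g.op s)) h
    exact (NatTrans.naturality_apply a.hom g.op s).symm.trans (e.trans (NatTrans.naturality_apply b.hom g.op s))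

theorem epi_counit_of_surjective [EtShriek.JCont j] [Surjective j] (F : EtCoh.Ab X) :
    Epi ((EtShriek.extZeroAdj j).counit.app F) :=
  have := restrAlong_faithful j
  inferInstance

end Groth.Agent.EtSh
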