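import Groth.Agent.EtSh.ClosedPush
import Groth.Agent.Weighting.Nbhd
import Mathlib.AlgebraicGeometry.Morphisms.Finite
import Mathlib.AlgebraicGeometry.Morphisms.QuasiFinite
import Mathlib.CategoryTheory.Abelian.RightDerived
import Mathlib.Algebra.Homology.ShortComplex.ExactFunctor
import Mathlib.RingTheory.Unramified.LocalStructure
import Mathlib.CategoryTheory.Adjunction.Limits

/-!
# Direct images of abelian étale sheaves along finite morphisms
-/

set_option autoImplicit false
set_option backward.isDefEq.respectTransparency.types false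

universe u

open CategoryTheory CategoryTheory.Limits AlgebraicGeometry Opposite TopologicalSpace

namespace Groth.Agent.EtSh

open Groth.Agent.Weighting (GPts pt)

/-- étale morphisms are locally quasi-finite -/
theorem lqf_of_etale {A B : Scheme.{u}} (g : A ⟶ B) [Etale g] : LocallyQuasiFinite g := by
  rw [HasRingHomProperty.iff_appLE (P := @LocallyQuasiFinite)]
  intro U V e
  have h : (g.appLE U.1 V.1 e).hom.Etale := HasRingHomProperty.appLE @Etale g ‹_› U V e
  algebraize [(g.appLE U.1 V.1 e).hom]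
  exact (inferInstance : Algebra.QuasiFinite Γ(B, U.1) Γ(A, V.1))

section Glue

variable {X : Scheme.{u}}

/-- gluing sections over a disjoint open cover of an object -/
theorem exists_glue_obj (F : EtCoh.Ab X) (T : X.Etale) {ι : Type*} (D : ι → T.left.Opens)
    (hcov : ∀ x : T.left, ∃ i, x ∈ D i) (hd : ∀ i j, i ≠ j → Disjoint (D i : Set T.left) (D j))
    (a : ∀ i, EtCoh.sect F (openObj T (D i))) :
    ∃ b : EtCoh.sect F T, ∀ i, F.obj.map (openHom T (D i)).op b = a i := by
  let π := fun i => openHom T (D i)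
  have hπ : Sieve.generate (Presieve.ofArrows _ π) ∈ X.smallEtaleTopology T := by
    refine (mem_topology_iff _).2 fun x => ?_
    obtain ⟨i, hi⟩ := hcov x
    exact ⟨_, π i, ⟨x, hi⟩, ⟨_, 𝟙 _, π i, ⟨i⟩, Category.id_comp _⟩, rfl⟩
  have hsh : Presieve.IsSheafFor (F.obj ⋙ forget AddCommGrpCat.{u + 1}) (Presieve.ofArrows _ π) :=
    (Presieve.isSheafFor_iff_generate _).2 (((isSheaf_iff_isSheaf_of_type _ _).1
      ((sheafCompose _ (forget AddCommGrpCat.{u + 1})).obj F).property) _ hπ)
  rw [Presieve.isSheafFor_arrows_iff] at hsh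
  obtain ⟨b, hb, -⟩ := hsh a fun i j W gi gj hg => by
    have hl : gi.left ≫ (D i).ι = gj.left ≫ (D j).ι :=
      congrArg (fun k : W ⟶ T => k.left) hg
    by_cases hij : i = j
    · subst hij
      have : gi = gj := MorphismProperty.Over.Hom.ext ((cancel_mono (D i).ι).1 hl)
      rw [this]
    · have hW : IsEmpty W.left := ⟨fun w => by
        have h1 : (gi.left w).1 = (gj.left w).1 := congrArg (fun k : W.left ⟶ T.left => k w) hl
        exact Set.disjoint_left.1 (hd i j hij) (gi.left w).2 (h1.symm ▸ (gj.left w).2)⟩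
      exact (sect_ext F fun x => (hW.false x).elim)
  exact ⟨b, hb⟩

/-- epimorphisms can be tested on stalks at algebraically closed geometric points -/
theorem epi_of_stalk_algClosed {F G : EtCoh.Ab X} (α : F ⟶ G)
    (h : ∀ (Ω : Type u) [Field Ω] [IsAlgClosed Ω] (ξ : Spec (CommRingCat.of Ω) ⟶ X),
      Function.Surjective ((EtCoh.stalk ξ).map α)) : Epi α := by
  have : Sheaf.IsLocallySurjective α := ⟨fun {U} s => (mem_topology_iff _).2 fun x => by
    let Ω := AlgebraicClosure (X.residueField (U.hom.base x))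
    let ξ : Spec (CommRingCat.of Ω) ⟶ X :=
      Spec.map (CommRingCat.ofHom (algebraMap (X.residueField (U.hom.base x)) Ω)) ≫
        X.fromSpecResidueField _
    obtain ⟨t, ht⟩ := exists_fib (ξ := ξ) x (Scheme.fromSpecResidueField_apply _ _).symm
    obtain ⟨p, hp⟩ := h Ω ξ (germ ξ G t s)
    obtain ⟨V, v, r, rfl⟩ := germ_surjective F p
    rw [stalk_map_germ] at hp
    obtain ⟨W, a, b, w, ha, hb, hw⟩ : ∃ (W : X.Etale) (a : W ⟶ U) (b : W ⟶ V) (w : Fib ξ W),
        (Scheme.pointSmallEtale ξ).fiber.map a w = t ∧ (Scheme.pointSmallEtale ξ).fiber.map b w = v ∧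
          G.obj.map a.op s = α.hom.app (op W) (F.obj.map b.op r) := by
      obtain ⟨⟨W, w⟩, ⟨a, ha⟩, ⟨b, hb⟩, -⟩ :=
        IsCofilteredOrEmpty.cone_objs (Functor.elementsMk (Scheme.pointSmallEtale ξ).fiber U t)
          (Functor.elementsMk (Scheme.pointSmallEtale ξ).fiber V v)
      have e : germ ξ G w (G.obj.map a.op s) = germ ξ G w (α.hom.app (op W) (F.obj.map b.op r)) := by
        rw [germ_map, NatTrans.naturality_apply α.hom b.op r, germ_map, ha, hb, hp]
      obtain ⟨W', k, w', hk, hh⟩ := (germ_eq_iff G w _ _).1 e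
      obtain ⟨u, hu⟩ := exists_fib_map k w' w hk
      refine ⟨W', k ≫ a, k ≫ b, u, ?_, ?_, ?_⟩
      · rw [Functor.map_comp_apply, hu]; exact ha
      · rw [Functor.map_comp_apply, hu]; exact hb
      · rw [op_comp, Functor.map_comp, ConcreteCategory.comp_apply, hh,
          ← NatTrans.naturality_apply α.hom k.op]
        simp
    exact ⟨W, a, fpt w, ⟨_, hw.symm⟩, by rw [← map_fpt, ha]; exact ht⟩⟩
  exact Sheaf.epi_of_isLocallySurjective α

end Glue

variable {X Y : Scheme.{u}} (f : X ⟶ Y) {Ω : Type u} [Field Ω] [IsAlgClosed Ω]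
  {η : Spec (CommRingCat.of Ω) ⟶ Y}

/-- the point of a base change over a geometric point of `X` -/
noncomputable def wf (ξ : GPts f η) {V : Y.Etale} (v : Fib η V) : Fib ξ.1 ((EtCoh.bc f).obj V) :=
  Over.homMk (pullback.lift v.left ξ.1 ((Over.w v).trans ξ.2.symm)) (pullback.lift_snd _ _ _)

theorem wf_fst (ξ : GPts f η) {V : Y.Etale} (v : Fib η V) :
    (wf f ξ v).left ≫ pullback.fst V.hom f = v.left := pullback.lift_fst _ _ _

theorem wf_map (ξ : GPts f η) {V W : Y.Etale} (g : W ⟶ V) (v : Fib η W) :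
    (Scheme.pointSmallEtale ξ.1).fiber.map ((EtCoh.bc f).map g) (wf f ξ v) =
      wf f ξ ((Scheme.pointSmallEtale η).fiber.map g v) := by
  refine Over.OverMorphism.ext (pullback.hom_ext ?_ ?_)
  · refine Eq.trans ?_ (wf_fst f ξ _).symm
    refine (Category.assoc _ _ _).trans ?_
    refine (congrArg ((wf f ξ v).left ≫ ·) (EtCoh.isPullback_bc_map f g).w).trans ?_
    exact (Category.assoc _ _ _).symm.trans (congrArg (· ≫ g.left) (wf_fst f ξ v))
  · refine Eq.trans ?_ (pullback.lift_snd _ _ _).symm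
    refine (Category.assoc _ _ _).trans ?_
    refine (congrArg ((wf f ξ v).left ≫ ·) (Over.w ((EtCoh.bc f).map g).hom)).trans ?_
    exact pullback.lift_snd _ _ _

/-- the component of the stalk of a direct image at a point of the fibre -/
noncomputable def pushComp (F : EtCoh.Ab X) (ξ : GPts f η) :
    (EtCoh.stalk η).obj ((EtCoh.push f).obj F) ⟶ (EtCoh.stalk ξ.1).obj F :=
  (Scheme.pointSmallEtale η).presheafFiberDesc (P := ((EtCoh.push f).obj F).obj)
    (fun _ v => germ ξ.1 F (wf f ξ v))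
    (fun U V g v => by
      refine Eq.trans ((Scheme.pointSmallEtale ξ.1).toPresheafFiber_w ((EtCoh.bc f).map g) (wf f ξ v) F.obj) ?_
      exact congrArg (germ ξ.1 F) (wf_map f ξ g v))

theorem pushComp_germ (F : EtCoh.Ab X) (ξ : GPts f η) {V : Y.Etale} (v : Fib η V)
    (r : EtCoh.sect ((EtCoh.push f).obj F) V) :
    pushComp f F ξ (germ η ((EtCoh.push f).obj F) v r) = germ ξ.1 F (wf f ξ v) r :=
  congrArg (fun k : ((EtCoh.push f).obj F).obj.obj (op V) ⟶ (EtCoh.stalk ξ.1).obj F => k r)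
    ((Scheme.pointSmallEtale η).toPresheafFiber_presheafFiberDesc
      (P := ((EtCoh.push f).obj F).obj) _ _ V v)

theorem pushComp_natural {F G : EtCoh.Ab X} (φ : F ⟶ G) (ξ : GPts f η)
    (p : ↑((EtCoh.stalk η).obj ((EtCoh.push f).obj F))) :
    pushComp f G ξ ((EtCoh.stalk η).map ((EtCoh.push f).map φ) p) =
      (EtCoh.stalk ξ.1).map φ (pushComp f F ξ p) := by
  obtain ⟨V, v, r, rfl⟩ := germ_surjective _ p
  rw [stalk_map_germ, pushComp_germ, pushComp_germ, stalk_map_germ]
  rfl

variable [IsFinite f]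

omit [IsAlgClosed Ω] in
theorem isFinite_bc_fst (V : Y.Etale) :
    IsFinite (pullback.fst V.hom f : ((EtCoh.bc f).obj V).left ⟶ V.left) :=
  MorphismProperty.pullback_fst V.hom f ‹_›

theorem exists_wf_eq {V : Y.Etale} (v : Fib η V) (z : ((EtCoh.bc f).obj V).left)
    (hz : (pullback.fst V.hom f : ((EtCoh.bc f).obj V).left ⟶ V.left) z = fpt v) :
    ∃ ξ : GPts f η, fpt (wf f ξ v) = z := by
  let p : ((EtCoh.bc f).obj V).left ⟶ V.left := pullback.fst V.hom f
  haveI : IsFinite p := isFinite_bc_fst f V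
  let vl : Spec (CommRingCat.of Ω) ⟶ V.left := v.left
  have hp : p z = pt vl := hz.trans (congrArg vl (Subsingleton.elim _ _))
  obtain ⟨x, hx⟩ := Groth.Agent.Weighting.exists_lift p vl z hp
  let xs : Spec (CommRingCat.of Ω) ⟶ X := x.1 ≫ pullback.snd V.hom f
  have hξ : xs ≫ f = η := by
    exact (Category.assoc _ _ _).trans ((congrArg (x.1 ≫ ·) pullback.condition.symm).trans
      ((Category.assoc _ _ _).symm.trans ((congrArg (· ≫ V.hom) x.2).trans (Over.w v))))
  refine ⟨⟨xs, hξ⟩, ?_⟩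
  have e : (wf f ⟨xs, hξ⟩ v).left = x.1 :=
    pullback.hom_ext ((wf_fst f _ v).trans x.2.symm) (pullback.lift_snd _ _ _)
  refine (congrArg (fun k : Spec (CommRingCat.of Ω) ⟶ ((EtCoh.bc f).obj V).left => k default) e).trans ?_
  rw [← hx]
  exact congrArg x.1 (Subsingleton.elim _ _)

theorem finite_gpts_of_isFinite (η : Spec (CommRingCat.of Ω) ⟶ Y) : Finite (GPts f η) :=
  Groth.Agent.Weighting.finite_gpts f η (f.finite_preimage_singleton _)

theorem injective_pushComp (F : EtCoh.Ab X) (p : ↑((EtCoh.stalk η).obj ((EtCoh.push f).obj F)))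
    (h : ∀ ξ : GPts f η, pushComp f F ξ p = 0) : p = 0 := by
  obtain ⟨V, v, r, rfl⟩ := germ_surjective _ p
  let q : ((EtCoh.bc f).obj V).left ⟶ V.left := pullback.fst V.hom f
  haveI : IsFinite q := isFinite_bc_fst f V
  let C : Set V.left := q '' EtShriek.sectSupp F ((EtCoh.bc f).obj V) r
  have hC : IsClosed C := q.isClosedMap _ (isClosed_sectSupp F _ r)
  have hv : fpt v ∉ C := by
    rintro ⟨z, hz, hzv⟩
    obtain ⟨ξ, hξ⟩ := exists_wf_eq f v z hzv
    exact (germ_ne_zero_iff_mem F (wf f ξ v) r).2 (hξ ▸ hz) ((pushComp_germ f F ξ v r).symm.trans (h ξ))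
  let O : V.left.Opens := ⟨Cᶜ, hC.isOpen_compl⟩
  obtain ⟨v', hv'⟩ := fpt_mem_openObj O v hv
  refine (germ_eq_zero_iff _ v r).2 ⟨openObj V O, openHom V O, fpt v', by rw [← map_fpt, hv'], ?_⟩
  refine sect_map_eq_zero F ((EtCoh.bc f).map (openHom V O)) r fun w hw => ?_
  have hm : q (((EtCoh.bc f).map (openHom V O)).left w) ∈ O := by
    show (pullback.fst V.hom f : ((EtCoh.bc f).obj V).left ⟶ V.left) _ ∈ O
    rw [bc_fst_map]
    exact ((pullback.fst (openObj V O).hom f : ((EtCoh.bc f).obj (openObj V O)).left ⟶ _) w).2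
  exact hm ⟨_, hw, rfl⟩

set_option maxHeartbeats 400000 in
theorem surjective_pushComp_single (F : EtCoh.Ab X) (ξ₀ : GPts f η)
    (a : ↑((EtCoh.stalk ξ₀.1).obj F)) :
    ∃ p : ↑((EtCoh.stalk η).obj ((EtCoh.push f).obj F)),
      pushComp f F ξ₀ p = a ∧ ∀ ξ : GPts f η, ξ ≠ ξ₀ → pushComp f F ξ p = 0 := by
  classical
  obtain ⟨U, t, s, rfl⟩ := germ_surjective F a
  haveI : Etale U.hom := U.prop
  haveI : LocallyQuasiFinite U.hom := lqf_of_etale U.hom
  let tl : Spec (CommRingCat.of Ω) ⟶ U.left := t.left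
  obtain ⟨V₀, W, g, hg, j, q, hjq, hopen, hq, vl, x₁, hx₁, huniq⟩ :=
    Groth.Agent.Weighting.exists_pointed_nbhd (U.hom ≫ f) tl
  let Vo : Y.Etale := Scheme.Etale.mk g
  have hvl : vl ≫ g = η := by
    rw [← x₁.2, Category.assoc, ← hjq, ← Category.assoc, hx₁, ← Category.assoc]
    exact (congrArg (· ≫ f) (Over.w t)).trans ξ₀.2
  let v : Fib η Vo := Over.homMk vl hvl
  let T₀ := (EtCoh.bc f).obj Vo
  haveI : Etale T₀.hom := T₀.prop
  let p : W ⟶ T₀.left := pullback.lift q (j ≫ U.hom) (by rw [Category.assoc]; exact hjq.symm)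
  have hp1 : p ≫ (pullback.fst g f : T₀.left ⟶ V₀) = q := pullback.lift_fst _ _ _
  have hp2 : p ≫ T₀.hom = j ≫ U.hom := pullback.lift_snd _ _ _
  haveI : Etale j := by
    have : j = pullback.lift j q hjq ≫ pullback.fst (U.hom ≫ f) g := (pullback.lift_fst _ _ _).symm
    rw [this]
    haveI : Etale (pullback.fst (U.hom ≫ f) g) := MorphismProperty.pullback_fst _ _ hg
    infer_instance
  haveI : Etale (p ≫ T₀.hom) := by rw [hp2]; infer_instance
  haveI : Etale p := Etale.of_comp p T₀.hom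
  let fst₀ : T₀.left ⟶ V₀ := pullback.fst g f
  haveI : IsFinite fst₀ := isFinite_bc_fst f Vo
  haveI : IsFinite (p ≫ fst₀) := by rw [hp1]; exact hq
  haveI : IsFinite p := IsFinite.of_comp p fst₀
  -- the locus where `p` is not injective
  let B : Set ↑(pullback p p) := (Set.range (pullback.diagonal p))ᶜ
  have hB : IsClosed B := (pullback.diagonal p).isOpenEmbedding.isOpen_range.isClosed_compl
  let r₂ : pullback p p ⟶ V₀ := pullback.fst p p ≫ q
  haveI : IsFinite (pullback.fst p p) := MorphismProperty.pullback_fst _ _ ‹_›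
  haveI : IsFinite q := hq
  let O₀ : V₀.Opens := ⟨(r₂ '' B)ᶜ, (r₂.isClosedMap _ hB).isOpen_compl⟩
  have hvO : fpt v ∈ O₀ := by
    rintro ⟨z, hz, hzv⟩
    have hzp : r₂ z = pt vl := hzv.trans (congrArg vl (Subsingleton.elim _ _))
    obtain ⟨x, hx⟩ := Groth.Agent.Weighting.exists_lift r₂ vl z hzp
    let a : GPts q vl := ⟨x.1 ≫ pullback.fst p p, by rw [Category.assoc]; exact x.2⟩
    let b : GPts q vl := ⟨x.1 ≫ pullback.snd p p, by
      rw [← hp1, Category.assoc, ← pullback.condition_assoc, hp1]; exact x.2⟩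
    have hab : x.1 ≫ pullback.fst p p = x.1 ≫ pullback.snd p p :=
      congrArg Subtype.val ((huniq a).trans (huniq b).symm)
    have hd : x.1 = (x.1 ≫ pullback.fst p p) ≫ pullback.diagonal p :=
      pullback.hom_ext (by simp) (by simp [hab])
    apply hz
    rw [← hx]
    exact ⟨(x.1 ≫ pullback.fst p p) (IsLocalRing.closedPoint Ω), by
      rw [← Scheme.Hom.comp_apply, ← hd]⟩
  let O : T₀.left.Opens := fst₀ ⁻¹ᵁ O₀
  let W' : W.Opens := p ⁻¹ᵁ O
  haveI : Mono (W'.ι ≫ p) := ⟨fun {S} a b h => by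
    have h' : (a ≫ W'.ι) ≫ p = (b ≫ W'.ι) ≫ p := by simpa only [Category.assoc] using h
    let c : S ⟶ pullback p p := pullback.lift (a ≫ W'.ι) (b ≫ W'.ι) h'
    have hr : Set.range c ⊆ Set.range (pullback.diagonal p) := by
      rintro _ ⟨x, rfl⟩
      by_contra hx
      have h1 : r₂ (c x) ∈ r₂ '' B := ⟨c x, hx, rfl⟩
      have h2 : r₂ (c x) = fst₀ (p ((a x).1)) := by
        show (pullback.fst p p ≫ q) (c x) = _
        rw [← hp1, ← Scheme.Hom.comp_apply]
        have : c ≫ pullback.fst p p ≫ p ≫ fst₀ = a ≫ W'.ι ≫ p ≫ fst₀ := by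
          rw [pullback.lift_fst_assoc, Category.assoc]
        rw [this]
        rfl
      exact (a x).2 (h2 ▸ h1)
    let d := IsOpenImmersion.lift (pullback.diagonal p) c hr
    have hd : d ≫ pullback.diagonal p = c := IsOpenImmersion.lift_fac _ _ _
    rw [← cancel_mono W'.ι]
    have e1 := congrArg (fun k : S ⟶ pullback p p => k ≫ pullback.fst p p) hd
    have e2 := congrArg (fun k : S ⟶ pullback p p => k ≫ pullback.snd p p) hd
    simp only [c, Category.assoc, pullback.diagonal_fst, pullback.diagonal_snd, Category.comp_id,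
      pullback.lift_fst, pullback.lift_snd] at e1 e2
    exact e1.symm.trans e2⟩
  haveI : IsOpenImmersion (W'.ι ≫ p) := IsOpenImmersion.of_flat_of_mono _
  -- shrink
  let V : Y.Etale := openObj Vo O₀
  obtain ⟨v', hv'⟩ := fpt_mem_openObj (V := Vo) O₀ v hvO
  let T := (EtCoh.bc f).obj V
  let gT : T ⟶ T₀ := (EtCoh.bc f).map (openHom Vo O₀)
  have hgT : ∀ z, gT.left z ∈ O := fun z => by
    show (pullback.fst g f : T₀.left ⟶ V₀) (gT.left z) ∈ O₀
    have := bc_fst_map f (openHom Vo O₀) z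
    exact this ▸ ((pullback.fst V.hom f : T.left ⟶ V.left) z).2
  let D : T.left.Opens := gT.left ⁻¹ᵁ ⟨Set.range p, p.isOpenMap.isOpen_range⟩
  have hDc : IsClosed (D : Set T.left) :=
    (p.isClosedMap.isClosed_range).preimage gT.left.continuous
  let D' : T.left.Opens := ⟨(D : Set T.left)ᶜ, hDc.isOpen_compl⟩
  have hra : Set.range (D.ι ≫ gT.left) ⊆ Set.range (W'.ι ≫ p) := by
    rintro _ ⟨z, rfl⟩
    obtain ⟨w, hw⟩ := z.2
    have hwW : w ∈ W' := by
      show p w ∈ O
      have hw' : p w = gT.left z.1 := hw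
      rw [hw']
      exact hgT _
    exact ⟨⟨w, hwW⟩, hw⟩
  let l : (D : Scheme.{u}) ⟶ (W' : Scheme.{u}) := IsOpenImmersion.lift (W'.ι ≫ p) (D.ι ≫ gT.left) hra
  have hl : l ≫ W'.ι ≫ p = D.ι ≫ gT.left := IsOpenImmersion.lift_fac _ _ _
  let α : openObj T D ⟶ U := MorphismProperty.Over.homMk (l ≫ W'.ι ≫ j) (by
    show (l ≫ W'.ι ≫ j) ≫ U.hom = D.ι ≫ T.hom
    rw [Category.assoc, Category.assoc, ← hp2, reassoc_of% hl]
    exact congrArg (D.ι ≫ ·) (MorphismProperty.Over.w gT))
  let DD : Bool → T.left.Opens := fun b => cond b D D'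
  obtain ⟨r, hr⟩ := exists_glue_obj F T DD
    (fun z => (em (z ∈ D)).elim (fun h => ⟨true, h⟩) (fun h => ⟨false, h⟩))
    (by
      rintro (_ | _) (_ | _) h
      · exact absurd rfl h
      · exact Set.disjoint_left.2 fun z h1 h2 => h1 h2
      · exact Set.disjoint_left.2 fun z h1 h2 => h2 h1
      · exact absurd rfl h)
    (fun b => match b with
      | true => F.obj.map α.op s
      | false => 0)
  refine ⟨germ η _ v' r, ?_, fun ξ hξ => ?_⟩
  all_goals
    rw [pushComp_germ]
  · have hT : (wf f ξ₀ v').left ≫ gT.left = x₁.1 ≫ p := by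
      have := congrArg (fun k : Fib ξ₀.1 T₀ => k.left) ((wf_map f ξ₀ (openHom Vo O₀) v').trans
        (congrArg (wf f ξ₀) hv'))
      refine this.trans (pullback.hom_ext ?_ ?_)
      · refine Eq.trans ?_ (Category.assoc _ _ _).symm
        exact ((wf_fst f ξ₀ v).trans x₁.2.symm).trans (congrArg (x₁.1 ≫ ·) hp1).symm
      · refine Eq.trans ?_ (Category.assoc _ _ _).symm
        refine (pullback.lift_snd _ _ _).trans ?_
        exact ((congrArg (x₁.1 ≫ ·) hp2).trans (by rw [← Category.assoc, hx₁]; exact Over.w t)).symm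
    have hD : fpt (wf f ξ₀ v') ∈ D := by
      let wl0 : Spec (CommRingCat.of Ω) ⟶ T.left := (wf f ξ₀ v').left
      show gT.left (wl0 default) ∈ Set.range p
      rw [← Scheme.Hom.comp_apply]
      exact ⟨x₁.1 default, (congrArg (fun k : Spec (CommRingCat.of Ω) ⟶ T₀.left => k default) hT).symm⟩
    obtain ⟨w', hw'⟩ := fpt_mem_openObj (DD true) (wf f ξ₀ v') hD
    rw [← hw', ← germ_map, hr true]
    show germ ξ₀.1 F w' (F.obj.map α.op s) = _
    rw [germ_map]
    refine congrArg (fun w => germ ξ₀.1 F w s) ?_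
    refine Over.OverMorphism.ext ?_
    let wl : Spec (CommRingCat.of Ω) ⟶ (D : Scheme.{u}) := w'.left
    have hwl : wl ≫ D.ι = (wf f ξ₀ v').left := congrArg (fun k : Fib ξ₀.1 T => k.left) hw'
    let y : GPts q vl := ⟨wl ≫ l ≫ W'.ι, by
      rw [← hp1, Category.assoc, Category.assoc, reassoc_of% hl, reassoc_of% hwl]
      exact (Category.assoc _ _ _).symm.trans
        ((congrArg (· ≫ (pullback.fst g f : T₀.left ⟶ V₀)) hT).trans
          ((Category.assoc _ _ _).trans ((congrArg (x₁.1 ≫ ·) hp1).trans x₁.2)))⟩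
    show wl ≫ l ≫ W'.ι ≫ j = t.left
    have := congrArg (fun k : GPts q vl => k.1 ≫ j) (huniq y)
    simp only [y, Category.assoc, hx₁] at this
    exact this
  · by_contra hne
    have hD : fpt (wf f ξ v') ∈ D := by
      by_contra hD
      obtain ⟨w', hw'⟩ := fpt_mem_openObj (DD false) (wf f ξ v') hD
      apply hne
      rw [← hw', ← germ_map, hr false]
      exact map_zero _
    obtain ⟨w', hw'⟩ := fpt_mem_openObj D (wf f ξ v') hD
    let wl : Spec (CommRingCat.of Ω) ⟶ (D : Scheme.{u}) := w'.left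
    have hwl : wl ≫ D.ι = (wf f ξ v').left := congrArg (fun k : Fib ξ.1 T => k.left) hw'
    have hT : (wf f ξ v').left ≫ gT.left = (wf f ξ v).left :=
      congrArg (fun k : Fib ξ.1 T₀ => k.left) ((wf_map f ξ (openHom Vo O₀) v').trans
        (congrArg (wf f ξ) hv'))
    let y : GPts q vl := ⟨wl ≫ l ≫ W'.ι, by
      rw [← hp1, Category.assoc, Category.assoc, reassoc_of% hl, reassoc_of% hwl]
      exact (Category.assoc _ _ _).symm.trans
        ((congrArg (· ≫ (pullback.fst g f : T₀.left ⟶ V₀)) hT).trans (wf_fst f ξ v))⟩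
    have h1 := congrArg (fun k : GPts q vl => k.1 ≫ p ≫ T₀.hom) (huniq y)
    simp only [y, Category.assoc, reassoc_of% hl, reassoc_of% hwl] at h1
    rw [hp2, ← Category.assoc x₁.1, hx₁] at h1
    refine hξ (Subtype.ext ?_)
    exact (pullback.lift_snd _ _ _).symm.trans ((congrArg (· ≫ T₀.hom) hT).symm.trans
      ((Category.assoc _ _ _).trans (h1.trans (Over.w t))))

theorem bijective_pushComp (F : EtCoh.Ab X) :
    Function.Bijective (fun (p : ↑((EtCoh.stalk η).obj ((EtCoh.push f).obj F))) (ξ : GPts f η) =>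
      pushComp f F ξ p) := by
  classical
  refine ⟨fun a b h => ?_, fun c => ?_⟩
  · rw [← sub_eq_zero]
    refine injective_pushComp f F _ fun ξ => ?_
    rw [map_sub, sub_eq_zero]
    exact congrFun h ξ
  · haveI := finite_gpts_of_isFinite f η
    letI := Fintype.ofFinite (GPts f η)
    choose p hp hp0 using fun ξ => surjective_pushComp_single f F ξ (c ξ)
    refine ⟨∑ ξ, p ξ, funext fun ξ => ?_⟩
    show pushComp f F ξ (∑ ξ, p ξ) = c ξ
    rw [map_sum, Finset.sum_eq_single ξ (fun ξ' _ h => hp0 ξ' ξ (Ne.symm h))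
      (fun h => absurd (Finset.mem_univ _) h), hp]

theorem push_preservesEpimorphisms : (EtCoh.push f).PreservesEpimorphisms where
  preserves {F G} φ _ := by
    refine epi_of_stalk_algClosed _ fun Ω _ _ η b => ?_
    have hsurj : ∀ ξ : GPts f η, ∃ a, (EtCoh.stalk ξ.1).map φ a = pushComp f G ξ b := fun ξ => by
      haveI : (EtCoh.stalk ξ.1).PreservesEpimorphisms :=
        Functor.preservesEpimorphisms_of_adjunction
          ((Scheme.pointSmallEtale ξ.1).skyscraperSheafAdjunction (A := AddCommGrpCat.{u + 1}))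
      exact (AddCommGrpCat.epi_iff_surjective ((EtCoh.stalk ξ.1).map φ)).1 inferInstance _
    choose a ha using hsurj
    obtain ⟨p, hp⟩ := (bijective_pushComp f F).2 a
    refine ⟨p, (bijective_pushComp f G).1 (funext fun ξ => ?_)⟩
    show pushComp f G ξ _ = pushComp f G ξ b
    rw [pushComp_natural, ← ha ξ]
    exact congrArg _ (congrFun hp ξ)

/-- higher direct images along finite morphisms vanish -/
theorem isZero_Rpush (F : EtCoh.Ab X) (q : ℕ) : IsZero ((EtCoh.Rpush f (q + 1)).obj F) := by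
  haveI := push_preservesEpimorphisms f
  haveI : (EtCoh.push f).IsRightAdjoint := (EtCoh.pullPushAdj f).isRightAdjoint
  haveI : (EtCoh.push f).PreservesHomology := Functor.preservesHomology_of_preservesEpis_and_kernels _
  let I := injectiveResolution F
  refine IsZero.of_iso ?_ (I.isoRightDerivedObj (EtCoh.push f) (q + 1))
  exact (HomologicalComplex.exactAt_iff_isZero_homology _ _).1
    ((I.cocomplex_exactAt_succ q).map (EtCoh.push f))

end Groth.Agent.EtSh
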