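import Groth.Agent.EtSh.FLC
import Groth.Agent.ConstrSets.Basic
import Mathlib.AlgebraicGeometry.Morphisms.ClosedImmersion
import Mathlib.AlgebraicGeometry.Morphisms.Immersion

/-!
# Stratifications adapted to a sheaf
-/

set_option autoImplicit false
set_option backward.isDefEq.respectTransparency.types false

universe u v

open CategoryTheory CategoryTheory.Limits AlgebraicGeometry Opposite Topology

namespace Groth.Agent.EtSh

section Top

variable {T : Type v} [TopologicalSpace T]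

/-- retrocompact open -/
def RO (U : Set T) : Prop := IsOpen U ∧ IsRetrocompact U

theorem RO.inter {U V : Set T} (hU : RO U) (hV : RO V) : RO (U ∩ V) :=
  ⟨hU.1.inter hV.1, hU.2.inter_isOpen hV.2 hV.1⟩

theorem RO.union {U V : Set T} (hU : RO U) (hV : RO V) : RO (U ∪ V) :=
  ⟨hU.1.union hV.1, hU.2.union hV.2⟩

/-- a finite list of pairwise disjoint differences of retrocompact opens -/
def IsCells (L : List (Set T × Set T)) (s : Set T) : Prop :=
  (∀ p ∈ L, RO p.1 ∧ RO p.2) ∧ L.Pairwise (fun p q => Disjoint (p.1 \ p.2) (q.1 \ q.2)) ∧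
    (∀ x, x ∈ s ↔ ∃ p ∈ L, x ∈ p.1 \ p.2)

theorem exists_cells_sdiff (A : List (Set T × Set T)) (hA : ∀ p ∈ A, RO p.1 ∧ RO p.2) :
    ∀ {U V : Set T}, RO U → RO V →
      ∃ L, IsCells L ((U \ V) \ {x | ∃ p ∈ A, x ∈ p.1 \ p.2}) := by
  induction A with
  | nil =>
    intro U V hU hV
    exact ⟨[(U, V)], by simp [hU, hV], List.pairwise_singleton _ _, fun x => by simp⟩
  | cons a A ih =>
    intro U V hU hV
    obtain ⟨ha1, ha2⟩ := hA a (List.mem_cons_self ..)
    have hA' : ∀ p ∈ A, RO p.1 ∧ RO p.2 := fun p hp => hA p (List.mem_cons_of_mem _ hp)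
    obtain ⟨L₁, h₁, d₁, m₁⟩ := ih hA' hU (hV.union ha1)
    obtain ⟨L₂, h₂, d₂, m₂⟩ := ih hA' ((hU.inter ha1).inter ha2) hV
    refine ⟨L₁ ++ L₂, fun p hp => (List.mem_append.1 hp).elim (h₁ p) (h₂ p),
      List.pairwise_append.2 ⟨d₁, d₂, fun p hp q hq => ?_⟩, fun x => ?_⟩
    · refine Set.disjoint_left.2 fun x hx hx' => ?_
      have e1 := (m₁ x).2 ⟨p, hp, hx⟩
      have e2 := (m₂ x).2 ⟨q, hq, hx'⟩
      exact e1.1.2 (Or.inr e2.1.1.1.2)
    · constructor
      · rintro ⟨⟨hxU, hxV⟩, hn⟩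
        have hn' : ¬ ∃ p ∈ A, x ∈ p.1 \ p.2 := fun ⟨p, hp, h⟩ => hn ⟨p, List.mem_cons_of_mem _ hp, h⟩
        by_cases hxa : x ∈ a.1
        · have hxa2 : x ∈ a.2 := by
            by_contra h
            exact hn ⟨a, List.mem_cons_self .., hxa, h⟩
          obtain ⟨p, hp, h⟩ := (m₂ x).1 ⟨⟨⟨⟨hxU, hxa⟩, hxa2⟩, hxV⟩, hn'⟩
          exact ⟨p, List.mem_append.2 (Or.inr hp), h⟩
        · obtain ⟨p, hp, h⟩ := (m₁ x).1 ⟨⟨hxU, not_or.2 ⟨hxV, hxa⟩⟩, hn'⟩
          exact ⟨p, List.mem_append.2 (Or.inl hp), h⟩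
      · rintro ⟨p, hp, h⟩
        rcases List.mem_append.1 hp with hp | hp
        · obtain ⟨⟨hU', hV'⟩, hn⟩ := (m₁ x).2 ⟨p, hp, h⟩
          refine ⟨⟨hU', fun h => hV' (Or.inl h)⟩, ?_⟩
          rintro ⟨q, hq, hxq⟩
          rcases List.mem_cons.1 hq with rfl | hq
          · exact hV' (Or.inr hxq.1)
          · exact hn ⟨q, hq, hxq⟩
        · obtain ⟨⟨⟨⟨hU', -⟩, ha2'⟩, hV'⟩, hn⟩ := (m₂ x).2 ⟨p, hp, h⟩
          refine ⟨⟨hU', hV'⟩, ?_⟩
          rintro ⟨q, hq, hxq⟩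
          rcases List.mem_cons.1 hq with rfl | hq
          · exact hxq.2 ha2'
          · exact hn ⟨q, hq, hxq⟩

theorem exists_cells_diff {B : List (Set T × Set T)} (hB : ∀ p ∈ B, RO p.1 ∧ RO p.2) :
    ∀ {L : List (Set T × Set T)} {s : Set T}, IsCells L s →
      ∃ L', IsCells L' (s \ {x | ∃ p ∈ B, x ∈ p.1 \ p.2}) := by
  intro L
  induction L with
  | nil =>
    intro s hs
    refine ⟨[], by simp, List.Pairwise.nil, fun x => ?_⟩
    constructor
    · rintro ⟨h, -⟩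
      obtain ⟨p, hp, -⟩ := (hs.2.2 x).1 h
      simp at hp
    · simp
  | cons a L ih =>
    rintro s ⟨h, d, m⟩
    obtain ⟨d₀, d₁⟩ := List.pairwise_cons.1 d
    obtain ⟨ha1, ha2⟩ := h a (List.mem_cons_self ..)
    obtain ⟨L₁, h₁, e₁, m₁⟩ := exists_cells_sdiff B hB ha1 ha2
    obtain ⟨L₂, h₂, e₂, m₂⟩ := ih (s := {x | ∃ p ∈ L, x ∈ p.1 \ p.2})
      ⟨fun p hp => h p (List.mem_cons_of_mem _ hp), d₁, fun x => Iff.rfl⟩
    refine ⟨L₁ ++ L₂, fun p hp => (List.mem_append.1 hp).elim (h₁ p) (h₂ p),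
      List.pairwise_append.2 ⟨e₁, e₂, fun p hp q hq => ?_⟩, fun x => ?_⟩
    · refine Set.disjoint_left.2 fun x hx hx' => ?_
      obtain ⟨hxa, -⟩ := (m₁ x).2 ⟨p, hp, hx⟩
      obtain ⟨⟨r, hr, hxr⟩, -⟩ := (m₂ x).2 ⟨q, hq, hx'⟩
      exact Set.disjoint_left.1 (d₀ r hr) hxa hxr
    · rw [Set.mem_sdiff, m x]
      constructor
      · rintro ⟨⟨p, hp, hxp⟩, hn⟩
        rcases List.mem_cons.1 hp with rfl | hp
        · obtain ⟨q, hq, hxq⟩ := (m₁ x).1 ⟨hxp, hn⟩
          exact ⟨q, List.mem_append.2 (Or.inl hq), hxq⟩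
        · obtain ⟨q, hq, hxq⟩ := (m₂ x).1 ⟨⟨p, hp, hxp⟩, hn⟩
          exact ⟨q, List.mem_append.2 (Or.inr hq), hxq⟩
      · rintro ⟨q, hq, hxq⟩
        rcases List.mem_append.1 hq with hq | hq
        · obtain ⟨hxa, hn⟩ := (m₁ x).2 ⟨q, hq, hxq⟩
          exact ⟨⟨a, List.mem_cons_self .., hxa⟩, hn⟩
        · obtain ⟨⟨p, hp, hxp⟩, hn⟩ := (m₂ x).2 ⟨q, hq, hxq⟩
          exact ⟨⟨p, List.mem_cons_of_mem _ hp, hxp⟩, hn⟩

/-- constructible sets are finite disjoint unions of differences of retrocompact opens -/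
theorem exists_cells {s : Set T} (hs : IsConstructible s) : ∃ L, IsCells L s := by
  refine ConstrSets.sdiff_union_induction (p := fun s : Set T => ∃ L, IsCells L s)
    (fun U V hU hU' hV hV' => ⟨[(U, V)],
      fun p hp => by rw [List.mem_singleton.1 hp]; exact ⟨⟨hU, hU'⟩, hV, hV'⟩,
      List.pairwise_singleton _ _, fun x => by simp⟩) ?_ hs
  rintro a b ⟨A, hA, dA, mA⟩ hb
  obtain ⟨B, hB⟩ := hb
  obtain ⟨B', hB', dB', mB'⟩ := exists_cells_diff hA hB
  refine ⟨A ++ B', fun p hp => (List.mem_append.1 hp).elim (hA p) (hB' p),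
    List.pairwise_append.2 ⟨dA, dB', fun p hp q hq => ?_⟩, fun x => ?_⟩
  · refine Set.disjoint_left.2 fun x hx hx' => ?_
    exact ((mB' x).2 ⟨q, hq, hx'⟩).2 ⟨p, hp, hx⟩
  · constructor
    · rintro (h | h)
      · obtain ⟨p, hp, hxp⟩ := (mA x).1 h
        exact ⟨p, List.mem_append.2 (Or.inl hp), hxp⟩
      · by_cases hxa : ∃ p ∈ A, x ∈ p.1 \ p.2
        · obtain ⟨p, hp, hxp⟩ := hxa
          exact ⟨p, List.mem_append.2 (Or.inl hp), hxp⟩
        · obtain ⟨p, hp, hxp⟩ := (mB' x).1 ⟨h, hxa⟩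
          exact ⟨p, List.mem_append.2 (Or.inr hp), hxp⟩
    · rintro ⟨p, hp, hxp⟩
      rcases List.mem_append.1 hp with hp | hp
      · exact Or.inl ((mA x).2 ⟨p, hp, hxp⟩)
      · exact Or.inr ((mB' x).2 ⟨p, hp, hxp⟩).1

theorem exists_disjoint_cells {n : ℕ} (E : Fin n → Set T) (hE : ∀ a, IsConstructible (E a)) :
    ∃ (m : ℕ) (α : Fin m → Fin n) (U V : Fin m → Set T),
      (∀ i, RO (U i) ∧ RO (V i)) ∧ Pairwise (fun i j => Disjoint (U i \ V i) (U j \ V j)) ∧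
      (∀ i, U i \ V i ⊆ E (α i)) ∧ (⋃ i, U i \ V i) = ⋃ a, E a := by
  have hD : ∀ a, IsConstructible (E a \ ⋃ b ∈ Finset.Iio a, E b) := fun a =>
    (hE a).sdiff (IsConstructible.biUnion (Finset.finite_toSet _) fun b _ => hE b)
  choose L hL hd hm using fun a => exists_cells (hD a)
  let κ := Σ a : Fin n, Fin (L a).length
  let e : Fin (Fintype.card κ) ≃ κ := (Fintype.equivFin κ).symm
  have hget : ∀ (p : κ) (x : T), x ∈ ((L p.1).get p.2).1 \ ((L p.1).get p.2).2 →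
      x ∈ E p.1 \ ⋃ b ∈ Finset.Iio p.1, E b :=
    fun p x hx => (hm p.1 x).2 ⟨_, List.get_mem _ _, hx⟩
  refine ⟨Fintype.card κ, fun i => (e i).1, fun i => ((L (e i).1).get (e i).2).1,
    fun i => ((L (e i).1).get (e i).2).2, fun i => hL _ _ (List.get_mem _ _), ?_, fun i x hx => ?_, ?_⟩
  · intro i j hij
    obtain ⟨a, k⟩ := e i
    have key : ∀ p q : κ, p ≠ q → Disjoint (((L p.1).get p.2).1 \ ((L p.1).get p.2).2)
        (((L q.1).get q.2).1 \ ((L q.1).get q.2).2) := by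
      rintro ⟨a, k⟩ ⟨b, l⟩ hpq
      refine Set.disjoint_left.2 fun x hx hx' => ?_
      have h1 := hget ⟨a, k⟩ x hx
      have h2 := hget ⟨b, l⟩ x hx'
      rcases lt_trichotomy a b with h | rfl | h
      · exact h2.2 (Set.mem_biUnion (Finset.mem_Iio.2 h) h1.1)
      · have hkl : k ≠ l := fun h => hpq (by rw [h])
        rcases lt_or_gt_of_ne hkl with h | h
        · exact Set.disjoint_left.1 (List.pairwise_iff_get.1 (hd a) k l h) hx hx'
        · exact Set.disjoint_left.1 (List.pairwise_iff_get.1 (hd a) l k h) hx' hx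
      · exact h1.2 (Set.mem_biUnion (Finset.mem_Iio.2 h) h2.1)
    exact key _ _ fun h => hij (e.injective h)
  · exact (hget (e i) x hx).1
  · refine Set.Subset.antisymm (Set.iUnion_subset fun i x hx =>
      Set.mem_iUnion.2 ⟨(e i).1, (hget (e i) x hx).1⟩) fun x hx => ?_
    obtain ⟨a₀, ha₀⟩ := Set.mem_iUnion.1 hx
    classical
    let s := Finset.univ.filter fun a => x ∈ E a
    have hs : s.Nonempty := ⟨a₀, by simpa [s] using ha₀⟩
    let a := s.min' hs
    have ha : x ∈ E a := (Finset.mem_filter.1 (s.min'_mem hs)).2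
    have : x ∈ E a \ ⋃ b ∈ Finset.Iio a, E b := ⟨ha, fun h => by
      obtain ⟨b, hb, hxb⟩ := Set.mem_iUnion₂.1 h
      exact absurd (s.min'_le b (by simpa [s] using hxb)) (not_le.2 (Finset.mem_Iio.1 hb))⟩
    obtain ⟨p, hp, hxp⟩ := (hm a x).1 this
    obtain ⟨k, hk⟩ := List.get_of_mem hp
    refine Set.mem_iUnion.2 ⟨e.symm ⟨a, k⟩, ?_⟩
    have key : ∀ q : κ, q = ⟨a, k⟩ → x ∈ ((L q.1).get q.2).1 \ ((L q.1).get q.2).2 := by
      rintro q rfl
      rw [hk]
      exact hxp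
    exact key _ (e.apply_symm_apply _)

end Top

variable {X : Scheme.{u}}

theorem exists_immersion_of_isLocallyClosed {E : Set X} (hE : IsLocallyClosed E) :
    ∃ (Y : Scheme.{u}) (j : Y ⟶ X), IsImmersion j ∧ Set.range j = E := by
  obtain ⟨O, Z, hO, hZ, rfl⟩ := hE
  let U : X.Opens := ⟨O, hO⟩
  let I := Scheme.IdealSheafData.vanishingIdeal
    (⟨U.ι ⁻¹' Z, hZ.preimage U.ι.continuous⟩ : TopologicalSpace.Closeds U.toScheme)
  refine ⟨I.subscheme, I.subschemeι ≫ U.ι, inferInstance, ?_⟩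
  rw [Scheme.Hom.comp_base, TopCat.coe_comp, Set.range_comp, Scheme.IdealSheafData.range_subschemeι,
    Scheme.IdealSheafData.coe_support_vanishingIdeal]
  show U.ι '' (U.ι ⁻¹' Z) = O ∩ Z
  rw [Set.image_preimage_eq_inter_range, U.range_ι, Set.inter_comm]
  rfl

theorem isFLC_pull_comp {Y T : Scheme.{u}} (g : T ⟶ Y) (h : Y ⟶ X) {F : EtCoh.Ab X}
    (hF : EtCoh.IsFiniteLocallyConstant ((EtCoh.pull h).obj F)) :
    EtCoh.IsFiniteLocallyConstant ((EtCoh.pull (g ≫ h)).obj F) :=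
  isFLC_of_iso ((EtCore.pullComp g h).symm.app F) (isFLC_pull g hF)

/-- an adapted stratification out of a finite family of pieces covering an open -/
theorem adaptedStrata_of_cover (F : EtCoh.Ab X) (S : X.Opens) {ι : Type*} [Finite ι]
    {T : ι → Scheme.{u}} (g : ∀ a, T a ⟶ X) [∀ a, IsImmersion (g a)]
    (hcons : ∀ a, IsConstructible ((Subtype.val : ↥(S : Set X) → X) ⁻¹' Set.range (g a)))
    (hcov : (S : Set X) ⊆ ⋃ a, Set.range (g a))
    (hflc : ∀ a, EtCoh.IsFiniteLocallyConstant ((EtCoh.pull (g a)).obj F)) :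
    EtPBC.AdaptedStrata F (S : Set X) := by
  obtain ⟨n, ⟨e⟩⟩ := Finite.exists_equiv_fin ι
  obtain ⟨m, α, U, V, hUV, hd, hsub, hun⟩ :=
    exists_disjoint_cells (fun a : Fin n => (Subtype.val : ↥(S : Set X) → X) ⁻¹' Set.range (g (e.symm a)))
      fun a => hcons _
  have hlc : ∀ i, IsLocallyClosed (Subtype.val '' (U i \ V i) : Set X) := fun i =>
    (show IsLocallyClosed (U i \ V i) from ⟨U i, (V i)ᶜ, (hUV i).1.1, (hUV i).2.1.isClosed_compl, rfl⟩).image
      Topology.IsEmbedding.subtypeVal.isInducing (by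
        rw [Subtype.range_coe]
        exact S.2.isLocallyClosed)
  choose W j hj hjr using fun i => exists_immersion_of_isLocallyClosed (hlc i)
  refine ⟨m, fun i => pullback (g (e.symm (α i))) (j i),
    fun i => pullback.fst (g (e.symm (α i))) (j i) ≫ g (e.symm (α i)), fun i => ?_, ?_⟩
  · show IsImmersion (pullback.fst _ _ ≫ _)
    rw [pullback.condition]
    have : IsImmersion (pullback.snd (g (e.symm (α i))) (j i)) :=
      MorphismProperty.pullback_snd (P := @IsImmersion) _ _ inferInstance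
    infer_instance
  have hr : ∀ i, Set.range (pullback.fst (g (e.symm (α i))) (j i) ≫ g (e.symm (α i))) =
      (Subtype.val '' (U i \ V i) : Set X) := fun i => by
    rw [Scheme.Hom.comp_base, TopCat.coe_comp, Set.range_comp, Scheme.Pullback.range_fst, hjr,
      Set.image_preimage_eq_inter_range, Set.inter_eq_left]
    rintro _ ⟨x, hx, rfl⟩
    exact hsub i hx
  refine ⟨fun i => ?_, fun i k hik => ?_, ?_, fun i => isFLC_pull_comp _ _ (hflc _)⟩
  · show IsConstructible ((Subtype.val : ↥(S : Set X) → X) ⁻¹' Set.range _)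
    rw [hr, Set.preimage_image_eq _ Subtype.val_injective]
    exact ((hUV i).1.2.isConstructible (hUV i).1.1).sdiff ((hUV i).2.2.isConstructible (hUV i).2.1)
  · show Disjoint (Set.range _) (Set.range _)
    rw [hr, hr, Set.disjoint_image_iff Subtype.val_injective]
    exact hd hik
  · refine (Set.iUnion_congr hr).trans ?_
    rw [← Set.image_iUnion, hun, ← Set.preimage_iUnion, Subtype.image_preimage_coe, Set.inter_eq_left]
    refine hcov.trans (Set.iUnion_subset fun a => ?_)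
    exact Set.subset_iUnion_of_subset (e a) (by rw [Equiv.symm_apply_apply])

end Groth.Agent.EtSh
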