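import Groth.Agent.EtSh.FLCSerre
import Groth.Agent.EtSh.StalkPts
import Groth.Agent.EtSh.Pull
import Groth.Agent.EtSh.Point
import Groth.Agent.EtSh.Strata
import Groth.Agent.GrpSch.Homogeneous
import Mathlib.AlgebraicGeometry.Morphisms.UniversallyOpen
import Mathlib.AlgebraicGeometry.Morphisms.QuasiFinite

/-!
# Cardinalities of stalks and locally constant sheaves
-/

set_option autoImplicit false
set_option backward.isDefEq.respectTransparency.types false

universe u

open CategoryTheory CategoryTheory.Limits AlgebraicGeometry Opposite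

namespace Groth.Agent.EtSh

variable {X : Scheme.{u}}

/-- a trivialisation checked at one geometric point over each point -/
theorem trivializes_iso_of_exists (F : EtCoh.Ab X) (U : X.Etale) (M : Type) [AddCommGroup M]
    [hj : Etale U.hom] {e : M →+ EtCoh.sect F U}
    (he : ∀ y : U.left, ∃ (Ω : Type u) (_ : Field Ω) (_ : IsSepClosed Ω)
      (ξ : Spec (CommRingCat.of Ω) ⟶ X) (t : Fib ξ U), fpt t = y ∧
        Function.Bijective fun m => germ ξ F t (e m)) :
    Nonempty ((EtCoh.pull U.hom).obj F ≅ EtCoh.const U.left M) := by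
  let π : (EtShriek.compEtale U.hom).obj (EtCoh.top U.left) ⟶ U :=
    MorphismProperty.Over.homMk (𝟙 _) (by
      show 𝟙 _ ≫ U.hom = 𝟙 _ ≫ U.hom
      rfl)
  let g : AddCommGrpCat.of (ULift.{u + 1} M) ⟶ (EtCore.gsec U.left).obj ((EtShriek.restrAlong U.hom).obj F) :=
    AddCommGrpCat.ofHom (((F.obj.map π.op).hom.comp e).comp AddEquiv.ulift.toAddMonoidHom)
  let α : EtCoh.const U.left M ⟶ (EtShriek.restrAlong U.hom).obj F :=
    ((EtCore.constAdj U.left).homEquiv _ _).symm g
  have : IsIso α := isIso_of_stalk_exists α fun y => by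
    obtain ⟨Ω, _, _, ξ, t, ht, hb⟩ := he y
    obtain ⟨ζ, hζ⟩ : ∃ ζ : Spec (CommRingCat.of Ω) ⟶ U.left, ζ = t.left := ⟨_, rfl⟩
    obtain rfl : ξ = ζ ≫ U.hom := by rw [hζ]; exact (Over.w t).symm
    refine ⟨Ω, inferInstance, inferInstance, ζ, hζ ▸ ht, ?_⟩
    rw [ConcreteCategory.isIso_iff_bijective]
    have hc := bijective_constGerm ζ (AddCommGrpCat.of (ULift.{u + 1} M))
    have hr := bijective_restrGerm U.hom ζ F
    have key : ∀ m : ULift.{u + 1} M, restrGerm U.hom ζ F
        ((EtCoh.stalk ζ).map α (constGerm ζ (AddCommGrpCat.of (ULift.{u + 1} M)) m)) =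
        germ (ζ ≫ U.hom) F t (e m.down) := by
      intro m
      rw [constGerm, ConcreteCategory.comp_apply, stalk_map_germ, restrGerm_germ]
      have h2 : (EtCore.constAdj U.left).unit.app _ ≫ (EtCore.gsec U.left).map α = g :=
        ((EtCore.constAdj U.left).homEquiv_unit _ _ _).symm.trans (Equiv.apply_symm_apply _ _)
      refine (congrArg (germ (ζ ≫ U.hom) F (liftRestr U.hom ζ (topLift ζ)))
        (congrArg (fun k : AddCommGrpCat.of (ULift.{u + 1} M) ⟶
          (EtCore.gsec U.left).obj ((EtShriek.restrAlong U.hom).obj F) => k m) h2)).trans ?_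
      refine (germ_map F π _ _).trans ?_
      exact congrArg (fun w => germ (ζ ≫ U.hom) F w (e m.down))
        (Over.OverMorphism.ext ((Category.comp_id _).trans hζ))
    have hb' : Function.Bijective fun m : ULift.{u + 1} M => restrGerm U.hom ζ F
        ((EtCoh.stalk ζ).map α (constGerm ζ (AddCommGrpCat.of (ULift.{u + 1} M)) m)) := by
      rw [funext key]
      exact hb.comp AddEquiv.ulift.bijective
    refine ⟨fun a b hab => ?_, fun q => ?_⟩
    · obtain ⟨a, rfl⟩ := hc.2 a
      obtain ⟨b, rfl⟩ := hc.2 b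
      rw [hb'.1 (congrArg (restrGerm U.hom ζ F) hab)]
    · obtain ⟨m, hm⟩ := hb'.2 (restrGerm U.hom ζ F q)
      exact ⟨_, hr.1 hm⟩
  exact ⟨(pullRestrIso U.hom).app F ≪≫ (asIso α).symm⟩

/-- a lifting of a geometric point along an immersion -/
theorem exists_lift_immersion {T : Scheme.{u}} (g : T ⟶ X) [IsImmersion g] {Ω : Type u} [Field Ω]
    (ξ : Spec (CommRingCat.of Ω) ⟶ X) (h : ξ.base default ∈ Set.range g.base) :
    ∃ ζ : Spec (CommRingCat.of Ω) ⟶ T, ζ ≫ g = ξ :=
  GrpSch.exists_lift_of_isImmersion g ξ (by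
    rintro _ ⟨y, rfl⟩
    rwa [Subsingleton.elim y default])

/-- the finite group of germs comes from a homomorphism into sections -/
theorem exists_hom_sections (F : EtCoh.Ab X) {Ω : Type u} [Field Ω] [IsSepClosed Ω]
    (ξ : Spec (CommRingCat.of Ω) ⟶ X) [Finite ((EtCoh.stalk ξ).obj F)] :
    ∃ (M : Type) (_ : AddCommGroup M) (_ : Finite M) (U : X.Etale) (t : Fib ξ U)
      (e : M →+ EtCoh.sect F U), Function.Bijective fun m => germ ξ F t (e m) := by
  let P := ((EtCoh.stalk ξ).obj F : Type (u + 1))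
  let M := Shrink.{0} P
  let q : M ≃+ P := Shrink.addEquiv
  choose V v s hs using fun m : M => germ_surjective F (q m)
  classical
  have := Fintype.ofFinite M
  obtain ⟨W, hW⟩ := IsCofiltered.inf_objs_exists
    (Finset.univ.image fun m : M => Functor.elementsMk (Scheme.pointSmallEtale ξ).fiber (V m) (v m))
  have hh : ∀ m, ∃ a : W.1 ⟶ V m, (Scheme.pointSmallEtale ξ).fiber.map a W.2 = v m := fun m => by
    obtain ⟨⟨a, ha⟩⟩ := hW (Finset.mem_image_of_mem
      (fun m : M => Functor.elementsMk (Scheme.pointSmallEtale ξ).fiber (V m) (v m)) (Finset.mem_univ m))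
    exact ⟨a, ha⟩
  choose a ha using hh
  let s' : M → EtCoh.sect F W.1 := fun m => F.obj.map (a m).op (s m)
  have hs' : ∀ m, germ ξ F W.2 (s' m) = q m := fun m => by
    rw [germ_map, ha, hs]
  obtain ⟨U, k, ⟨u, hu⟩, hk⟩ := exists_nhd_eq F W.2 (κ := M × M) (fun p => s' (p.1 + p.2))
    (fun p => s' p.1 + s' p.2) fun p => by simp only [map_add, hs']
  obtain ⟨t, ht⟩ := exists_fib_map k u W.2 hu
  refine ⟨M, inferInstance, inferInstance, U, t,
    AddMonoidHom.mk' (fun m => F.obj.map k.op (s' m)) (fun m m' => by rw [hk (m, m'), map_add]), ?_⟩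
  have : (fun m => germ ξ F t (F.obj.map k.op (s' m))) = q := funext fun m => by
    rw [germ_map, ht, hs']
  exact this ▸ q.bijective

/-- near a point over a generic point, an étale scheme only has generalisations of that point -/
theorem exists_open_specializes' (U : X.Etale) (y : U.left) :
    ∃ O : U.left.Opens, y ∈ O ∧ ∀ y' ∈ O, U.hom.base y ⤳ U.hom.base y' → y ⤳ y' := by
  obtain ⟨W, hW, hyW, -⟩ := exists_isAffineOpen_mem_and_subset (x := y) (U := ⊤) trivial
  have : Etale U.hom := U.prop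
  have := locallyQuasiFinite_of_etale U.hom
  obtain ⟨A, hA, hxA, -⟩ := exists_isAffineOpen_mem_and_subset (x := U.hom.base y) (U := ⊤) trivial
  obtain ⟨W, hW, hyW, hWA⟩ := exists_isAffineOpen_mem_and_subset (x := y) (U := U.hom ⁻¹ᵁ A) hxA
  have hdisc := U.hom.isDiscrete_preimage_singleton (U.hom.base y)
  have hfin : ((W : Set U.left) ∩ U.hom.base ⁻¹' {U.hom.base y}).Finite := by
    let p : W.toScheme ⟶ A.toScheme := U.hom.resLE A W hWA
    have : IsAffine W.toScheme := hW
    have : IsAffine A.toScheme := hA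
    have : LocallyQuasiFinite p := by
      have : LocallyQuasiFinite (p ≫ A.ι) := by
        rw [Scheme.Hom.resLE_comp_ι]
        infer_instance
      exact LocallyQuasiFinite.of_comp p A.ι
    refine ((p.finite_preimage_singleton ⟨U.hom.base y, hxA⟩).image W.ι).subset ?_
    rintro z ⟨hz, hzy⟩
    refine ⟨⟨z, hz⟩, Subtype.ext ?_, rfl⟩
    exact (congrArg (fun r : W.toScheme ⟶ X => r.base ⟨z, hz⟩) (Scheme.Hom.resLE_comp_ι U.hom hWA)).trans hzy
  let C : Set U.left := ⋃ z ∈ ((W : Set U.left) ∩ U.hom.base ⁻¹' {U.hom.base y}) \ {y}, closure {z}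
  have hC : IsClosed C := (hfin.subset Set.sdiff_subset).isClosed_biUnion fun _ _ => isClosed_closure
  refine ⟨⟨(W : Set U.left) \ C, W.2.sdiff hC⟩, ⟨hyW, ?_⟩, fun y' ⟨hy'W, hy'C⟩ hy => ?_⟩
  · rintro h
    obtain ⟨z, ⟨⟨-, hzf⟩, hzy⟩, hzc⟩ := Set.mem_iUnion₂.1 h
    obtain ⟨u, hu, hus⟩ := isDiscrete_iff_forall_exists_isOpen.1 hdisc y rfl
    have hyu : y ∈ u ∩ _ := hus.ge rfl
    exact hzy (hus.le ⟨(specializes_iff_mem_closure.2 hzc).mem_open hu hyu.1, hzf⟩)
  · obtain ⟨z, hz, hzy⟩ := Flat.generalizingMap (f := U.hom) hy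
    by_contra hne
    refine hy'C (Set.mem_iUnion₂.2 ⟨z, ⟨⟨hz.mem_open W.2 hy'W, hzy⟩, ?_⟩,
      specializes_iff_mem_closure.1 hz⟩)
    rintro (rfl : z = y)
    exact hne hz

/-- as `exists_open_specializes'`, over a generic point -/
theorem exists_open_specializes (U : X.Etale) (y : U.left) (hy : ∀ x : X, U.hom.base y ⤳ x) :
    ∃ O : U.left.Opens, y ∈ O ∧ ∀ y' ∈ O, y ⤳ y' :=
  let ⟨O, h, h'⟩ := exists_open_specializes' U y
  ⟨O, h, fun y' hy' => h' y' hy' (hy _)⟩

end Groth.Agent.EtSh
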