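import Groth.Agent.EtSh.FLCSerre
import Groth.Agent.EtSh.StalkCard
import Groth.Agent.EtSh.FinitePush
import Groth.Agent.S9559
import Mathlib.AlgebraicGeometry.Limits

/-!
# Direct images of finite locally constant sheaves along finite étale morphisms
-/

set_option autoImplicit false
set_option backward.isDefEq.respectTransparency.types false

universe u

open CategoryTheory CategoryTheory.Limits AlgebraicGeometry Opposite

namespace Groth.Agent.EtSh

open Groth.Agent.Weighting (GPts)

theorem exists_algClosed_fib {X : Scheme.{u}} {U : X.Etale} (y : U.left) :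
    ∃ (Ω : Type u) (_ : Field Ω) (_ : IsAlgClosed Ω) (ξ : Spec (CommRingCat.of Ω) ⟶ X) (t : Fib ξ U),
      fpt t = y := by
  let l := Spec.map (CommRingCat.ofHom (algebraMap (U.left.residueField y)
    (AlgebraicClosure (U.left.residueField y)))) ≫ U.left.fromSpecResidueField y
  exact ⟨AlgebraicClosure (U.left.residueField y), inferInstance, inferInstance, l ≫ U.hom,
    Over.homMk l rfl, Scheme.fromSpecResidueField_apply y _⟩

theorem exists_mem_sigma {n : ℕ} (Vj : Fin n → Scheme.{u}) (y : ↑(∐ Vj)) :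
    ∃ j a, (Sigma.ι Vj j).base a = y := by
  obtain ⟨j, a, h⟩ := (sigmaOpenCover Vj).exists_eq y
  exact ⟨j, a, h⟩

variable {X Y : Scheme.{u}} (f : X ⟶ Y) [IsFinite f] [Etale f] (F : EtCoh.Ab X)

omit [Etale f] in
/-- the direct image is trivialised where `f` splits and `F` is trivialised on every sheet -/
theorem exists_trivializes_push (W : Y.Etale) {n : ℕ} (D : Fin n → (pullback W.hom f).Opens)
    (hcov : ∀ z, ∃ j, z ∈ D j) (hdisj : ∀ i j, i ≠ j → Disjoint (D i : Set ↑(pullback W.hom f)) (D j : Set ↑(pullback W.hom f)))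
    (σ : Fin n → (W.left ⟶ pullback W.hom f))
    (hσ : ∀ j, σ j ≫ pullback.fst W.hom f = 𝟙 W.left)
    (hσD : ∀ j w, (σ j).base w ∈ D j)
    (hD : ∀ j, (D j).ι = ((D j).ι ≫ pullback.fst W.hom f) ≫ σ j)
    (U : Fin n → X.Etale) (k : ∀ j, W.left ⟶ (U j).left)
    (hk : ∀ j, k j ≫ (U j).hom = σ j ≫ pullback.snd W.hom f)
    (M : Fin n → Type) [∀ j, AddCommGroup (M j)] (e : ∀ j, M j →+ EtCoh.sect F (U j))
    (he : ∀ j, Trivializes F (U j) (M j) (e j)) :
    ∃ e' : (∀ j, M j) →+ EtCoh.sect ((EtCoh.push f).obj F) W,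
      ∀ y : W.left, ∃ (Ω : Type u) (_ : Field Ω) (_ : IsSepClosed Ω)
        (ξ : Spec (CommRingCat.of Ω) ⟶ Y) (t : Fib ξ W), fpt t = y ∧
          Function.Bijective fun m => germ ξ ((EtCoh.push f).obj F) t (e' m) := by
  classical
  let T := (EtCoh.bc f).obj W
  let a : ∀ j, openObj T (D j) ⟶ U j := fun j =>
    MorphismProperty.Over.homMk (((D j).ι ≫ pullback.fst W.hom f) ≫ k j) (by
      show (((D j).ι ≫ pullback.fst W.hom f) ≫ k j) ≫ (U j).hom = (D j).ι ≫ pullback.snd W.hom f
      rw [Category.assoc, hk, ← Category.assoc, ← hD])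
  have hglue : ∀ m : (∀ j, M j), ∃ b : EtCoh.sect F T,
      ∀ j, F.obj.map (openHom T (D j)).op b = F.obj.map (a j).op (e j (m j)) := fun m =>
    exists_glue_obj F T D hcov hdisj fun j => F.obj.map (a j).op (e j (m j))
  choose b hb using hglue
  have hext : ∀ s s' : EtCoh.sect F T, (∀ j, F.obj.map (openHom T (D j)).op s =
      F.obj.map (openHom T (D j)).op s') → s = s' := fun s s' h => sect_ext F fun z => by
    obtain ⟨j, hj⟩ := hcov z
    exact ⟨_, openHom T (D j), ⟨z, hj⟩, rfl, h j⟩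
  refine ⟨AddMonoidHom.mk' b fun m m' => hext _ _ fun j => ?_, fun y => ?_⟩
  · exact (hb (m + m') j).trans (((congrArg (F.obj.map (a j).op) ((e j).map_add _ _)).trans
      (map_add _ _ _)).trans ((congrArg₂ (· + ·) (hb m j).symm (hb m' j).symm).trans (map_add _ _ _).symm))
  obtain ⟨Ω, _, _, η, v, hv⟩ := exists_algClosed_fib y
  refine ⟨Ω, inferInstance, inferInstance, η, v, hv, ?_⟩
  obtain ⟨vl, hvl⟩ : ∃ vl : Spec (CommRingCat.of Ω) ⟶ W.left, vl = v.left := ⟨_, rfl⟩
  have hvW : vl ≫ W.hom = η := hvl ▸ Over.w v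
  let x : Fin n → GPts f η := fun j => ⟨vl ≫ σ j ≫ pullback.snd W.hom f, by
    rw [Category.assoc, Category.assoc, ← pullback.condition, reassoc_of% (hσ j), hvW]⟩
  have hwf : ∀ j, (wf f (x j) v).left = vl ≫ σ j := fun j => pullback.hom_ext
    ((wf_fst f (x j) v).trans (by rw [Category.assoc, hσ, Category.comp_id, hvl]))
    ((pullback.lift_snd _ _ _).trans (Category.assoc _ _ _).symm)
  have hmem : ∀ j, fpt (wf f (x j) v) ∈ D j := fun j => by
    obtain ⟨wl, hwl⟩ : ∃ wl : Spec (CommRingCat.of Ω) ⟶ pullback W.hom f, wl = (wf f (x j) v).left := ⟨_, rfl⟩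
    show (wf f (x j) v).left.base (default : Spec (CommRingCat.of Ω)) ∈ D j
    rw [← hwl, hwl.trans (hwf j)]
    exact hσD j _
  have hxinj : Function.Injective x := fun i j h => by
    by_contra hne
    exact Set.disjoint_left.1 (hdisj i j hne) (hmem i) (h.symm ▸ hmem j)
  have hxsurj : Function.Surjective x := fun ξ => by
    obtain ⟨j, hj⟩ := hcov (fpt (wf f ξ v))
    obtain ⟨w, hw⟩ := fpt_mem_openObj (D j) (wf f ξ v) hj
    refine ⟨j, Subtype.ext ?_⟩
    obtain ⟨wl, hwl⟩ : ∃ wl : Spec (CommRingCat.of Ω) ⟶ (D j).toScheme, wl = w.left := ⟨_, rfl⟩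
    have h1 : wl ≫ (D j).ι = (wf f ξ v).left := hwl ▸ congrArg CommaMorphism.left hw
    have h2 : (wf f ξ v).left = vl ≫ σ j := by
      have h3 : (wl ≫ (D j).ι) ≫ pullback.fst W.hom f = vl := by
        rw [h1, hvl]
        exact wf_fst f ξ v
      rw [← h1, ← h3]
      conv_lhs => rw [hD j]
      simp only [Category.assoc]
    show vl ≫ σ j ≫ pullback.snd W.hom f = ξ.1
    rw [← Category.assoc, ← h2]
    exact pullback.lift_snd _ _ _
  have hkey : ∀ j, ∃ u : Fib (x j).1 (U j), ∀ m, pushComp f F (x j)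
      (germ η ((EtCoh.push f).obj F) v (b m)) = germ (x j).1 F u (e j (m j)) := fun j => by
    obtain ⟨w, hw⟩ := fpt_mem_openObj (D j) (wf f (x j) v) (hmem j)
    refine ⟨(Scheme.pointSmallEtale (x j).1).fiber.map (a j) w, fun m => ?_⟩
    rw [pushComp_germ, ← hw, ← germ_map, hb, germ_map]
  choose u hu using hkey
  refine ⟨fun m m' h => funext fun j => (he j Ω (x j).1 (u j)).1 ?_, fun p => ?_⟩
  · exact (hu j m).symm.trans ((congrArg (pushComp f F (x j)) h).trans (hu j m'))
  · choose m hm using fun j => (he j Ω (x j).1 (u j)).2 (pushComp f F (x j) p)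
    refine ⟨m, (bijective_pushComp f F).1 (funext fun ξ => ?_)⟩
    obtain ⟨j, rfl⟩ := hxsurj ξ
    exact (hu j m).trans (hm j)

/-- `push` along a finite étale morphism preserves finite locally constant sheaves -/
theorem isFLC_push (h : EtCoh.IsFiniteLocallyConstant F) :
    EtCoh.IsFiniteLocallyConstant ((EtCoh.push f).obj F) := by
  classical
  rw [isFLC_iff]
  suffices hy : ∀ s : Y, ∃ (W : Y.Etale) (w : W.left) (_ : W.hom w = s) (M : Type) (_ : AddCommGroup M)
      (_ : Finite M), Nonempty ((EtCoh.pull W.hom).obj ((EtCoh.push f).obj F) ≅ EtCoh.const W.left M) by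
    choose W w hw M hM hfin hiso using hy
    exact ⟨Y, W, fun s => ⟨s, w s, hw s⟩, fun s => ⟨M s, hM s, hfin s, hiso s⟩⟩
  intro s
  obtain ⟨V, g, hg, u, hu, n, Vj, c, hc, e, hec⟩ := Groth.Agent.S9559.result f s
  let V₀ : Y.Etale := Scheme.Etale.mk g
  let σ : Fin n → (V ⟶ pullback g f) := fun j => inv (c j) ≫ Sigma.ι Vj j ≫ e.hom ≫ (pullbackSymmetry f g).hom
  have hσ : ∀ j, σ j ≫ pullback.fst g f = 𝟙 V := fun j => by
    simp only [σ, Category.assoc, pullbackSymmetry_hom_comp_fst, hec]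
    simp
  have hσo : ∀ j, IsOpenImmersion (σ j) := fun j => inferInstance
  obtain ⟨ι', hι'⟩ : ∃ φ : (∐ Vj) ≅ pullback g f, φ = e ≪≫ pullbackSymmetry f g := ⟨_, rfl⟩
  have hιb : Function.Bijective ι'.hom := ι'.hom.homeomorph.bijective
  have hr : ∀ j, Set.range (σ j) = ι'.hom '' Set.range (Sigma.ι Vj j) := fun j => by
    have hs : σ j = inv (c j) ≫ Sigma.ι Vj j ≫ ι'.hom := by rw [hι']; rfl
    have hsurj : Function.Surjective (inv (c j)) := (asIso (c j)).inv.homeomorph.surjective
    rw [hs, Scheme.Hom.comp_base, TopCat.coe_comp, hsurj.range_comp, Scheme.Hom.comp_base, TopCat.coe_comp,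
      Set.range_comp]
  have hcov : ∀ z, ∃ j, z ∈ Set.range (σ j) := fun z => by
    obtain ⟨y, rfl⟩ := hιb.2 z
    obtain ⟨j, a, rfl⟩ := exists_mem_sigma Vj y
    exact ⟨j, (hr j).ge ⟨_, ⟨a, rfl⟩, rfl⟩⟩
  have hdisj : ∀ i j, i ≠ j → Disjoint (Set.range (σ i)) (Set.range (σ j)) := fun i j hij => by
    rw [hr, hr, Set.disjoint_image_iff hιb.1]
    have := disjoint_opensRange_sigmaι Vj i j hij
    rw [← TopologicalSpace.Opens.coe_disjoint, Scheme.Hom.coe_opensRange, Scheme.Hom.coe_opensRange] at this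
    exact this
  obtain ⟨Ω, _, _, η, t, ht⟩ := exists_algClosed_fib (U := V₀) u
  choose U y hy M hM hfin e' he' using fun j => (isFLC_iff_trivializes F).1 h ((σ j ≫ pullback.snd g f).base u)
  have hW : ∀ S : Finset (Fin n), ∃ (W : Y.Etale) (b : W ⟶ V₀) (w : W.left), b.left.base w = u ∧
      ∀ j ∈ S, ∃ k : W.left ⟶ (U j).left, k ≫ (U j).hom = b.left ≫ σ j ≫ pullback.snd g f := by
    intro S
    induction S using Finset.induction with
    | empty => exact ⟨V₀, 𝟙 _, u, rfl, by simp⟩
    | insert j S _ ih =>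
      obtain ⟨W, b, w, hw, hk⟩ := ih
      obtain ⟨z, hz1, hz2⟩ := Scheme.Pullback.exists_preimage_pullback
        (f := b.left ≫ σ j ≫ pullback.snd g f) (g := (U j).hom) w (y j) (by
          rw [Scheme.Hom.comp_apply, hw]; exact (hy j).symm)
      have : Etale (U j).hom := (U j).prop
      have : Etale W.hom := W.prop
      let W' : Y.Etale := Scheme.Etale.mk (pullback.fst (b.left ≫ σ j ≫ pullback.snd g f) (U j).hom ≫ W.hom)
      let q : W' ⟶ W := MorphismProperty.Over.homMk (pullback.fst _ _) rfl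
      refine ⟨W', q ≫ b, z, ?_, fun i hi => ?_⟩
      · show b.left.base ((pullback.fst (b.left ≫ σ j ≫ pullback.snd g f) (U j).hom).base z) = u
        rw [hz1, hw]
      · rcases Finset.mem_insert.1 hi with rfl | hi
        · exact ⟨pullback.snd _ _, pullback.condition.symm.trans (Category.assoc _ _ _).symm⟩
        · obtain ⟨k, hk⟩ := hk i hi
          exact ⟨pullback.fst _ _ ≫ k, (Category.assoc _ _ _).trans ((congrArg (_ ≫ ·) hk).trans
            (Category.assoc _ _ _).symm)⟩
  obtain ⟨W, b, w, hw, hk⟩ := hW Finset.univ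
  choose k hk using fun j => hk j (Finset.mem_univ j)
  let T := (EtCoh.bc f).obj W
  let mb : pullback W.hom f ⟶ pullback g f := ((EtCoh.bc f).map b).left
  have hmb1 : mb ≫ pullback.fst g f = pullback.fst W.hom f ≫ b.left := (EtCoh.isPullback_bc_map f b).w
  have hmb2 : mb ≫ pullback.snd g f = pullback.snd W.hom f := MorphismProperty.Over.w ((EtCoh.bc f).map b)
  let D : Fin n → (pullback W.hom f).Opens := fun j => mb ⁻¹ᵁ (σ j).opensRange
  let τ : Fin n → (W.left ⟶ pullback W.hom f) := fun j => pullback.lift (𝟙 _) (b.left ≫ σ j ≫ pullback.snd g f) (by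
    rw [Category.id_comp]
    simp only [Category.assoc, ← pullback.condition]
    refine (MorphismProperty.Over.w b).symm.trans ?_
    show b.left ≫ g = _
    exact congrArg (b.left ≫ ·) (((Category.assoc _ _ _).symm.trans (congrArg (· ≫ g) (hσ j))).trans (Category.id_comp g)).symm)
  have hτm : ∀ j, τ j ≫ mb = b.left ≫ σ j := fun j => pullback.hom_ext
    (by rw [Category.assoc, hmb1]
        refine (pullback.lift_fst_assoc _ _ _ _).trans ?_
        rw [Category.id_comp, Category.assoc]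
        exact ((congrArg (b.left ≫ ·) (hσ j)).trans (Category.comp_id _)).symm)
    (by rw [Category.assoc, hmb2, Category.assoc]; exact pullback.lift_snd _ _ _)
  obtain ⟨e'', he''⟩ := exists_trivializes_push f F W D
    (fun z => hcov (mb z)) (fun i j hij => (hdisj i j hij).preimage _) τ
    (fun j => pullback.lift_fst _ _ _)
    (fun j z => by
      show mb ((τ j) z) ∈ Set.range (σ j)
      rw [← Scheme.Hom.comp_apply, hτm]
      exact ⟨_, rfl⟩)
    (fun j => by
      let ρ : (D j).toScheme ⟶ V := IsOpenImmersion.lift (σ j) ((D j).ι ≫ mb) (by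
        rintro _ ⟨z, rfl⟩
        exact z.2)
      have hρ : ρ ≫ σ j = (D j).ι ≫ mb := IsOpenImmersion.lift_fac _ _ _
      have hρ' : ρ = (D j).ι ≫ pullback.fst W.hom f ≫ b.left := by
        rw [← hmb1]
        exact ((Category.comp_id ρ).symm.trans (congrArg (ρ ≫ ·) (hσ j).symm)).trans
          ((Category.assoc _ _ _).symm.trans ((congrArg (· ≫ pullback.fst g f) hρ).trans (Category.assoc _ _ _)))
      refine pullback.hom_ext ?_ ?_
      · exact ((congrArg (((D j).ι ≫ pullback.fst W.hom f) ≫ ·) (pullback.lift_fst _ _ _)).trans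
          (Category.comp_id _)).symm.trans (Category.assoc _ _ _).symm
      · refine Eq.trans ?_ ((congrArg (((D j).ι ≫ pullback.fst W.hom f) ≫ ·) (pullback.lift_snd _ _ _)).symm.trans
          (Category.assoc _ _ _).symm)
        refine ((congrArg ((D j).ι ≫ ·) hmb2).symm.trans ((Category.assoc _ _ _).symm.trans
          ((congrArg (· ≫ pullback.snd g f) hρ).symm.trans (Category.assoc _ _ _)))).trans ?_
        rw [hρ']
        exact (Category.assoc _ _ _).trans ((congrArg ((D j).ι ≫ ·) (Category.assoc _ _ _))))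
    U k (fun j => (hk j).trans (pullback.lift_snd _ _ _).symm) M e' he'
  refine ⟨W, w, ?_, ∀ j, M j, inferInstance, inferInstance, ?_⟩
  · rw [← MorphismProperty.Over.w b, Scheme.Hom.comp_apply, hw]
    exact hu
  · have : Etale W.hom := W.prop
    exact trivializes_iso_of_exists _ W _ he''

end Groth.Agent.EtSh
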