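import Groth.Agent.EtSh.ExtZeroStalk
import Groth.Agent.EtSh.StalkCard
import Groth.Agent.EtSh.PushFLC
import Groth.Agent.EtSh.Constructible
import Groth.Agent.EtSh.OverSite
import Groth.Agent.EtStrat.Finite

/-!
# Extension by zero of finite locally constant sheaves is constructible
-/

set_option autoImplicit false
set_option backward.isDefEq.respectTransparency.types false

universe u

open CategoryTheory CategoryTheory.Limits AlgebraicGeometry Opposite

namespace Groth.Agent.EtSh

/-- a finite sum of `Sigma.ι`'s, indexed by a bijection -/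
theorem bijective_sum_ι {n : ℕ} {P : Type u} (A : P → AddCommGrpCat.{u + 1}) (x : Fin n → P)
    (hx : Function.Bijective x) {M : Fin n → Type} [∀ i, AddCommGroup (M i)]
    (φ : ∀ i, M i →+ A (x i)) (hφ : ∀ i, Function.Bijective (φ i)) :
    Function.Bijective fun m : ∀ i, M i => ∑ i, Sigma.ι A (x i) (φ i (m i)) := by
  classical
  have hex : ∀ i : Fin n, ∃ q : ∐ A ⟶ A (x i), Sigma.ι A (x i) ≫ q = 𝟙 _ ∧
      ∀ k, k ≠ i → Sigma.ι A (x k) ≫ q = 0 := fun i => by
    refine ⟨Sigma.desc fun p => if h : p = x i then eqToHom (by rw [h]) else 0, ?_, fun k hk => ?_⟩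
    · rw [Sigma.ι_desc, dif_pos rfl, eqToHom_refl]
    · rw [Sigma.ι_desc, dif_neg fun h => hk (hx.1 h)]
  choose q hq hq' using hex
  have key : ∀ (m : ∀ i, M i) k, q k (∑ i, Sigma.ι A (x i) (φ i (m i))) = φ k (m k) := fun m k => by
    rw [map_sum, Finset.sum_eq_single k (fun i _ hi => ?_) (fun h => absurd (Finset.mem_univ k) h)]
    · rw [← ConcreteCategory.comp_apply, hq]
      rfl
    · rw [← ConcreteCategory.comp_apply, hq' k i hi]
      rfl
  refine ⟨fun m m' h => funext fun k => (hφ k).1 ?_, fun z => ?_⟩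
  · rw [← key m k, ← key m' k]
    exact congrArg (q k) h
  · have hid : ∑ i, q i ≫ Sigma.ι A (x i) = 𝟙 (∐ A) := Sigma.hom_ext _ _ fun p => by
      obtain ⟨k, rfl⟩ := hx.2 p
      rw [Preadditive.comp_sum, Category.comp_id,
        Finset.sum_eq_single k (fun i _ hi => by rw [reassoc_of% (hq' i k (Ne.symm hi)), zero_comp])
          (fun h => absurd (Finset.mem_univ k) h), reassoc_of% (hq k)]
    choose m hm using fun i => (hφ i).2 (q i z)
    refine ⟨m, ?_⟩
    show ∑ i, Sigma.ι A (x i) (φ i (m i)) = z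
    simp only [hm]
    have h2 := congrArg (fun f : ∐ A ⟶ ∐ A => f z) hid
    refine Eq.trans ?_ h2
    have hS : ∀ S : Finset (Fin n), ∑ i ∈ S, Sigma.ι A (x i) (q i z) = (∑ i ∈ S, q i ≫ Sigma.ι A (x i)) z := fun S => by
      induction S using Finset.induction with
      | empty => simp
      | insert a S ha ih => simp [Finset.sum_insert ha, ih]
    exact hS Finset.univ

variable {U X : Scheme.{u}} (j : U ⟶ X) [Etale j] [EtShriek.JCont j]

theorem isFLC_pull_extZero (F : EtCoh.Ab U) (hF : EtCoh.IsFiniteLocallyConstant F) {T : Scheme.{u}}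
    (g : T ⟶ X) [IsFinite (pullback.snd j g)] :
    EtCoh.IsFiniteLocallyConstant ((EtCoh.pull g).obj ((EtShriek.extZero j).obj F)) := by
  classical
  rw [isFLC_iff]
  suffices hy : ∀ t : T, ∃ (W : T.Etale) (w : W.left) (_ : W.hom w = t) (M : Type) (_ : AddCommGroup M)
      (_ : Finite M), Nonempty ((EtCoh.pull W.hom).obj ((EtCoh.pull g).obj ((EtShriek.extZero j).obj F)) ≅
        EtCoh.const W.left M) by
    choose W w hw M hM hfin hiso using hy
    exact ⟨T, W, fun s => ⟨s, w s, hw s⟩, fun s => ⟨M s, hM s, hfin s, hiso s⟩⟩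
  intro t
  obtain ⟨V, h, hh, u, hu, n, Vi, c, hc, e, hec⟩ := Groth.Agent.S9559.result (pullback.snd j g) t
  let V₀ : T.Etale := Scheme.Etale.mk h
  let τ : Fin n → (V ⟶ pullback (pullback.snd j g) h) := fun i => inv (c i) ≫ Sigma.ι Vi i ≫ e.hom
  let s : Fin n → (V ⟶ U) := fun i => (τ i ≫ pullback.fst (pullback.snd j g) h) ≫ pullback.fst j g
  have hτ : ∀ i, τ i ≫ pullback.snd (pullback.snd j g) h = 𝟙 V := fun i => by
    simp only [τ, Category.assoc, hec, IsIso.inv_hom_id]
  have hs : ∀ i, s i ≫ j = h ≫ g := fun i => by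
    refine (Category.assoc _ _ _).trans ((congrArg ((τ i ≫ pullback.fst (pullback.snd j g) h) ≫ ·) pullback.condition).trans ?_)
    refine (Category.assoc _ _ _).trans ?_
    rw [← Category.assoc (pullback.fst (pullback.snd j g) h), pullback.condition]
    simp only [τ, Category.assoc, reassoc_of% hec, IsIso.inv_hom_id_assoc]
  choose Ui yi hyi M hM hfin ei hei using fun i => (isFLC_iff_trivializes F).1 hF ((s i).base u)
  have hind : ∀ S : Finset (Fin n), ∃ (W : T.Etale) (b : W.left ⟶ V) (_ : b ≫ h = W.hom) (w : W.left), b.base w = u ∧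
      ∃ (P : X.Etale) (π : W.left ⟶ P.left) (_ : π ≫ P.hom = W.hom ≫ g),
        ∀ i ∈ S, ∃ p : P ⟶ (EtShriek.compEtale j).obj (Ui i), (π ≫ p.left) ≫ (Ui i).hom = b ≫ s i := by
    intro S
    induction S using Finset.induction with
    | empty => exact ⟨V₀, 𝟙 V, Category.id_comp h, u, rfl, EtCoh.top X, h ≫ g, Category.comp_id _, by simp⟩
    | insert i S _ ih =>
      obtain ⟨W, b, hb, w, hw, P, π, hπ, hk⟩ := ih
      obtain ⟨z, hz1, hz2⟩ := Scheme.Pullback.exists_preimage_pullback
        (f := b ≫ s i) (g := (Ui i).hom) w (yi i) (by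
          rw [Scheme.Hom.comp_apply, hw]; exact (hyi i).symm)
      have : Etale (Ui i).hom := (Ui i).prop
      have : Etale W.hom := W.prop
      have : Etale P.hom := P.prop
      let W' : T.Etale := Scheme.Etale.mk (pullback.fst (b ≫ s i) (Ui i).hom ≫ W.hom)
      let q : W' ⟶ W := MorphismProperty.Over.homMk (pullback.fst _ _) rfl
      let P' : X.Etale := Scheme.Etale.mk (pullback.fst P.hom ((Ui i).hom ≫ j) ≫ P.hom)
      let p₁ : P' ⟶ P := MorphismProperty.Over.homMk (pullback.fst _ _) rfl
      let p₂ : P' ⟶ (EtShriek.compEtale j).obj (Ui i) :=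
        MorphismProperty.Over.homMk (pullback.snd P.hom ((Ui i).hom ≫ j)) pullback.condition.symm
      let π' : W'.left ⟶ P'.left :=
        pullback.lift (pullback.fst (b ≫ s i) (Ui i).hom ≫ π) (pullback.snd (b ≫ s i) (Ui i).hom) (by
          rw [Category.assoc, hπ]
          refine Eq.trans ?_ ((pullback.condition_assoc (f := b ≫ s i) (g := (Ui i).hom) j))
          refine congrArg (pullback.fst (b ≫ s i) (Ui i).hom ≫ ·) ?_
          show W.hom ≫ g = (b ≫ s i) ≫ j
          rw [Category.assoc, hs, ← Category.assoc, hb])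
      refine ⟨W', pullback.fst (b ≫ s i) (Ui i).hom ≫ b, (Category.assoc _ _ _).trans (congrArg (_ ≫ ·) hb), z, ?_, P', π', ?_, fun k hkS => ?_⟩
      · show b.base ((pullback.fst (b ≫ s i) (Ui i).hom).base z) = u
        rw [hz1, hw]
      · exact ((pullback.lift_fst_assoc _ _ _ _).trans (Category.assoc _ _ _)).trans
          ((congrArg (_ ≫ ·) hπ).trans (Category.assoc _ _ _).symm)
      · rcases Finset.mem_insert.1 hkS with rfl | hkS
        · exact ⟨p₂, (congrArg (· ≫ (Ui k).hom) (pullback.lift_snd _ _ _)).trans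
            (pullback.condition.symm.trans (Category.assoc _ _ _).symm)⟩
        · obtain ⟨p, hp⟩ := hk k hkS
          refine ⟨p₁ ≫ p, ?_⟩
          refine Eq.trans ?_ (((congrArg (pullback.fst (b ≫ s i) (Ui i).hom ≫ ·) hp)).trans
            (Category.assoc _ _ _).symm)
          refine (congrArg (· ≫ (Ui k).hom) ((Category.assoc _ _ _).symm.trans
            ((congrArg (· ≫ p.left) (pullback.lift_fst _ _ _)).trans (Category.assoc _ _ _)))).trans ?_
          exact Category.assoc _ _ _
  obtain ⟨W, b, hbg, w, hw, P, π, hπ, hk⟩ := hind Finset.univ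
  choose p hp using fun i => hk i (Finset.mem_univ i)
  let E := (EtShriek.extZero j).obj F
  let G := (EtCoh.pull g).obj E
  let α : W ⟶ (EtCoh.bc g).obj P := MorphismProperty.Over.homMk (pullback.lift π W.hom hπ) (pullback.lift_snd _ _ _)
  let comp : ∀ i, M i →+ EtCoh.sect E P := fun i =>
    ((E.obj.map (p i).op).hom.comp (((EtShriek.extZeroAdj j).unit.app F).hom.app (op (Ui i))).hom).comp (ei i)
  let tot : (∀ i, M i) →+ EtCoh.sect E P := ∑ i, (comp i).comp (Pi.evalAddMonoidHom (fun i => M i) i)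
  let e' : (∀ i, M i) →+ EtCoh.sect G W :=
    ((G.obj.map α.op).hom.comp (((EtCoh.pullPushAdj g).unit.app E).hom.app (op P)).hom).comp tot
  refine ⟨W, w, ?_, ∀ i, M i, inferInstance, inferInstance, ?_⟩
  · rw [← hbg, Scheme.Hom.comp_apply, hw]
    exact hu
  have : Etale W.hom := W.prop
  refine trivializes_iso_of_exists G W _ (e := e') fun y => ?_
  obtain ⟨Ω, _, _, η, v, hv⟩ := exists_algClosed_fib y
  refine ⟨Ω, inferInstance, inferInstance, η, v, hv, ?_⟩
  obtain ⟨vl, hvl⟩ : ∃ vl : Spec (CommRingCat.of Ω) ⟶ W.left, vl = v.left := ⟨_, rfl⟩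
  have hvW : vl ≫ W.hom = η := hvl ▸ Over.w v
  let v' : Fib (η ≫ g) P := Over.homMk (vl ≫ π) (by
    show (vl ≫ π) ≫ P.hom = η ≫ g
    rw [Category.assoc, hπ, reassoc_of% hvW])
  let x : Fin n → Over' j (η ≫ g) := fun i => ⟨vl ≫ b ≫ s i, by
    rw [Category.assoc, Category.assoc, hs, reassoc_of% hbg, reassoc_of% hvW]⟩
  have hx : Function.Bijective x := by
    obtain ⟨a, ha⟩ : ∃ a : Spec (CommRingCat.of Ω) ⟶ V, a = vl ≫ b := ⟨_, rfl⟩
    have haT : a ≫ h = η := by rw [ha, Category.assoc]; exact (congrArg (vl ≫ ·) hbg).trans hvW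
    have hd : ∀ i k, i ≠ k → Disjoint (Set.range (τ i)) (Set.range (τ k)) := fun i k hik => by
      have := disjoint_opensRange_sigmaι Vi i k hik
      rw [← TopologicalSpace.Opens.coe_disjoint, Scheme.Hom.coe_opensRange, Scheme.Hom.coe_opensRange] at this
      have hr : ∀ i, Set.range (τ i) ⊆ e.hom '' Set.range (Sigma.ι Vi i) := fun i => by
        rintro _ ⟨z, rfl⟩
        exact ⟨_, ⟨inv (c i) z, rfl⟩, rfl⟩
      exact ((Set.disjoint_image_iff e.hom.homeomorph.injective).2 this).mono (hr i) (hr k)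
    have hl : ∀ i, x i = ⟨a ≫ s i, by rw [Category.assoc, hs, ← Category.assoc, haT]⟩ :=
      fun i => Subtype.ext (show vl ≫ b ≫ s i = a ≫ s i by rw [ha, Category.assoc])
    refine ⟨fun i k hik => ?_, fun z => ?_⟩
    · by_contra hne
      have h0 : a ≫ s i = a ≫ s k := by
        have := congrArg Subtype.val ((hl i).symm.trans (hik.trans (hl k)))
        exact this
      have h1 : a ≫ τ i = a ≫ τ k := by
        refine pullback.hom_ext (pullback.hom_ext ?_ ?_) ?_
        · simpa only [s, Category.assoc] using h0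
        · simp only [Category.assoc, pullback.condition, reassoc_of% (hτ i), reassoc_of% (hτ k)]
        · simp only [Category.assoc, hτ]
      exact Set.disjoint_left.1 (hd i k hne) ⟨a default, rfl⟩
        ⟨a default, (congrArg (fun r : Spec (CommRingCat.of Ω) ⟶ _ => r.base default) h1).symm⟩
    · let l : Spec (CommRingCat.of Ω) ⟶ pullback (pullback.snd j g) h :=
        pullback.lift (pullback.lift z.1 η z.2) a (by rw [pullback.lift_snd, haT])
      obtain ⟨i, q, hq⟩ := exists_mem_sigma Vi (e.inv (l default))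
      let r : Spec (CommRingCat.of Ω) ⟶ Vi i := IsOpenImmersion.lift (Sigma.ι Vi i) (l ≫ e.inv) (by
        rintro _ ⟨o, rfl⟩
        rw [Subsingleton.elim o default]
        exact ⟨q, hq⟩)
      have hr : r ≫ Sigma.ι Vi i ≫ e.hom = l := by
        rw [← Category.assoc, IsOpenImmersion.lift_fac, Category.assoc, Iso.inv_hom_id, Category.comp_id]
      have hra : r ≫ c i = a := by
        rw [← hec]
        simp only [← Category.assoc]
        rw [Category.assoc r, hr]
        exact pullback.lift_snd _ _ _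
      refine ⟨i, (hl i).trans (Subtype.ext ?_)⟩
      show a ≫ s i = z.1
      rw [← hra]
      simp only [s, τ, Category.assoc, IsIso.hom_inv_id_assoc]
      rw [reassoc_of% hr]
      exact (pullback.lift_fst_assoc _ _ _ _).trans (pullback.lift_fst _ _ _)
  have hui : ∀ i, ∃ ti : Fib (x i).1 (Ui i), ti.left = vl ≫ π ≫ (p i).left := fun i =>
    ⟨Over.homMk (vl ≫ π ≫ (p i).left) (by
      show (vl ≫ π ≫ (p i).left) ≫ (Ui i).hom = (x i).1
      simp only [Category.assoc]
      exact congrArg (vl ≫ ·) ((Category.assoc _ _ _).symm.trans (hp i))), rfl⟩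
  choose ti hti using hui
  have hcomp : ∀ i m, germ (η ≫ g) E v' (comp i m) = stalkSumMap j (η ≫ g) F
      (Sigma.ι (fun o : Over' j (η ≫ g) => (EtCoh.stalk o.1).obj F) (x i)
        (germ (x i).1 F (ti i) (ei i m))) := fun i m => by
    refine Eq.trans ?_ (congrArg (fun k : F.obj.obj (op (Ui i)) ⟶ (EtCoh.stalk (η ≫ g)).obj E => k (ei i m))
      (ι_stalkSumMap_germ j (η ≫ g) F (x i) (ti i))).symm
    refine (germ_map E (p i) v' _).trans ?_
    refine congrArg (fun o => germ (η ≫ g) E o _) (Over.OverMorphism.ext ?_)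
    exact (Category.assoc _ _ _).trans (hti i).symm
  have hfib : (Scheme.pointSmallEtale η).fiber.map α v = (fibBC g η).inv.app P v' :=
    Over.OverMorphism.ext (pullback.hom_ext
      (((Category.assoc _ _ _).trans (congrArg (v.left ≫ ·) (pullback.lift_fst _ _ _))).trans
        (Eq.trans (congrArg (· ≫ π) hvl.symm) (pullback.lift_fst _ _ _).symm))
      (((Category.assoc _ _ _).trans (congrArg (v.left ≫ ·) (pullback.lift_snd _ _ _))).trans
        ((Over.w v).trans (pullback.lift_snd _ _ _).symm)))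
  have key : ∀ m, germ η G v (e' m) = (stalkPullIso g η).inv.app E (stalkSumMap j (η ≫ g) F
      (∑ i, Sigma.ι (fun o : Over' j (η ≫ g) => (EtCoh.stalk o.1).obj F) (x i)
        (((germ (x i).1 F (ti i)).hom.comp (ei i)) (m i)))) := fun m => by
    refine (germ_map G α v _).trans ?_
    rw [hfib]
    refine (stalkPullIso_inv_germ g η E v' (tot m)).symm.trans (congrArg _ ?_)
    rw [map_sum]
    simp only [tot, AddMonoidHom.finsetSum_apply, map_sum]
    exact Finset.sum_congr rfl fun i _ => hcomp i (m i)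
  show Function.Bijective fun m => germ η G v (e' m)
  rw [funext key]
  have hinv : Function.Bijective ((stalkPullIso g η).inv.app E) := ConcreteCategory.bijective_of_isIso _
  have hsum : Function.Bijective (stalkSumMap j (η ≫ g) F) := by
    have := isIso_stalkSumMap j (η ≫ g) F
    exact ConcreteCategory.bijective_of_isIso _
  exact (hinv.comp hsum).comp (bijective_sum_ι (fun o : Over' j (η ≫ g) => (EtCoh.stalk o.1).obj F) x hx
    (fun i => (germ (x i).1 F (ti i)).hom.comp (ei i)) fun i => hei i Ω (x i).1 (ti i))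

/-- `j_!` of a finite locally constant sheaf is constructible -/
theorem isConstructible_extZero_of_isFLC [CompactSpace U] [QuasiSeparatedSpace U] [CompactSpace X]
    [QuasiSeparatedSpace X] (F : EtCoh.Ab U) (hF : EtCoh.IsFiniteLocallyConstant F) :
    EtPBC.IsConstructible ((EtShriek.extZero j).obj F) := by
  obtain ⟨n, T, g, hg, hc, -, hun, hfin⟩ := Groth.Agent.EtStrat.exists_strata_isFinite j
  refine (isConstructible_iff_univ _).2 (adaptedStrata_of_cover _ ⊤ g (fun i => ?_) hun.ge fun i => ?_)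
  · exact (hc i).preimage_of_isOpenEmbedding (⊤ : X.Opens).2.isOpenEmbedding_subtypeVal
  · have := hfin i
    exact isFLC_pull_extZero j F hF (g i)

end Groth.Agent.EtSh
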