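import Groth.Agent.EtSh.ExtZeroStalk
import Groth.Agent.EtSh.EtaleAlong
import Groth.Agent.EtSh.Pull
import Mathlib.CategoryTheory.Functor.ReflectsIso.Basic

/-!
# Extension by zero along open immersions
-/

set_option autoImplicit false
set_option backward.isDefEq.respectTransparency.types false

universe u

open CategoryTheory CategoryTheory.Limits AlgebraicGeometry Opposite

namespace Groth.Agent.EtSh

variable {U X : Scheme.{u}} (j : U ⟶ X) [Etale j] [EtShriek.JCont j]
  {Ω : Type u} [Field Ω] [IsSepClosed Ω]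

/-- stalks of the restriction -/
noncomputable def stalkRestrIso (u : Spec (CommRingCat.of Ω) ⟶ U) :
    EtShriek.restrAlong j ⋙ EtCoh.stalk u ≅ EtCoh.stalk (u ≫ j) :=
  Functor.isoWhiskerRight (pullRestrIso j).symm (EtCoh.stalk u) ≪≫ stalkPullIso j u

theorem isZero_stalk_extZero (ξ : Spec (CommRingCat.of Ω) ⟶ X) (hξ : IsEmpty (Over' j ξ))
    (F : EtCoh.Ab U) : IsZero ((EtCoh.stalk ξ).obj ((EtShriek.extZero j).obj F)) := by
  refine IsZero.of_iso ?_ (stalkSumIso j ξ F).symm
  exact (IsZero.iff_id_eq_zero _).2 (Sigma.hom_ext _ _ fun u => isEmptyElim u)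

theorem isEmpty_over' (ξ : Spec (CommRingCat.of Ω) ⟶ X) (h : ξ.base default ∉ Set.range j.base) :
    IsEmpty (Over' j ξ) :=
  ⟨fun u => h ⟨u.1.base default, congrArg (fun k : Spec (CommRingCat.of Ω) ⟶ X => k.base default) u.2⟩⟩

omit [EtShriek.JCont j] [IsSepClosed Ω] in
theorem exists_lift_of_isOpenImmersion [IsOpenImmersion j] (ξ : Spec (CommRingCat.of Ω) ⟶ X)
    (h : ξ.base default ∈ Set.range j.base) : ∃ u : Spec (CommRingCat.of Ω) ⟶ U, u ≫ j = ξ :=
  ⟨IsOpenImmersion.lift j ξ (by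
    rintro _ ⟨y, rfl⟩
    rwa [Subsingleton.elim y default]), IsOpenImmersion.lift_fac _ _ _⟩

theorem isIso_stalk_map_of_restr {G H : EtCoh.Ab X} (τ : G ⟶ H)
    [IsIso ((EtShriek.restrAlong j).map τ)] (u : Spec (CommRingCat.of Ω) ⟶ U) :
    IsIso ((EtCoh.stalk (u ≫ j)).map τ) :=
  (NatIso.isIso_map_iff (stalkRestrIso j u) τ).1
    (inferInstanceAs (IsIso ((EtCoh.stalk u).map ((EtShriek.restrAlong j).map τ))))

theorem isIso_restr_counit [IsOpenImmersion j] (G : EtCoh.Ab X) :
    IsIso ((EtShriek.restrAlong j).map ((EtShriek.extZeroAdj j).counit.app G)) := by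
  have := isIso_unit_extZero_of_mono j ((EtShriek.restrAlong j).obj G)
  have h := (EtShriek.extZeroAdj j).right_triangle_components G
  exact IsIso.of_isIso_fac_left h

end Groth.Agent.EtSh
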