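import Groth.Agent.EtSh.Stalks
import Groth.Prelude.Def_EtShriek2
import Groth.Prelude.Def_EtCore
import Mathlib.CategoryTheory.Limits.FunctorCategory.Basic

/-!
# Stalks of the extension by zero along an étale morphism
-/

set_option autoImplicit false
set_option backward.isDefEq.respectTransparency.types false

universe u

open CategoryTheory CategoryTheory.Limits AlgebraicGeometry Opposite

namespace Groth.Agent.EtSh

variable {U X : Scheme.{u}} (j : U ⟶ X) [Etale j] [EtShriek.JCont j]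
  {Ω : Type u} [Field Ω] [IsSepClosed Ω] (ξ : Spec (CommRingCat.of Ω) ⟶ X)

/-- geometric points of `U` over `ξ` -/
abbrev Over' : Type u := {u : Spec (CommRingCat.of Ω) ⟶ U // u ≫ j = ξ}

/-- a lifting to an étale `U`-scheme as lifting to the composite -/
noncomputable def liftComp (u : Over' j ξ) {W : U.Etale} (w : Fib u.1 W) :
    Fib ξ ((EtShriek.compEtale j).obj W) :=
  Over.homMk w.left (by
    show w.left ≫ W.hom ≫ j = ξ
    exact (Category.assoc _ _ _).symm.trans ((congrArg (· ≫ j) (Over.w w)).trans u.2))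

/-- the component of the unit at a lifting -/
noncomputable def extZeroGerm (F : EtCoh.Ab U) {W : U.Etale}
    (t : Fib ξ ((EtShriek.compEtale j).obj W)) :
    F.obj.obj (op W) ⟶ (EtCoh.stalk ξ).obj ((EtShriek.extZero j).obj F) :=
  ((EtShriek.extZeroAdj j).unit.app F).hom.app (op W) ≫ germ ξ _ t

theorem extZeroGerm_map (F : EtCoh.Ab U) {W W' : U.Etale} (k : W' ⟶ W)
    (t : Fib ξ ((EtShriek.compEtale j).obj W')) :
    F.obj.map k.op ≫ extZeroGerm j ξ F t =
      extZeroGerm j ξ F ((Scheme.pointSmallEtale ξ).fiber.map ((EtShriek.compEtale j).map k) t) := by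
  refine (Category.assoc _ _ _).symm.trans ?_
  refine (congrArg (· ≫ germ ξ _ t) (((EtShriek.extZeroAdj j).unit.app F).hom.naturality k.op)).trans ?_
  refine (Category.assoc _ _ _).trans ?_
  exact congrArg (_ ≫ ·) ((Scheme.pointSmallEtale ξ).toPresheafFiber_w _ t _)

theorem comp_homEquiv {F : EtCoh.Ab U} {C : AddCommGrpCat.{u + 1}}
    (k : (EtCoh.stalk ξ).obj ((EtShriek.extZero j).obj F) ⟶ C) (W : U.Etale)
    (t : Fib ξ ((EtShriek.compEtale j).obj W)) :
    ((EtShriek.extZeroAdj j).homEquiv _ _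
        ((Scheme.pointSmallEtale ξ).skyscraperSheafAdjunction.homEquiv _ _ k)).hom.app (op W) ≫
      Pi.π (fun _ : Fib ξ ((EtShriek.compEtale j).obj W) => C) t = extZeroGerm j ξ F t ≫ k := by
  rw [Adjunction.homEquiv_unit, extZeroGerm, Category.assoc]
  show (((EtShriek.extZeroAdj j).unit.app F).hom.app (op W) ≫
    ((Scheme.pointSmallEtale ξ).skyscraperSheafAdjunction.homEquiv _ _ k).hom.app
      (op ((EtShriek.compEtale j).obj W))) ≫ _ = _
  rw [Category.assoc]
  refine congrArg (_ ≫ ·) ?_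
  erw [GrothendieckTopology.Point.skyscraperSheafAdjunction_homEquiv_apply_hom]
  exact (Scheme.pointSmallEtale ξ).skyscraperPresheafHomEquiv_app_π k _ t

theorem hom_ext_extZero {F : EtCoh.Ab U} {C : AddCommGrpCat.{u + 1}}
    {k k' : (EtCoh.stalk ξ).obj ((EtShriek.extZero j).obj F) ⟶ C}
    (h : ∀ (W : U.Etale) (t : Fib ξ ((EtShriek.compEtale j).obj W)),
      extZeroGerm j ξ F t ≫ k = extZeroGerm j ξ F t ≫ k') : k = k' := by
  apply ((Scheme.pointSmallEtale ξ).skyscraperSheafAdjunction.homEquiv _ _).injective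
  apply ((EtShriek.extZeroAdj j).homEquiv _ _).injective
  ext W : 3
  exact limit.hom_ext fun ⟨t⟩ =>
    (comp_homEquiv j ξ k W.unop t).trans ((h W.unop t).trans (comp_homEquiv j ξ k' W.unop t).symm)

/-- morphisms out of the stalk of the extension by zero -/
theorem exists_desc {F : EtCoh.Ab U} {C : AddCommGrpCat.{u + 1}}
    (c : ∀ (W : U.Etale), Fib ξ ((EtShriek.compEtale j).obj W) → (F.obj.obj (op W) ⟶ C))
    (hc : ∀ (W W' : U.Etale) (k : W' ⟶ W) (t : Fib ξ ((EtShriek.compEtale j).obj W')),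
      F.obj.map k.op ≫ c W' t =
        c W ((Scheme.pointSmallEtale ξ).fiber.map ((EtShriek.compEtale j).map k) t)) :
    ∃ k : (EtCoh.stalk ξ).obj ((EtShriek.extZero j).obj F) ⟶ C,
      ∀ (W : U.Etale) (t : Fib ξ ((EtShriek.compEtale j).obj W)),
        extZeroGerm j ξ F t ≫ k = c W t := by
  let g : F ⟶ (EtShriek.restrAlong j).obj ((Scheme.pointSmallEtale ξ).skyscraperSheafFunctor.obj C) :=
    ⟨{ app := fun W => Pi.lift fun t => c W.unop t
       naturality := fun W W' k => limit.hom_ext fun ⟨t⟩ => by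
        refine (Category.assoc _ _ _).trans ?_
        refine (congrArg (F.obj.map k ≫ ·) (Pi.lift_π _ _)).trans ?_
        refine (hc W.unop W'.unop k.unop t).trans ?_
        refine Eq.trans ?_ (Category.assoc _ _ _).symm
        refine Eq.trans (Pi.lift_π (fun t => c W.unop t) _).symm ?_
        refine congrArg (Pi.lift (fun t => c W.unop t) ≫ ·) ?_
        show _ = ((Scheme.pointSmallEtale ξ).skyscraperPresheafFunctor.obj C).map
          ((EtShriek.compEtale j).map k.unop).op ≫ Pi.π _ t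
        simp [GrothendieckTopology.Point.skyscraperPresheafFunctor]
        exact (Category.comp_id _).symm.trans (Pi.map'_comp_π (f := fun _ => C) (g := fun _ => C) _ (fun _ => 𝟙 C) t).symm }⟩
  refine ⟨((Scheme.pointSmallEtale ξ).skyscraperSheafAdjunction.homEquiv _ _).symm
    (((EtShriek.extZeroAdj j).homEquiv _ _).symm g), fun W t => ?_⟩
  rw [← comp_homEquiv, Equiv.apply_symm_apply, Equiv.apply_symm_apply]
  exact Pi.lift_π _ _

/-- the comparison map -/
noncomputable def stalkSumMap (F : EtCoh.Ab U) :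
    (∐ fun u : Over' j ξ => (EtCoh.stalk u.1).obj F) ⟶
      (EtCoh.stalk ξ).obj ((EtShriek.extZero j).obj F) :=
  Sigma.desc fun u => (Scheme.pointSmallEtale u.1).presheafFiberDesc (P := F.obj)
    (fun _ w => extZeroGerm j ξ F (liftComp j ξ u w))
    (fun _ _ k w => extZeroGerm_map j ξ F k (liftComp j ξ u w))

theorem ι_stalkSumMap_germ (F : EtCoh.Ab U) (u : Over' j ξ) {W : U.Etale} (w : Fib u.1 W) :
    germ u.1 F w ≫ Sigma.ι (fun u : Over' j ξ => (EtCoh.stalk u.1).obj F) u ≫ stalkSumMap j ξ F =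
      extZeroGerm j ξ F (liftComp j ξ u w) := by
  rw [stalkSumMap, Sigma.ι_desc]
  exact (Scheme.pointSmallEtale u.1).toPresheafFiber_presheafFiberDesc _ _ W w

omit [Etale j] [EtShriek.JCont j] in
theorem sigma_ext (F : EtCoh.Ab U) {C : AddCommGrpCat.{u + 1}}
    {k k' : (∐ fun u : Over' j ξ => (EtCoh.stalk u.1).obj F) ⟶ C}
    (h : ∀ (u : Over' j ξ) (W : U.Etale) (w : Fib u.1 W),
      germ u.1 F w ≫ Sigma.ι (fun u : Over' j ξ => (EtCoh.stalk u.1).obj F) u ≫ k =
        germ u.1 F w ≫ Sigma.ι (fun u : Over' j ξ => (EtCoh.stalk u.1).obj F) u ≫ k') : k = k' :=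
  Sigma.hom_ext _ _ fun u => (Scheme.pointSmallEtale u.1).presheafFiber_hom_ext fun W w => h u W w

theorem stalkSumMap_naturality {F G : EtCoh.Ab U} (a : F ⟶ G) :
    Limits.Sigma.map (fun u : Over' j ξ => (EtCoh.stalk u.1).map a) ≫ stalkSumMap j ξ G =
      stalkSumMap j ξ F ≫ (EtCoh.stalk ξ).map ((EtShriek.extZero j).map a) := by
  refine sigma_ext j ξ F fun u W w => ?_
  rw [Sigma.ι_map_assoc, reassoc_of% (ι_stalkSumMap_germ j ξ F u w)]
  have e1 : germ u.1 F w ≫ (EtCoh.stalk u.1).map a = a.hom.app (op W) ≫ germ u.1 G w :=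
    (Scheme.pointSmallEtale u.1).toPresheafFiber_naturality a.hom W w
  rw [reassoc_of% e1, ι_stalkSumMap_germ, extZeroGerm, extZeroGerm, Category.assoc]
  have e2 : germ ξ ((EtShriek.extZero j).obj F) (liftComp j ξ u w) ≫
      (EtCoh.stalk ξ).map ((EtShriek.extZero j).map a) =
        ((EtShriek.extZero j).map a).hom.app _ ≫ germ ξ _ (liftComp j ξ u w) :=
    (Scheme.pointSmallEtale ξ).toPresheafFiber_naturality ((EtShriek.extZero j).map a).hom _ _
  refine Eq.trans ?_ (congrArg (_ ≫ ·) e2).symm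
  refine (Category.assoc _ _ _).symm.trans (Eq.trans ?_ (Category.assoc _ _ _))
  refine congrArg (· ≫ _) ?_
  exact congrArg (fun k : F ⟶ (EtShriek.restrAlong j).obj ((EtShriek.extZero j).obj G) => k.hom.app (op W))
    ((EtShriek.extZeroAdj j).unit.naturality a)

theorem isIso_stalkSumMap (F : EtCoh.Ab U) : IsIso (stalkSumMap j ξ F) := by
  let P : Over' j ξ → AddCommGrpCat.{u + 1} := fun u => (EtCoh.stalk u.1).obj F
  let u₀ : ∀ (W : U.Etale), Fib ξ ((EtShriek.compEtale j).obj W) → Over' j ξ := fun W t =>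
    ⟨t.left ≫ W.hom, (Category.assoc _ _ _).trans (Over.w t)⟩
  let w₀ : ∀ (W : U.Etale) (t : Fib ξ ((EtShriek.compEtale j).obj W)), Fib (u₀ W t).1 W :=
    fun W t => Over.homMk t.left rfl
  have indep : ∀ (W : U.Etale) (t : Fib ξ ((EtShriek.compEtale j).obj W)) (u : Over' j ξ)
      (w : Fib u.1 W), w.left = t.left →
      germ u.1 F w ≫ Sigma.ι P u = germ (u₀ W t).1 F (w₀ W t) ≫ Sigma.ι P (u₀ W t) := by
    intro W t u w e
    obtain rfl : u = u₀ W t := Subtype.ext ((Over.w w).symm.trans (congrArg (· ≫ W.hom) e))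
    rw [show w = w₀ W t from Over.OverMorphism.ext e]
  obtain ⟨k, hk⟩ := exists_desc j ξ (F := F) (C := ∐ P)
    (fun W t => germ (u₀ W t).1 F (w₀ W t) ≫ Sigma.ι P (u₀ W t)) fun W W' k t => by
      let t' := (Scheme.pointSmallEtale ξ).fiber.map ((EtShriek.compEtale j).map k) t
      refine Eq.trans ?_ (indep W t' (u₀ W' t)
        ((Scheme.pointSmallEtale (u₀ W' t).1).fiber.map k (w₀ W' t)) rfl)
      rw [← Category.assoc]
      exact congrArg (· ≫ _) ((Scheme.pointSmallEtale (u₀ W' t).1).toPresheafFiber_w k (w₀ W' t) F.obj)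
  refine ⟨k, ?_, ?_⟩
  · refine sigma_ext j ξ F fun u W w => ?_
    rw [reassoc_of% (ι_stalkSumMap_germ j ξ F u w), hk, Category.comp_id]
    exact (indep W (liftComp j ξ u w) u w rfl).symm
  · refine hom_ext_extZero j ξ fun W t => ?_
    rw [reassoc_of% (hk W t), ι_stalkSumMap_germ, Category.comp_id]
    exact congrArg (extZeroGerm j ξ F) (Over.OverMorphism.ext rfl)

/-- the stalk of the extension by zero -/
noncomputable def stalkSumIso (F : EtCoh.Ab U) :
    (∐ fun u : Over' j ξ => (EtCoh.stalk u.1).obj F) ≅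
      (EtCoh.stalk ξ).obj ((EtShriek.extZero j).obj F) :=
  have := isIso_stalkSumMap j ξ F
  asIso (stalkSumMap j ξ F)

end Groth.Agent.EtSh
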