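import Groth.Agent.EtSh.OverSite
import Groth.Prelude.Def_EtCore

/-!
# Finite locally constant sheaves
-/

set_option autoImplicit false
set_option backward.isDefEq.respectTransparency.types false

universe u

open CategoryTheory CategoryTheory.Limits AlgebraicGeometry Opposite

namespace Groth.Agent.EtSh

variable {X Y : Scheme.{u}}

/-- trivialisation over the over-site is trivialisation after pulling back -/
theorem restr_iso_const_iff (F : EtCoh.Ab X) (U : X.Etale) (M : Type) [AddCommGroup M] :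
    Nonempty (EtCoh.restr F U ≅ EtPBC.constOver U M) ↔
      Nonempty ((EtCoh.pull U.hom).obj F ≅ EtCoh.const U.left M) := by
  have hj : Etale U.hom := U.prop
  have := jCont_hom U
  let P := (toOver U).sheafPushforwardContinuous AddCommGrpCat.{u + 1} U.left.smallEtaleTopology
        (X.smallEtaleTopology.over U)
  let e₁ : (EtCoh.pull U.hom).obj F ≅ P.obj (EtCoh.restr F U) :=
    (pullRestrIso U.hom).app F ≪≫ ((overRestrIso U).app F).symm
  let e₂ : P.obj (EtPBC.constOver U M) ≅ EtCoh.const U.left M := (overConstIso U).app _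
  constructor
  · rintro ⟨e⟩
    exact ⟨e₁ ≪≫ P.mapIso e ≪≫ e₂⟩
  · rintro ⟨e⟩
    exact ⟨P.preimageIso (e₁.symm ≪≫ e ≪≫ e₂.symm)⟩

theorem isFLC_iff (F : EtCoh.Ab X) :
    EtCoh.IsFiniteLocallyConstant F ↔
      ∃ (ι : Type u) (U : ι → X.Etale), EtCoh.Covers U ∧ ∀ i, ∃ (M : Type) (_ : AddCommGroup M)
        (_ : Finite M), Nonempty ((EtCoh.pull (U i).hom).obj F ≅ EtCoh.const (U i).left M) := by
  refine ⟨fun ⟨ι, U, hU, h⟩ => ⟨ι, U, hU, fun i => ?_⟩, fun ⟨ι, U, hU, h⟩ => ⟨ι, U, hU, fun i => ?_⟩⟩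
  · obtain ⟨M, hM, hfin, e⟩ := h i
    exact ⟨M, hM, hfin, (restr_iso_const_iff F (U i) M).1 e⟩
  · obtain ⟨M, hM, hfin, e⟩ := h i
    exact ⟨M, hM, hfin, (restr_iso_const_iff F (U i) M).2 e⟩

theorem isFLC_const (M : Type) [AddCommGroup M] [Finite M] :
    EtCoh.IsFiniteLocallyConstant (EtCoh.const X M) :=
  (isFLC_iff _).2 ⟨PUnit, fun _ => EtCoh.top X, fun x => ⟨⟨⟩, x, rfl⟩,
    fun _ => ⟨M, inferInstance, inferInstance, ⟨EtCore.pullConst _ M⟩⟩⟩

theorem isFLC_of_iso {F G : EtCoh.Ab X} (e : F ≅ G) (h : EtCoh.IsFiniteLocallyConstant F) :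
    EtCoh.IsFiniteLocallyConstant G := by
  obtain ⟨ι, U, hU, h⟩ := (isFLC_iff F).1 h
  refine (isFLC_iff G).2 ⟨ι, U, hU, fun i => ?_⟩
  obtain ⟨M, hM, hfin, ⟨a⟩⟩ := h i
  exact ⟨M, hM, hfin, ⟨(EtCoh.pull (U i).hom).mapIso e.symm ≪≫ a⟩⟩

theorem covers_bc {ι : Type u} {U : ι → Y.Etale} (f : X ⟶ Y) (hU : EtCoh.Covers U) :
    EtCoh.Covers fun i => (EtCoh.bc f).obj (U i) := fun x => by
  obtain ⟨i, y, hy⟩ := hU (f.base x)
  obtain ⟨z, -, hz⟩ := Scheme.Pullback.exists_preimage_pullback (f := (U i).hom) (g := f) y x hy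
  exact ⟨i, z, hz⟩

theorem isFLC_pull (f : X ⟶ Y) {F : EtCoh.Ab Y} (h : EtCoh.IsFiniteLocallyConstant F) :
    EtCoh.IsFiniteLocallyConstant ((EtCoh.pull f).obj F) := by
  obtain ⟨ι, U, hU, h⟩ := (isFLC_iff F).1 h
  refine (isFLC_iff _).2 ⟨ι, _, covers_bc f hU, fun i => ?_⟩
  obtain ⟨M, hM, hfin, ⟨a⟩⟩ := h i
  let V := (EtCoh.bc f).obj (U i)
  let p : V.left ⟶ (U i).left := pullback.fst (U i).hom f
  let q : V.left ⟶ X := pullback.snd (U i).hom f
  have w : q ≫ f = p ≫ (U i).hom := pullback.condition.symm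
  refine ⟨M, hM, hfin, ⟨?_⟩⟩
  exact (EtCore.pullComp q f).symm.app F ≪≫ (EtCore.pullCongr w).app F ≪≫
    (EtCore.pullComp p (U i).hom).app F ≪≫ (EtCoh.pull p).mapIso a ≪≫ EtCore.pullConst p M

/-- being finite locally constant is étale local -/
theorem isFLC_of_covers {ι : Type u} (U : ι → X.Etale) (hU : EtCoh.Covers U) {F : EtCoh.Ab X}
    (h : ∀ i, EtCoh.IsFiniteLocallyConstant ((EtCoh.pull (U i).hom).obj F)) :
    EtCoh.IsFiniteLocallyConstant F := by
  choose κ V hV hM using fun i => (isFLC_iff _).1 (h i)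
  let W : (Σ i, κ i) → X.Etale := fun p =>
    have : Etale (U p.1).hom := (U p.1).prop
    have : Etale (V p.1 p.2).hom := (V p.1 p.2).prop
    Scheme.Etale.mk ((V p.1 p.2).hom ≫ (U p.1).hom)
  refine (isFLC_iff F).2 ⟨_, W, fun x => ?_, fun p => ?_⟩
  · obtain ⟨i, y, hy⟩ := hU x
    obtain ⟨k, z, hz⟩ := hV i y
    exact ⟨⟨i, k⟩, z, (congrArg (U i).hom.base hz).trans hy⟩
  · obtain ⟨M, hM', hfin, ⟨a⟩⟩ := hM p.1 p.2
    exact ⟨M, hM', hfin, ⟨(EtCore.pullComp (V p.1 p.2).hom (U p.1).hom).app F ≪≫ a⟩⟩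

/-- pullback along an étale surjection reflects finite local constancy -/
theorem isFLC_of_pull_surjective (g : X ⟶ Y) [Etale g] [Surjective g] {F : EtCoh.Ab Y}
    (h : EtCoh.IsFiniteLocallyConstant ((EtCoh.pull g).obj F)) : EtCoh.IsFiniteLocallyConstant F :=
  isFLC_of_covers (fun _ : PUnit.{u + 1} => Scheme.Etale.mk g) (fun y => ⟨⟨⟩, g.surjective y⟩)
    fun _ => h

theorem isFLC_of_isZero {F : EtCoh.Ab X} (h : IsZero F) : EtCoh.IsFiniteLocallyConstant F := by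
  refine isFLC_of_iso (IsZero.iso ?_ h) (isFLC_const (X := X) PUnit)
  refine (constantSheaf X.smallEtaleTopology AddCommGrpCat.{u + 1}).map_isZero ?_
  exact AddCommGrpCat.isZero_iff_subsingleton.2 inferInstance

end Groth.Agent.EtSh
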