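import Groth.Agent.EtSh.ConstStalk
import Groth.Agent.EtSh.FLC

/-!
# Finite locally constant sheaves through germs of sections
-/

set_option autoImplicit false
set_option backward.isDefEq.respectTransparency.types false

universe u

open CategoryTheory CategoryTheory.Limits AlgebraicGeometry Opposite

namespace Groth.Agent.EtSh

variable {X : Scheme.{u}}

/-- sections over `U` trivialising `F` on `U` -/
def Trivializes (F : EtCoh.Ab X) (U : X.Etale) (M : Type) [AddCommGroup M]
    (e : M →+ EtCoh.sect F U) : Prop :=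
  ∀ (Ω : Type u) [Field Ω] [IsSepClosed Ω] (ξ : Spec (CommRingCat.of Ω) ⟶ X) (t : Fib ξ U),
    Function.Bijective fun m => germ ξ F t (e m)

theorem trivializes_of_iso (F : EtCoh.Ab X) (U : X.Etale) (M : Type) [AddCommGroup M]
    [hj : Etale U.hom]
    (a : (EtShriek.restrAlong U.hom).obj F ≅ EtCoh.const U.left M) :
    ∃ e : M →+ EtCoh.sect F U, Trivializes F U M e := by
  let π : U ⟶ (EtShriek.compEtale U.hom).obj (EtCoh.top U.left) :=
    MorphismProperty.Over.homMk (𝟙 _) (by
      show 𝟙 _ ≫ 𝟙 _ ≫ U.hom = U.hom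
      rw [Category.id_comp, Category.id_comp])
  let M' : AddCommGrpCat.{u + 1} := AddCommGrpCat.of (ULift.{u + 1} M)
  let η : M' ⟶ (EtCoh.const U.left M).obj.obj (op (EtCoh.top U.left)) :=
    (EtCore.constAdj U.left).unit.app M'
  let s : ULift.{u + 1} M →+ EtCoh.sect F U :=
    ((F.obj.map π.op).hom.comp (a.inv.hom.app (op (EtCoh.top U.left))).hom).comp η.hom
  refine ⟨s.comp AddEquiv.ulift.symm.toAddMonoidHom, fun Ω _ _ ξ t => ?_⟩
  obtain ⟨tl, htl⟩ : ∃ tl : Spec (CommRingCat.of Ω) ⟶ U.left, tl = t.left := ⟨_, rfl⟩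
  obtain rfl : ξ = tl ≫ U.hom := by rw [htl]; exact (Over.w t).symm
  have e : ∀ m : M, germ (tl ≫ U.hom) F t (s (ULift.up m)) = restrGerm U.hom tl F
      ((EtCoh.stalk tl).map a.inv (constGerm tl M' (ULift.up m))) := by
    intro m
    rw [constGerm, ConcreteCategory.comp_apply, stalk_map_germ, restrGerm_germ]
    refine (germ_map F π t _).trans ?_
    exact congrArg (fun v => germ (tl ≫ U.hom) F v _)
      (Over.OverMorphism.ext ((Category.comp_id _).trans htl.symm))
  show Function.Bijective fun m => germ (tl ≫ U.hom) F t (s (ULift.up m))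
  rw [funext e]
  exact ((bijective_restrGerm U.hom tl F).comp
    (((ConcreteCategory.isIso_iff_bijective ((EtCoh.stalk tl).map a.inv)).1 inferInstance).comp
      (bijective_constGerm tl M'))).comp AddEquiv.ulift.symm.bijective

theorem iso_of_trivializes (F : EtCoh.Ab X) (U : X.Etale) (M : Type) [AddCommGroup M]
    [hj : Etale U.hom] {e : M →+ EtCoh.sect F U} (he : Trivializes F U M e) :
    Nonempty ((EtShriek.restrAlong U.hom).obj F ≅ EtCoh.const U.left M) := by
  let π : (EtShriek.compEtale U.hom).obj (EtCoh.top U.left) ⟶ U :=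
    MorphismProperty.Over.homMk (𝟙 _) (by
      show 𝟙 _ ≫ U.hom = 𝟙 _ ≫ U.hom
      rfl)
  let g : AddCommGrpCat.of (ULift.{u + 1} M) ⟶ (EtCore.gsec U.left).obj ((EtShriek.restrAlong U.hom).obj F) :=
    AddCommGrpCat.ofHom (((F.obj.map π.op).hom.comp e).comp AddEquiv.ulift.toAddMonoidHom)
  let α : EtCoh.const U.left M ⟶ (EtShriek.restrAlong U.hom).obj F :=
    ((EtCore.constAdj U.left).homEquiv _ _).symm g
  have : IsIso α := isIso_of_stalk α fun Ω _ _ ζ => by
    rw [ConcreteCategory.isIso_iff_bijective]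
    have hc := bijective_constGerm ζ (AddCommGrpCat.of (ULift.{u + 1} M))
    have hr := bijective_restrGerm U.hom ζ F
    let v : Fib (ζ ≫ U.hom) U := Over.homMk ζ rfl
    have key : ∀ m : ULift.{u + 1} M, restrGerm U.hom ζ F
        ((EtCoh.stalk ζ).map α (constGerm ζ (AddCommGrpCat.of (ULift.{u + 1} M)) m)) =
        germ (ζ ≫ U.hom) F v (e m.down) := by
      intro m
      rw [constGerm, ConcreteCategory.comp_apply, stalk_map_germ, restrGerm_germ]
      have h2 : (EtCore.constAdj U.left).unit.app _ ≫ (EtCore.gsec U.left).map α = g :=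
        ((EtCore.constAdj U.left).homEquiv_unit _ _ _).symm.trans (Equiv.apply_symm_apply _ _)
      refine (congrArg (germ (ζ ≫ U.hom) F (liftRestr U.hom ζ (topLift ζ)))
        (congrArg (fun k : AddCommGrpCat.of (ULift.{u + 1} M) ⟶
          (EtCore.gsec U.left).obj ((EtShriek.restrAlong U.hom).obj F) => k m) h2)).trans ?_
      refine (germ_map F π _ _).trans ?_
      exact congrArg (fun w => germ (ζ ≫ U.hom) F w (e m.down))
        (Over.OverMorphism.ext (Category.comp_id _))
    have hb : Function.Bijective fun m : ULift.{u + 1} M => restrGerm U.hom ζ F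
        ((EtCoh.stalk ζ).map α (constGerm ζ (AddCommGrpCat.of (ULift.{u + 1} M)) m)) := by
      rw [funext key]
      exact (he Ω (ζ ≫ U.hom) v).comp AddEquiv.ulift.bijective
    refine ⟨fun a b hab => ?_, fun y => ?_⟩
    · obtain ⟨a, rfl⟩ := hc.2 a
      obtain ⟨b, rfl⟩ := hc.2 b
      rw [hb.1 (congrArg (restrGerm U.hom ζ F) hab)]
    · obtain ⟨m, hm⟩ := hb.2 (restrGerm U.hom ζ F y)
      exact ⟨_, hr.1 hm⟩
  exact ⟨(asIso α).symm⟩

theorem trivializes_map {F : EtCoh.Ab X} {U U' : X.Etale} {M : Type} [AddCommGroup M]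
    {e : M →+ EtCoh.sect F U} (he : Trivializes F U M e) (g : U' ⟶ U) :
    Trivializes F U' M ((F.obj.map g.op).hom.comp e) := fun Ω _ _ ξ t => by
  show Function.Bijective fun m => germ ξ F t (F.obj.map g.op (e m))
  simp only [germ_map]
  exact he Ω ξ _

theorem isFLC_iff_trivializes (F : EtCoh.Ab X) :
    EtCoh.IsFiniteLocallyConstant F ↔ ∀ x : X, ∃ (U : X.Etale) (y : U.left) (_ : U.hom.base y = x)
      (M : Type) (_ : AddCommGroup M) (_ : Finite M) (e : M →+ EtCoh.sect F U), Trivializes F U M e := by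
  rw [isFLC_iff]
  constructor
  · rintro ⟨ι, U, hU, h⟩ x
    obtain ⟨i, y, hy⟩ := hU x
    obtain ⟨M, hM, hfin, ⟨a⟩⟩ := h i
    have : Etale (U i).hom := (U i).prop
    obtain ⟨e, he⟩ := trivializes_of_iso F (U i) M ((pullRestrIso (U i).hom).symm.app F ≪≫ a)
    exact ⟨U i, y, hy, M, hM, hfin, e, he⟩
  · intro h
    choose U y hy M hM hfin e he using h
    refine ⟨X, U, fun x => ⟨x, y x, hy x⟩, fun x => ⟨M x, hM x, hfin x, ?_⟩⟩
    have : Etale (U x).hom := (U x).prop
    obtain ⟨a⟩ := iso_of_trivializes F (U x) (M x) (he x)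
    exact ⟨(pullRestrIso (U x).hom).app F ≪≫ a⟩

end Groth.Agent.EtSh
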