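import Groth.Agent.EtSh.SectionsPush
import Groth.Agent.EtSh.FiniteBC
import Groth.Agent.EtSh.ConstructibleDescent
import Groth.Agent.EtSh.Constructible
import Groth.Agent.EtSh.FinGen
import Groth.Agent.EtSh.StalkCard
import Groth.Agent.EtSh.Strata
import Groth.Agent.ProConsLib.Scheme
import Groth.Agent.GrpSch.Homogeneous
import Groth.Agent.AlgSpc.LfpCancel

/-!
# Direct images of constructible sheaves along finite morphisms of finite presentation
-/

set_option autoImplicit false
set_option backward.isDefEq.respectTransparency.types false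

universe u

open CategoryTheory CategoryTheory.Limits AlgebraicGeometry Opposite Topology

namespace Groth.Agent.EtSh

open Groth.Agent.Weighting (GPts pt)

variable {X Y : Scheme.{u}}

/-- a finite morphism of finite presentation splitting given geometric points of a fibre -/
theorem exists_points_split (f : X ⟶ Y) [IsFinite f] [LocallyOfFinitePresentation f] {Ω : Type u} [Field Ω]
    (η : Spec (CommRingCat.of Ω) ⟶ Y) : ∀ {n : ℕ} (ξ : Fin n → GPts f η),
    ∃ (P : Scheme.{u}) (h : P ⟶ Y) (_ : IsFinite h) (_ : LocallyOfFinitePresentation h)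
      (π : Fin n → (P ⟶ X)) (ηP : Spec (CommRingCat.of Ω) ⟶ P),
      (∀ i, π i ≫ f = h) ∧ ηP ≫ h = η ∧ ∀ i, ηP ≫ π i = (ξ i).1 := by
  intro n
  induction n with
  | zero =>
    exact fun ξ => ⟨Y, 𝟙 Y, inferInstance, inferInstance, fun i => i.elim0, η, fun i => i.elim0,
      Category.comp_id _, fun i => i.elim0⟩
  | succ n ih =>
    intro ξ
    obtain ⟨P, h, _, _, π, ηP, hπ, hη, hξ⟩ := ih (ξ ∘ Fin.castSucc)
    have : IsFinite (pullback.fst h f) := MorphismProperty.pullback_fst _ _ ‹_›
    have : LocallyOfFinitePresentation (pullback.fst h f) := MorphismProperty.pullback_fst _ _ ‹_›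
    let ηQ := pullback.lift ηP (ξ (Fin.last n)).1 (hη.trans (ξ (Fin.last n)).2.symm)
    refine ⟨pullback h f, pullback.fst h f ≫ h, inferInstance, inferInstance,
      Fin.lastCases (pullback.snd h f) (fun i => pullback.fst h f ≫ π i), ηQ, fun i => ?_, ?_, fun i => ?_⟩
    · induction i using Fin.lastCases with
      | last => simp only [Fin.lastCases_last]; exact pullback.condition.symm
      | cast i => simp only [Fin.lastCases_castSucc, Category.assoc, hπ i]
    · rw [← Category.assoc, pullback.lift_fst, hη]
    · induction i using Fin.lastCases with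
      | last => simp only [Fin.lastCases_last]; exact pullback.lift_snd _ _ _
      | cast i => simp only [Fin.lastCases_castSucc, ηQ, pullback.lift_fst_assoc]; exact hξ i

/-- near each point the direct image becomes a sum of pullbacks -/
theorem exists_split_stratum [IsAffine Y] (f : X ⟶ Y) [IsFinite f] [LocallyOfFinitePresentation f]
    (F : EtCoh.Ab X) (hF : EtPBC.IsConstructible F) (y : Y) :
    ∃ (T : Scheme.{u}) (g : T ⟶ Y), CompactSpace T ∧ QuasiSeparatedSpace T ∧
      IsConstructible (Set.range g) ∧ y ∈ Set.range g ∧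
      EtPBC.IsConstructible ((EtCoh.pull g).obj ((EtCoh.push f).obj F)) := by
  classical
  obtain ⟨Ω, _, _, η, hη⟩ := Groth.Agent.Weighting.exists_geomPoint y
  have : Finite (GPts f η) := Groth.Agent.Weighting.finite_gpts f η (f.finite_preimage_singleton _)
  obtain ⟨n, ⟨e⟩⟩ := Finite.exists_equiv_fin (GPts f η)
  obtain ⟨P, h, _, _, π, ηP, hπ, hηP, hξ⟩ := exists_points_split f η e.symm
  have : CompactSpace P := QuasiCompact.compactSpace_of_compactSpace h
  have : QuasiSeparatedSpace P := quasiSeparatedSpace_of_quasiSeparated h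
  let q : pullback h f ⟶ P := pullback.fst h f
  have : IsFinite q := MorphismProperty.pullback_fst _ _ ‹_›
  have : LocallyOfFinitePresentation q := MorphismProperty.pullback_fst _ _ ‹_›
  have : CompactSpace ↥(pullback h f) := QuasiCompact.compactSpace_of_compactSpace q
  have : QuasiSeparatedSpace ↥(pullback h f) := quasiSeparatedSpace_of_quasiSeparated q
  let σ : ∀ i, P ⟶ pullback h f := fun i => pullback.lift (𝟙 P) (π i) ((Category.id_comp _).trans (hπ i).symm)
  have hσ : ∀ i, σ i ≫ q = 𝟙 P := fun i => pullback.lift_fst _ _ _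
  have hσc : ∀ i, IsClosedImmersion (σ i) := fun i => by
    have : IsClosedImmersion (σ i ≫ q) := by rw [hσ]; infer_instance
    exact IsClosedImmersion.of_comp (σ i) q
  have hσr : ∀ i, IsConstructible (Set.range (σ i)) := fun i => by
    have := hσc i
    have : LocallyOfFinitePresentation (σ i ≫ q) := by rw [hσ]; infer_instance
    have : LocallyOfFinitePresentation (σ i) := AlgSpc.lfp_of_comp (σ i) q
    rw [← Set.image_univ]
    exact (σ i).isConstructible_image IsConstructible.univ
  let Bad : Set P := q '' (⋃ i, Set.range (σ i))ᶜ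
  have hBad : IsConstructible Bad := q.isConstructible_image (IsConstructible.iUnion hσr).compl
  let E : Fin n → Fin n → Set P := fun i j => Set.range (pullback.snd (pullback.diagonal f)
    (pullback.lift (π i) (π j) ((hπ i).trans (hπ j).symm)))
  have hE : ∀ i j, IsConstructible (E i j) := fun i j => by
    have : LocallyOfFinitePresentation (pullback.diagonal f ≫ pullback.fst f f) := by
      rw [pullback.diagonal_fst]; infer_instance
    have : LocallyOfFinitePresentation (pullback.diagonal f) :=
      AlgSpc.lfp_of_comp (pullback.diagonal f) (pullback.fst f f)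
    let d := pullback.snd (pullback.diagonal f) (pullback.lift (π i) (π j) ((hπ i).trans (hπ j).symm))
    have : LocallyOfFinitePresentation d := MorphismProperty.pullback_snd _ _ ‹_›
    have : IsClosedImmersion d := MorphismProperty.pullback_snd _ _ inferInstance
    have : CompactSpace ↥(pullback (pullback.diagonal f) (pullback.lift (π i) (π j) ((hπ i).trans (hπ j).symm))) :=
      QuasiCompact.compactSpace_of_compactSpace d
    show IsConstructible (Set.range d)
    rw [← Set.image_univ]
    exact d.isConstructible_image IsConstructible.univ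
  have hmemE : ∀ {K : Type u} [Field K] (ζ : Spec (CommRingCat.of K) ⟶ P) i j,
      pt ζ ∈ E i j ↔ ζ ≫ π i = ζ ≫ π j := by
    intro K _ ζ i j
    constructor
    · intro hm
      obtain ⟨w, hw⟩ := exists_lift_immersion _ ζ
        (by convert hm using 2; exact Subsingleton.elim _ _)
      have h2 := congrArg (w ≫ ·) pullback.condition
      simp only [← Category.assoc, hw] at h2
      have a := congrArg (· ≫ pullback.fst f f) h2
      have b := congrArg (· ≫ pullback.snd f f) h2
      simp only [Category.assoc, pullback.diagonal_fst, pullback.diagonal_snd, pullback.lift_fst,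
        pullback.lift_snd, Category.comp_id] at a b
      exact a.symm.trans b
    · intro hm
      exact ⟨pt (pullback.lift (ζ ≫ π i) ζ (pullback.hom_ext (by simp only [Category.assoc, pullback.diagonal_fst, Category.comp_id]; exact (congrArg (ζ ≫ ·) (pullback.lift_fst _ _ _)).symm) (by simp only [Category.assoc, pullback.diagonal_snd, Category.comp_id]; exact hm.trans (congrArg (ζ ≫ ·) (pullback.lift_snd _ _ _)).symm)) :
        _ ⟶ pullback (pullback.diagonal f) (pullback.lift (π i) (π j) ((hπ i).trans (hπ j).symm))),
        (Groth.Agent.Weighting.pt_comp _ _).symm.trans (congrArg pt (pullback.lift_snd _ _ _))⟩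
  let Good : Set P := (Bad ∪ ⋃ (p : {p : Fin n × Fin n // p.1 ≠ p.2}), E p.1.1 p.1.2)ᶜ
  have hGood : IsConstructible Good := (hBad.union (IsConstructible.iUnion fun p => hE _ _)).compl
  have hy : pt ηP ∈ Good := by
    rintro (⟨z, hz, hzq⟩ | hm)
    · obtain ⟨x, hx⟩ := Groth.Agent.Weighting.exists_lift q ηP z hzq
      obtain ⟨i, hi⟩ := e.symm.surjective ⟨x.1 ≫ pullback.snd h f, by
        rw [Category.assoc, ← pullback.condition, ← Category.assoc, x.2, hηP]⟩
      have : ηP ≫ σ i = x.1 := pullback.hom_ext
        (by rw [Category.assoc, pullback.lift_fst, Category.comp_id]; exact x.2.symm)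
        (by rw [Category.assoc, pullback.lift_snd, hξ i, hi])
      refine hz (Set.mem_iUnion.2 ⟨i, ?_⟩)
      rw [← hx, ← this, Groth.Agent.Weighting.pt_comp]
      exact ⟨_, rfl⟩
    · obtain ⟨⟨⟨i, j⟩, hij⟩, hm⟩ := Set.mem_iUnion.1 hm
      have := (hmemE ηP i j).1 hm
      rw [hξ, hξ] at this
      exact hij (e.symm.injective (Subtype.ext this))
  obtain ⟨L, hL, -, hm⟩ := exists_cells hGood
  obtain ⟨⟨U, V⟩, hp, hyp⟩ := (hm _).1 hy
  obtain ⟨hU, hV⟩ := hL _ hp
  have hCc : IsConstructible (U \ V) :=
    (hU.2.isConstructible hU.1).sdiff (hV.2.isConstructible hV.1)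
  obtain ⟨T, j, _, hj⟩ := exists_immersion_of_isLocallyClosed
    (hU.1.isLocallyClosed.inter hV.1.isClosed_compl.isLocallyClosed : IsLocallyClosed (U \ V))
  have hjc : IsConstructible (Set.range j) := hj ▸ hCc
  have : CompactSpace T := by
    refine isCompact_univ_iff.1 (j.isEmbedding.isInducing.isCompact_iff.2 ?_)
    rw [Set.image_univ, hj]
    exact hU.2.isCompact.inter_right hV.1.isClosed_compl
  have : QuasiSeparatedSpace T := quasiSeparatedSpace_of_quasiSeparated j
  have hTG : Set.range j ⊆ Good := fun x hx => (hm x).2 ⟨_, hp, hj.le hx⟩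
  refine ⟨T, j ≫ h, ‹_›, ‹_›, ?_, ?_, ?_⟩
  · rw [Scheme.Hom.comp_base, TopCat.coe_comp, Set.range_comp]
    exact h.isConstructible_image hjc
  · obtain ⟨t, ht⟩ := hj.ge hyp
    refine ⟨t, ?_⟩
    rw [Scheme.Hom.comp_apply, ht, ← Groth.Agent.Weighting.pt_comp, hηP]
    exact hη
  · let fT := pullback.snd f (j ≫ h)
    have : IsFinite fT := MorphismProperty.pullback_snd _ _ ‹_›
    let s : Fin n → (T ⟶ pullback f (j ≫ h)) := fun i =>
      pullback.lift (j ≫ π i) (𝟙 T) (by rw [Category.assoc, hπ i, Category.id_comp])
    have hs : ∀ i, s i ≫ fT = 𝟙 T := fun i => pullback.lift_snd _ _ _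
    have := isIso_toPullSections fT s hs (fun K _ _ θ => by
      refine ⟨fun a b hab => ?_, fun x => ?_⟩
      · by_contra hne
        have h1 := congrArg (fun r => r.1 ≫ pullback.fst f (j ≫ h)) hab
        simp only [s, Category.assoc, pullback.lift_fst] at h1
        exact hTG ⟨pt θ, rfl⟩ (Or.inr (Set.mem_iUnion.2 ⟨⟨(a, b), hne⟩, (hmemE (θ ≫ j) a b).2 (by
          rw [Category.assoc, Category.assoc, h1])⟩))
      · let x' : Spec (CommRingCat.of K) ⟶ pullback h f := pullback.lift (θ ≫ j) (x.1 ≫ pullback.fst f (j ≫ h))
          (by rw [Category.assoc, Category.assoc, pullback.condition, ← Category.assoc x.1]; exact congrArg (· ≫ j ≫ h) x.2.symm)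
        by_cases hz : pt x' ∈ ⋃ i, Set.range (σ i)
        · obtain ⟨i, hi⟩ := Set.mem_iUnion.1 hz
          have := hσc i
          obtain ⟨w, hw⟩ := exists_lift_immersion (σ i) x'
            (by convert hi using 2; exact Subsingleton.elim _ _)
          have hw' : w = θ ≫ j := by
            have h1 : x' ≫ q = θ ≫ j := pullback.lift_fst _ _ _
            rw [← h1, ← hw, Category.assoc, hσ, Category.comp_id]
          refine ⟨i, Subtype.ext (pullback.hom_ext ?_ ?_)⟩
          · have h2 := congrArg (· ≫ pullback.snd h f) hw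
            simp only [σ, x', Category.assoc, pullback.lift_snd, hw'] at h2
            simp only [s, Category.assoc, pullback.lift_fst]
            exact h2
          · simp only [s, Category.assoc, pullback.lift_snd, Category.comp_id]
            exact x.2.symm
        · refine (hTG ⟨pt θ, rfl⟩ (Or.inl ⟨pt x', hz, ?_⟩)).elim
          rw [← Groth.Agent.Weighting.pt_comp]
          exact (congrArg pt (pullback.lift_fst _ _ _)).trans (Groth.Agent.Weighting.pt_comp _ _))
      ((EtCoh.pull (pullback.fst f (j ≫ h))).obj F)
    refine isConstructible_of_iso ((@asIso _ _ _ _ _ this).symm ≪≫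
      (@asIso _ _ _ _ _ (isIso_baseChange0_finite (IsPullback.of_hasPullback f (j ≫ h)) F)).symm) ?_
    exact isConstructible_biproduct _ fun i => isConstructible_pull (s i) (isConstructible_pull _ hF)

/-- direct images along finite morphisms of finite presentation preserve constructibility -/
theorem isConstructible_push_fp (f : X ⟶ Y) [IsFinite f] [LocallyOfFinitePresentation f] (F : EtCoh.Ab X)
    (hF : EtPBC.IsConstructible F) : EtPBC.IsConstructible ((EtCoh.push f).obj F) := by
  refine isConstructible_of_open_cover (fun V : Y.affineOpens => V.1) (iSup_affineOpens_eq_top Y) fun V => ?_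
  have : IsAffine V.1.toScheme := V.2
  have hsq := IsPullback.of_hasPullback f V.1.ι
  let f' := pullback.snd f V.1.ι
  have : IsFinite f' := MorphismProperty.pullback_snd _ _ ‹_›
  have : LocallyOfFinitePresentation f' := MorphismProperty.pullback_snd _ _ ‹_›
  refine isConstructible_of_iso (@asIso _ _ _ _ _ (isIso_baseChange0_finite hsq F)).symm ?_
  have hF' := isConstructible_pull (pullback.fst f V.1.ι) hF
  choose T g hTc hTs hr hmem hcon using exists_split_stratum f' _ hF'
  obtain ⟨J, hJ⟩ := ProConsLib.exists_finset_cover (F := Set.univ)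
    (ProConsLib.isPro_of_isLocallyConstructible IsLocallyConstructible.univ) (E := fun v => Set.range (g v))
    (fun v => ProConsLib.isInd_of_isLocallyConstructible (hr v).isLocallyConstructible)
    (fun v _ => Set.mem_iUnion.2 ⟨v, hmem v⟩)
  refine @isConstructible_of_pull _ _ _ (J : Type u) _ (fun v => T v.1) (fun v => hTc _) (fun v => hTs _)
    (fun v => g v.1) (fun v => ?_) _ fun v => hcon _
  obtain ⟨w, hw, hvw⟩ := Set.mem_iUnion₂.1 (hJ (Set.mem_univ v))
  exact ⟨⟨w, hw⟩, hvw⟩

end Groth.Agent.EtSh
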