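import Groth.Agent.EtSh.Generators
import Mathlib.CategoryTheory.Sites.DenseSubsite.SheafEquiv

/-!
# `j_! M` over the slice site and over the small étale site agree
-/

set_option autoImplicit false
set_option backward.isDefEq.respectTransparency.types false

universe u

open CategoryTheory CategoryTheory.Limits AlgebraicGeometry Opposite

namespace Groth.Agent.EtSh

variable {X : Scheme.{u}}

theorem nonempty_gen_iso_extZeroConst (U : X.Etale) (n : ℕ) :
    Nonempty (gen U n ≅ EtPBC.extZeroConst U (ZMod n)) := by
  have hj : Etale U.hom := U.prop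
  let P := (EtSh.toOver U).sheafPushforwardContinuous AddCommGrpCat.{u + 1} U.left.smallEtaleTopology
    (X.smallEtaleTopology.over U)
  have : P.IsEquivalence := inferInstance
  let adj : P.asEquivalence.inverse ⋙ EtPBC.extZero U ⊣
      X.smallEtaleTopology.overPullback AddCommGrpCat.{u + 1} U ⋙ P :=
    P.asEquivalence.symm.toAdjunction.comp (EtPBC.extZeroAdj U)
  let e : EtShriek.extZero U.hom ≅ P.asEquivalence.inverse ⋙ EtPBC.extZero U :=
    ((EtShriek.extZeroAdj U.hom).ofNatIsoRight (EtSh.overRestrIso U).symm).leftAdjointUniq adj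
  let a : (EtShriek.extZero U.hom).obj (EtCoh.const U.left (ZMod n)) ≅ EtPBC.extZeroConst U (ZMod n) :=
    (EtShriek.extZero U.hom).mapIso ((EtSh.overConstIso U).app _).symm ≪≫ e.app _ ≪≫
      (EtPBC.extZero U).mapIso (P.asEquivalence.unitIso.app (EtPBC.constOver U (ZMod n))).symm
  exact ⟨a⟩

end Groth.Agent.EtSh
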