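import Groth.Agent.EtSh.NoethSub
import Groth.Agent.S3116

/-!
# Subsheaves and quotients of constructible sheaves on Noetherian schemes
-/

set_option autoImplicit false
set_option backward.isDefEq.respectTransparency.types false

universe u

open CategoryTheory CategoryTheory.Limits AlgebraicGeometry Opposite

namespace Groth.Agent.EtSh

variable {X : Scheme.{u}}

/-- subsheaves of constructible sheaves on a Noetherian scheme are constructible -/
theorem isConstructible_of_mono [IsNoetherian X] {F G : EtCoh.Ab X} (ι : G ⟶ F) [Mono ι]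
    (hF : EtPBC.IsConstructible F) : EtPBC.IsConstructible G := by
  classical
  have key : ∀ x : X, ∃ (V : X.Opens) (c : ℕ), x ∈ V ∧ ∀ (Ω : Type u) [Field Ω] [IsSepClosed Ω]
      (ξ : Spec (CommRingCat.of Ω) ⟶ X), ξ.base default ∈ V → x ⤳ ξ.base default →
        Finite ((EtCoh.stalk ξ).obj G) ∧ Nat.card ((EtCoh.stalk ξ).obj G) = c := by
    intro x
    obtain ⟨V, Ω, _, _, ξ, hxV, hξ, h⟩ := EtSh.exists_card_sub_le hF x
    obtain ⟨hfinξ, hle⟩ := h G ι
    obtain ⟨V', hxV', hge⟩ := EtSh.exists_card_le G ξ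
    refine ⟨V ⊓ V', Nat.card ((EtCoh.stalk ξ).obj G), ⟨hxV, hξ ▸ hxV'⟩, fun Ω' _ _ ξ' hV hx => ?_⟩
    obtain ⟨hf, hl⟩ := hle Ω' ξ' hV.1 hx
    exact ⟨hf, le_antisymm hl (hge Ω' ξ' hV.2 (hξ.symm ▸ hx) hf)⟩
  choose V c hV hc using key
  refine (Groth.Agent.S3116.result X G fun Ω _ _ ξ => (hc _ Ω ξ (hV _) le_rfl).1).2 fun n x => ?_
  obtain ⟨U, hU, hxU, -⟩ := exists_isAffineOpen_mem_and_subset (x := x) (U := ⊤) trivial
  refine ⟨(U : Set X), U.2.mem_nhds hxU, U.2, ?_⟩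
  obtain ⟨t, htc, ht⟩ := EtSh.exists_finite_pieces hU V hV
  let E := fun a : X => (Subtype.val : ↥(U : Set X) → X) ⁻¹' ((V a : Set X) ∩ closure {a})
  have e : (Subtype.val : ↥(U : Set X) → X) ⁻¹' {x : X | ∃ (Ω : Type u) (_ : Field Ω) (_ : IsSepClosed Ω)
      (ξ : Spec (CommRingCat.of Ω) ⟶ X), Set.range ξ = {x} ∧ Nat.card ((EtCoh.stalk ξ).obj G) = n} =
      ⋃ a : {a // a ∈ t.filter (fun a => c a = n)}, E a.1 := by
    ext ⟨y, hy⟩
    constructor
    · rintro ⟨Ω, _, _, ξ, hξ, hn⟩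
      obtain ⟨a, ha, hya⟩ := Set.mem_iUnion₂.1 (ht hy)
      refine Set.mem_iUnion.2 ⟨⟨a, Finset.mem_filter.2 ⟨ha, ?_⟩⟩, hya⟩
      have hξy : ξ.base default = y := Set.eq_of_mem_singleton (hξ.le ⟨default, rfl⟩)
      rw [← (hc a Ω ξ (hξy.symm ▸ hya.1) (hξy.symm ▸ specializes_iff_mem_closure.2 hya.2)).2]
      exact hn
    · intro h
      obtain ⟨⟨a, ha⟩, hya⟩ := Set.mem_iUnion.1 h
      obtain ⟨Ω, _, _, ξ, hξ⟩ := EtSh.exists_geometric_point y
      have hξy : ξ.base default = y := Set.eq_of_mem_singleton (hξ.le ⟨default, rfl⟩)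
      exact ⟨Ω, inferInstance, inferInstance, ξ, hξ,
        (hc a Ω ξ (hξy.symm ▸ hya.1) (hξy.symm ▸ specializes_iff_mem_closure.2 hya.2)).2.trans
          (Finset.mem_filter.1 ha).2⟩
  exact e.symm ▸ Topology.IsConstructible.iUnion fun a => htc _ (Finset.mem_filter.1 a.2).1

/-- quotients of constructible sheaves on a Noetherian scheme are constructible -/
theorem isConstructible_of_epi [IsNoetherian X] {F Q : EtCoh.Ab X} (π : F ⟶ Q) [Epi π]
    (hF : EtPBC.IsConstructible F) : EtPBC.IsConstructible Q := by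
  have hK : EtPBC.IsConstructible (kernel π) := isConstructible_of_mono (kernel.ι π) hF
  have e : cokernel (kernel.ι π) ≅ Q :=
    IsColimit.coconePointUniqueUpToIso (cokernelIsCokernel (kernel.ι π))
      (Abelian.epiIsCokernelOfKernel _ (limit.isLimit _))
  intro U hU
  obtain ⟨m, T, g, hg, hc, hd, hu, hflc⟩ := (isConstructible_kernel_cokernel (kernel.ι π) hK hF).2 U hU
  exact ⟨m, T, g, hg, hc, hd, hu, fun i => isFLC_of_iso ((EtCoh.pull (g i)).mapIso e) (hflc i)⟩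

end Groth.Agent.EtSh
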