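import Groth.Agent.EtSh.ConstructibleSerre
import Groth.Agent.EtSh.Supp
import Groth.Agent.EtSh.StalkCard
import Groth.Agent.EtSh.Pull

/-!
# Supports of constructible sheaves
-/

set_option autoImplicit false
set_option backward.isDefEq.respectTransparency.types false

universe u

open CategoryTheory CategoryTheory.Limits AlgebraicGeometry Opposite Topology

namespace Groth.Agent.EtSh

variable {X Y : Scheme.{u}}

theorem mem_supp_iff (F : EtCoh.Ab X) {Ω : Type u} [Field Ω] [IsSepClosed Ω]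
    (ξ : Spec (CommRingCat.of Ω) ⟶ X) :
    ξ.base default ∈ EtPBC.supp F ↔ ¬ IsZero ((EtCoh.stalk ξ).obj F) := by
  rw [not_isZero_stalk_iff, supp_eq_iUnion]
  simp only [Set.mem_iUnion]
  exact Iff.rfl

theorem supp_pull (g : X ⟶ Y) (F : EtCoh.Ab Y) :
    EtPBC.supp ((EtCoh.pull g).obj F) = g ⁻¹' EtPBC.supp F := by
  ext x
  obtain ⟨Ω, _, _, ζ, hζ⟩ := exists_geometric_point x
  have hx : ζ.base default = x := Set.eq_of_mem_singleton (hζ.le ⟨default, rfl⟩)
  subst hx
  rw [mem_supp_iff]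
  show _ ↔ (ζ ≫ g).base default ∈ EtPBC.supp F
  rw [mem_supp_iff]
  exact not_congr ((stalkPullIso g ζ).app F).isZero_iff

theorem isClopen_supp_of_flc {F : EtCoh.Ab X} (h : EtCoh.IsFiniteLocallyConstant F) :
    IsClopen (EtPBC.supp F) := by
  suffices key : ∀ x, ∃ O : Set X, IsOpen O ∧ x ∈ O ∧ (O ⊆ EtPBC.supp F ∨ O ⊆ (EtPBC.supp F)ᶜ) by
    constructor
    · rw [← isOpen_compl_iff, isOpen_iff_forall_mem_open]
      intro x hx
      obtain ⟨O, hO, hxO, h1 | h2⟩ := key x
      · exact (hx (h1 hxO)).elim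
      · exact ⟨O, h2, hO, hxO⟩
    · rw [isOpen_iff_forall_mem_open]
      intro x hx
      obtain ⟨O, hO, hxO, h1 | h2⟩ := key x
      · exact ⟨O, h1, hO, hxO⟩
      · exact (h2 hxO hx).elim
  intro x
  obtain ⟨W, y, hy, M, _, _, e, he⟩ := (isFLC_iff_trivializes _).1 h x
  have : Etale W.hom := W.prop
  refine ⟨Set.range W.hom, W.hom.isOpenMap.isOpen_range, ⟨y, hy⟩, ?_⟩
  have main : ∀ z ∈ Set.range W.hom, z ∈ EtPBC.supp F ↔ Nontrivial M := by
    intro z ⟨w, hw⟩
    obtain ⟨Ω, _, _, ζ, hζ⟩ := exists_geometric_point z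
    have hz : ζ.base default = z := Set.eq_of_mem_singleton (hζ.le ⟨default, rfl⟩)
    subst hz
    obtain ⟨t, -⟩ := exists_fib (ξ := ζ) w hw
    rw [mem_supp_iff, AddCommGrpCat.isZero_iff_subsingleton, not_subsingleton_iff_nontrivial]
    exact ⟨fun _ => (Equiv.ofBijective _ (he Ω ζ t)).nontrivial,
      fun _ => (Equiv.ofBijective _ (he Ω ζ t)).symm.nontrivial⟩
  by_cases hM : Nontrivial M
  · exact Or.inl fun z hz => (main z hz).2 hM
  · exact Or.inr fun z hz h' => hM ((main z hz).1 h')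

theorem isConstructible_supp [CompactSpace X] [QuasiSeparatedSpace X] {F : EtCoh.Ab X}
    (hF : EtPBC.IsConstructible F) : IsConstructible (EtPBC.supp F) := by
  obtain ⟨m, T, g, hg, hc, -, hu, hflc⟩ := (isConstructible_iff_univ F).1 hF
  have e : EtPBC.supp F = ⋃ i, g i '' EtPBC.supp ((EtCoh.pull (g i)).obj F) := by
    refine Set.Subset.antisymm (fun x hx => ?_) (Set.iUnion_subset fun i => ?_)
    · obtain ⟨i, t, rfl⟩ := Set.mem_iUnion.1 (hu.ge (Set.mem_univ x))
      exact Set.mem_iUnion.2 ⟨i, t, (supp_pull (g i) F).ge hx, rfl⟩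
    · rw [supp_pull]
      exact Set.image_preimage_subset _ _
  rw [e]
  refine IsConstructible.iUnion fun i => ?_
  have := hg i
  have hc' : IsConstructible (Set.range (g i)) :=
    (hc i).preimage_of_isOpenEmbedding (f := (Homeomorph.Set.univ X).symm)
      (Homeomorph.Set.univ X).symm.isOpenEmbedding
  have : CompactSpace (T i) := compactSpace_of_isConstructible_range (g i) hc'
  have : QuasiSeparatedSpace (T i) := quasiSeparatedSpace_of_quasiSeparated (g i)
  obtain ⟨hcl, ho⟩ := isClopen_supp_of_flc (hflc i)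
  exact isConstructible_image_immersion (g i) hc' ((isRetrocompact_of_isCompact ho hcl.isCompact).isConstructible ho)

theorem isLocallyConstructible_supp {F : EtCoh.Ab X} (hF : EtPBC.IsConstructible F) :
    IsLocallyConstructible (EtPBC.supp F) := by
  intro x
  obtain ⟨U, hU, hxU, -⟩ := exists_isAffineOpen_mem_and_subset (x := x) (U := ⊤) trivial
  have : IsAffine U.toScheme := hU
  refine ⟨U, U.2.mem_nhds hxU, U.2, ?_⟩
  have h := isConstructible_supp (isConstructible_pull U.ι hF)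
  rw [supp_pull] at h
  exact h

theorem isZero_stalk_cokernel_iff {F G : EtCoh.Ab X} (φ : F ⟶ G) {Ω : Type u} [Field Ω] [IsSepClosed Ω]
    (ξ : Spec (CommRingCat.of Ω) ⟶ X) :
    IsZero ((EtCoh.stalk ξ).obj (cokernel φ)) ↔ Function.Surjective ((EtCoh.stalk ξ).map φ) := by
  have : PreservesColimitsOfSize.{0, 0} (EtCoh.stalk ξ) :=
    (Scheme.pointSmallEtale ξ).skyscraperSheafAdjunction.leftAdjoint_preservesColimits
  rw [(PreservesCokernel.iso (EtCoh.stalk ξ) φ).isZero_iff, ← AddCommGrpCat.epi_iff_surjective]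
  exact ⟨fun h => Preadditive.epi_of_isZero_cokernel _ h, fun h => isZero_cokernel_of_epi _⟩

theorem isConstructible_surjective_locus [CompactSpace X] [QuasiSeparatedSpace X] {F G : EtCoh.Ab X}
    (φ : F ⟶ G) (hF : EtPBC.IsConstructible F) (hG : EtPBC.IsConstructible G) :
    IsConstructible {x : X | ∀ (Ω : Type u) [Field Ω] [IsSepClosed Ω]
      (ξ : Spec (CommRingCat.of Ω) ⟶ X), Set.range ξ = {x} →
        Function.Surjective ((EtCoh.stalk ξ).map φ)} := by
  convert (isConstructible_supp (isConstructible_kernel_cokernel φ hF hG).2).compl using 1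
  ext x
  constructor
  · intro h hx
    obtain ⟨Ω, _, _, ξ, hξ⟩ := exists_geometric_point x
    rw [← Set.eq_of_mem_singleton (hξ.le ⟨default, rfl⟩), mem_supp_iff, isZero_stalk_cokernel_iff] at hx
    exact hx (h Ω ξ hξ)
  · intro h Ω _ _ ξ hξ
    rw [← isZero_stalk_cokernel_iff]
    by_contra hz
    exact h (by rw [← Set.eq_of_mem_singleton (hξ.le ⟨default, rfl⟩), mem_supp_iff]; exact hz)

end Groth.Agent.EtSh
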