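import Groth.Agent.EtSh.IndConstructible
import Groth.Agent.EtSh.SectionsColim
import Groth.Agent.EtSh.FinGen
import Groth.Agent.EtSh.SuppConstr
import Groth.Agent.EtSh.NoethSerre
import Groth.Agent.Spectral.Basic
import Mathlib.CategoryTheory.Filtered.Final

/-!
# Torsion sheaves as colimits of constructible sheaves with small support
-/

noncomputable section

set_option autoImplicit false
set_option backward.isDefEq.respectTransparency.types false

universe u

open CategoryTheory CategoryTheory.Limits AlgebraicGeometry Opposite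

namespace Groth.Agent.EtSh

variable {X : Scheme.{u}} [CompactSpace X] [QuasiSeparatedSpace X]

omit [CompactSpace X] [QuasiSeparatedSpace X] in
theorem exists_cval_iso_biproduct : ∀ {m : ℕ} (f : Fin m → EtCoh.Ab X),
    (∀ i, ∃ c, Nonempty (cval X c ≅ f i)) → ∃ c, Nonempty (cval X c ≅ ⨁ f) := by
  intro m
  induction m with
  | zero =>
    exact fun f _ => ⟨⟨0, none⟩, ⟨IsZero.iso (isZero_zero _)
      ((IsZero.iff_id_eq_zero _).2 (biproduct.hom_ext _ _ fun i => i.elim0))⟩⟩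
  | succ m ih =>
    intro f hf
    obtain ⟨c₀, ⟨e₀⟩⟩ := hf 0
    obtain ⟨c₁, ⟨e₁⟩⟩ := ih (fun i => f i.succ) fun i => hf _
    obtain ⟨c, ⟨e⟩⟩ := exists_sum c₀ c₁
    let e' : f 0 ⊞ (⨁ fun i : Fin m => f i.succ) ≅ ⨁ f :=
      { hom := biprod.desc (biproduct.ι f 0) (biproduct.desc fun i => biproduct.ι f i.succ)
        inv := biproduct.desc (Fin.cases biprod.inl fun i => biproduct.ι (fun i : Fin m => f i.succ) i ≫ biprod.inr)
        hom_inv_id := by
          refine biprod.hom_ext' _ _ (by simp) (biproduct.hom_ext' _ _ fun i => by simp)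
        inv_hom_id := biproduct.hom_ext' _ _ (Fin.cases (by simp) fun i => by simp) }
    exact ⟨c, ⟨e ≪≫ biprod.mapIso e₀ e₁ ≪≫ e'⟩⟩

/-- every constructible sheaf occurs in the small family -/
theorem exists_cval_iso (G : EtCoh.Ab X) (hG : EtPBC.IsConstructible G) : ∃ c, Nonempty (cval X c ≅ G) := by
  have hQ : ∀ (H : EtCoh.Ab X), EtPBC.IsConstructible H → ∀ (Ω : Type u) [Field Ω] [IsSepClosed Ω]
      (ξ : Spec (CommRingCat.of Ω) ⟶ X) (p : ↑((EtCoh.stalk ξ).obj H)), ∃ n, 0 < n ∧ True ∧ n • p = 0 := by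
    intro H hH Ω _ _ ξ p
    haveI := finite_stalk hH ξ
    exact ⟨_, Nat.card_pos, trivial, card_nsmul_eq_zero'⟩
  have hgens : ∀ P : Gens X, ∃ c, Nonempty (cval X c ≅ P.sheaf) := fun P =>
    exists_cval_iso_biproduct _ fun i =>
      ⟨⟨0, some (⟨P.W i, P.affine i⟩, ⟨P.n i, (P.pos i).out⟩)⟩, ⟨Iso.refl _⟩⟩
  obtain ⟨P, φ, _, -⟩ := exists_gens_epi G hG (fun _ => True) (hQ G hG)
  obtain ⟨P', ψ, _, -⟩ := exists_gens_epi (kernel φ) (isConstructible_kernel_cokernel φ P.isConstructible hG).1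
    (fun _ => True) (hQ _ (isConstructible_kernel_cokernel φ P.isConstructible hG).1)
  obtain ⟨a, ⟨ea⟩⟩ := hgens P'
  obtain ⟨b, ⟨eb⟩⟩ := hgens P
  obtain ⟨c, ⟨ec⟩⟩ := exists_coker a b (ea.hom ≫ (ψ ≫ kernel.ι φ) ≫ eb.inv)
  let S := ShortComplex.mk (ψ ≫ kernel.ι φ) φ (by rw [Category.assoc, kernel.condition, comp_zero])
  have hS : S.Exact := by
    refine (ShortComplex.exact_iff_of_epi_of_isIso_of_mono
      (S₁ := S) (S₂ := ShortComplex.mk (kernel.ι φ) φ (kernel.condition φ))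
      { τ₁ := ψ, τ₂ := 𝟙 _, τ₃ := 𝟙 _ }).2 (ShortComplex.exact_of_f_is_kernel _ (kernelIsKernel φ))
  haveI : Epi S.g := ‹Epi φ›
  exact ⟨c, ⟨ec ≪≫ cokernel.mapIso _ (ψ ≫ kernel.ι φ) ea eb (by simp) ≪≫
    (colimit.isColimit _).coconePointUniqueUpToIso hS.gIsCokernel⟩⟩

variable (F : EtCoh.Ab X) (Cond : Set X → Prop)

/-- indices with small support -/
abbrev SuppIdx : ObjectProperty (IndIdx F) := fun j =>
  ∃ Z : Set X, IsClosed Z ∧ Cond Z ∧ EtPBC.supp (cval X j.left) ⊆ Z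

theorem exists_colimit_supported (hF : EtCoh.IsTorsion F)
    (hstep : ∀ j : IndIdx F, ∃ (G : EtCoh.Ab X) (p : cval X j.left ⟶ G) (h : G ⟶ F),
      EtPBC.IsConstructible G ∧ p ≫ h = j.hom ∧ ∃ Z : Set X, IsClosed Z ∧ Cond Z ∧ EtPBC.supp G ⊆ Z) :
    ∃ (J : Type (u + 1)) (_ : SmallCategory J) (_ : IsFiltered J) (D : J ⥤ EtCoh.Ab X)
      (c : Cocone D) (_ : IsColimit c), Nonempty (c.pt ≅ F) ∧
      ∀ j, EtPBC.IsConstructible (D.obj j) ∧
        ∃ Z : Set X, IsClosed Z ∧ Cond Z ∧ EtPBC.supp (D.obj j) ⊆ Z := by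
  have suppIso : ∀ {A B : EtCoh.Ab X}, (A ≅ B) → EtPBC.supp A ⊆ EtPBC.supp B := by
    intro A B e x hx
    obtain ⟨Ω, _, _, ξ, hξ⟩ := exists_geometric_point x
    have hξx : ξ.base default = x := Set.eq_of_mem_singleton (hξ.le ⟨default, rfl⟩)
    rw [← hξx, mem_supp_iff] at hx ⊢
    exact fun hz => hx (hz.of_iso ((EtCoh.stalk ξ).mapIso e))
  have key : ∀ j : IndIdx F, ∃ k : (SuppIdx F Cond).FullSubcategory, Nonempty (j ⟶ (SuppIdx F Cond).ι.obj k) := by
    intro j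
    obtain ⟨G, p, h, hG, hph, Z, hZ, hC, hsub⟩ := hstep j
    obtain ⟨c, ⟨e⟩⟩ := exists_cval_iso G hG
    obtain ⟨k, e', hk⟩ := exists_arrow F c e h
    refine ⟨⟨k, Z, hZ, hC, (suppIso e').trans hsub⟩, ⟨CostructuredArrow.homMk (InducedCategory.homMk (p ≫ e'.inv)) ?_⟩⟩
    show (p ≫ e'.inv) ≫ k.hom = j.hom
    rw [hk, Category.assoc, Iso.inv_hom_id_assoc, hph]
  haveI : IsFiltered (SuppIdx F Cond).FullSubcategory :=
    IsFiltered.of_exists_of_isFiltered_of_fullyFaithful (SuppIdx F Cond).ι key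
  haveI : (SuppIdx F Cond).ι.Final :=
    Functor.final_of_exists_of_isFiltered_of_fullyFaithful (SuppIdx F Cond).ι key
  refine ⟨(SuppIdx F Cond).FullSubcategory, inferInstance, inferInstance, (SuppIdx F Cond).ι ⋙ indDiagram F,
    colimit.cocone _, colimit.isColimit _, ?_, fun k => ⟨isConstructible_cval k.obj.left, k.property⟩⟩
  exact ⟨Functor.Final.colimitIso (SuppIdx F Cond).ι (indDiagram F) ≪≫
    @asIso _ _ _ _ (colimit.desc (indDiagram F) (indCocone F)) (isIso_desc F hF)⟩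

omit [CompactSpace X] [QuasiSeparatedSpace X] in
theorem supp_subset_of_mono {G H : EtCoh.Ab X} (ι : G ⟶ H) [Mono ι] : EtPBC.supp G ⊆ EtPBC.supp H := by
  intro x hx
  obtain ⟨Ω, _, _, ξ, hξ⟩ := exists_geometric_point x
  have hξx : ξ.base default = x := Set.eq_of_mem_singleton (hξ.le ⟨default, rfl⟩)
  rw [← hξx, mem_supp_iff] at hx ⊢
  haveI : Mono ((EtCoh.stalk ξ).map ι) := (AddCommGrpCat.mono_iff_injective _).2 (stalk_map_injective ι)
  exact fun hz => hx (IsZero.of_mono_eq_zero ((EtCoh.stalk ξ).map ι) (hz.eq_of_tgt _ _))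

/-- closures of constructible sets consist of specializations -/
theorem exists_specializes_of_mem_closure_constructible {S : Set X} (hS : Topology.IsConstructible S) {x : X}
    (hx : x ∈ closure S) : ∃ e ∈ S, e ⤳ x :=
  Spectral.exists_specializes_of_mem_closure (Spectral.isClopen_con_of_isConstructible hS).1 hx

end Groth.Agent.EtSh
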