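import Groth.Agent.IndEt.Retract
import Groth.Agent.S0693
import Groth.Agent.Hensel.Pairs
import Groth.Agent.Hensel.Local
import Groth.Agent.Hensel.Henselization
import Groth.Agent.WLoc.Square
import Mathlib.FieldTheory.PurelyInseparable.Basic

/-!
# Étale coverings of integral algebras split étale locally on the base
-/

set_option autoImplicit false
set_option backward.isDefEq.respectTransparency false

universe u

open TensorProduct IsLocalRing

namespace Groth.Agent.EtSh

/-- localizations factor through étale algebras -/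
theorem etFactors_localization {A B : Type u} [CommRing A] [CommRing B] [Algebra A B] (M : Submonoid A)
    [IsLocalization M B] : IndEt.EtFactors A B := fun C _ _ _ g => by
  obtain ⟨s, -, u, v, huv⟩ := IndEt.exists_stage_localization M C g
  exact ⟨Localization.Away s, inferInstance, inferInstance, Algebra.Etale.of_isLocalizationAway s,
    u, v, huv⟩

/-- a strictly henselian local ring over a prime, ind-étale over the base -/
theorem exists_strictlyHenselian_over (A : Type u) [CommRing A] (P : Ideal A) [P.IsPrime] :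
    ∃ (B : Type u) (_ : CommRing B) (_ : Algebra A B) (_ : HenselianLocalRing B),
      IsSepClosed (ResidueField B) ∧ (maximalIdeal B).comap (algebraMap A B) = P ∧
        IndEt.EtFactors A B := by
  let R := Localization.AtPrime P
  obtain ⟨C, _, _, hff, het, hret⟩ := Groth.Agent.S0693.result R
  obtain ⟨⟨q, hq⟩, hqm⟩ := PrimeSpectrum.comap_surjective_of_faithfullyFlat (A := R) (B := C)
    ⟨maximalIdeal R, inferInstance⟩
  obtain ⟨m, hm, hqle⟩ := Ideal.exists_le_maximal q hq.ne_top
  have hmR : m.comap (algebraMap R C) = maximalIdeal R :=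
    ((maximalIdeal.isMaximal R).eq_of_le (Ideal.IsPrime.ne_top inferInstance)
      ((congrArg PrimeSpectrum.asIdeal hqm).ge.trans (Ideal.comap_mono hqle))).symm
  let B := Localization.AtPrime m
  obtain ⟨hh, hk⟩ := IndEt.isStrictlyHenselian_atPrime hret m
  let : Algebra A C := ((algebraMap R C).comp (algebraMap A R)).toAlgebra
  have : IsScalarTower A R C := .of_algebraMap_eq' rfl
  refine ⟨B, inferInstance, inferInstance, hh, hk, ?_,
    ((etFactors_localization (B := R) P.primeCompl).trans (IndEt.etFactors_of_isIndEtale het)).trans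
      (etFactors_localization (B := B) m.primeCompl)⟩
  rw [IsScalarTower.algebraMap_eq A C B, ← Ideal.comap_comap,
    show (maximalIdeal B).comap (algebraMap C B) = m from IsLocalization.AtPrime.under_maximalIdeal B m,
    IsScalarTower.algebraMap_eq A R C, ← Ideal.comap_comap, hmR]
  exact IsLocalization.AtPrime.under_maximalIdeal R P

/-- an element generates an idempotent in a zero-dimensional ring -/
theorem exists_idem_of_dim_zero {C : Type u} [CommRing C] [Ring.KrullDimLE 0 C] (s : C) :
    ∃ e : C, IsIdempotentElem e ∧ (∀ p : Ideal C, p.IsPrime → s ∉ p → e ∉ p) ∧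
      IsUnit (Ideal.Quotient.mk (Ideal.span {1 - e}) s) := by
  obtain ⟨n, x, r, hx, hr⟩ : ∃ (n : ℕ) (x r : C), x * s ^ n = 0 ∧ x + r * s = 1 := by
    by_contra hc
    push Not at hc
    let J : Ideal C :=
      { carrier := {y | ∃ (n : ℕ) (x r : C), x * s ^ n = 0 ∧ y = x + r * s}
        add_mem' := by
          rintro y z ⟨n, x, r, hx, rfl⟩ ⟨n', x', r', hx', rfl⟩
          refine ⟨n + n', x + x', r + r', ?_, by ring⟩
          rw [pow_add]
          linear_combination s ^ n' * hx + s ^ n * hx'
        zero_mem' := ⟨0, 0, 0, by simp, by simp⟩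
        smul_mem' := by
          rintro c y ⟨n, x, r, hx, rfl⟩
          exact ⟨n, c * x, c * r, by rw [mul_assoc, hx, mul_zero], by simp [mul_add, mul_assoc]⟩ }
    have hJ : J ≠ ⊤ := fun h => by
      obtain ⟨n, x, r, hx, h1⟩ := h.ge (Submodule.mem_top : (1 : C) ∈ _)
      exact hc n x r hx h1.symm
    obtain ⟨m, hm, hJm⟩ := Ideal.exists_le_maximal J hJ
    have hsm : s ∈ m := hJm ⟨0, 0, 1, by simp, by simp⟩
    have hnil : IsNilpotent (algebraMap C (Localization.AtPrime m) s) := by
      rw [← mem_nilradical, nilradical_eq_sInf, Submodule.mem_sInf]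
      intro (Q : Ideal _) hQ
      have : Q.IsPrime := hQ
      have hle : Q.comap (algebraMap C (Localization.AtPrime m)) ≤ m := by
        refine (Ideal.comap_mono (IsLocalRing.le_maximalIdeal ‹Q.IsPrime›.ne_top)).trans ?_
        exact (IsLocalization.AtPrime.under_maximalIdeal _ m).le
      have := ((Ideal.IsPrime.isMaximal' (R := C) (I := Q.comap (algebraMap C _)) inferInstance)).eq_of_le
        hm.ne_top hle
      exact this.ge hsm
    obtain ⟨n, hn⟩ := hnil
    rw [← map_pow, IsLocalization.map_eq_zero_iff m.primeCompl] at hn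
    obtain ⟨⟨t, ht⟩, htn⟩ := hn
    exact ht (hJm ⟨n, t, 0, htn, by simp⟩)
  have hs : s ^ (n + 1) = r * s ^ (n + 2) := by
    linear_combination (-(s ^ (n + 1))) * hr + s * hx
  have hsk : ∀ k, s ^ (n + 1) = r ^ k * s ^ (n + 1 + k) := fun k => by
    induction k with
    | zero => simp
    | succ k ih =>
      calc s ^ (n + 1) = r ^ k * (s ^ (n + 1) * s ^ k) := by rw [← pow_add]; exact ih
        _ = r ^ k * (r * s ^ (n + 2) * s ^ k) := by rw [← hs]
        _ = r ^ (k + 1) * s ^ (n + 1 + (k + 1)) := by ring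
  refine ⟨r ^ (n + 1) * s ^ (n + 1), ?_, fun p hp hsp he => ?_, ?_⟩
  · change _ * _ = _
    conv_rhs => rw [hsk (n + 1)]
    ring
  · refine hsp (hp.mem_of_pow_mem (n + 1) ?_)
    rw [hsk (n + 1), show r ^ (n + 1) * s ^ (n + 1 + (n + 1)) = r ^ (n + 1) * s ^ (n + 1) * s ^ (n + 1) by ring]
    exact Ideal.mul_mem_right _ _ he
  · refine .of_mul_eq_one (Ideal.Quotient.mk _ (r ^ (n + 1) * s ^ n)) ?_
    rw [← map_mul, ← map_one (Ideal.Quotient.mk _), Ideal.Quotient.eq, Ideal.mem_span_singleton']
    exact ⟨-1, by ring⟩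

/-- étale coverings of zero-dimensional rings with separably closed residue fields split -/
theorem exists_section_dim_zero {C D : Type u} [CommRing C] [Ring.KrullDimLE 0 C] [CommRing D]
    [Algebra C D] [Algebra.Etale C D] (hk : ∀ (p : Ideal C) [p.IsPrime], IsSepClosed p.ResidueField)
    (hD : Function.Surjective (PrimeSpectrum.comap (algebraMap C D))) : Nonempty (D →ₐ[C] C) := by
  classical
  have key : ∀ p : PrimeSpectrum C, ∃ e : C, IsIdempotentElem e ∧ e ∉ p.asIdeal ∧
      Nonempty (D →ₐ[C] C ⧸ Ideal.span {1 - e}) := fun p => by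
    obtain ⟨q, rfl⟩ := hD p
    set p := (PrimeSpectrum.comap (algebraMap C D) q).asIdeal
    have : q.asIdeal.LiesOver p := ⟨rfl⟩
    let := Localization.AtPrime.algebraOfLiesOver p q.asIdeal
    let κ := p.ResidueField
    have := hk p
    let σ : D →ₐ[C] q.asIdeal.ResidueField := IsScalarTower.toAlgHom C D _
    let σ' : κ ⊗[C] D →ₐ[κ] q.asIdeal.ResidueField :=
      Algebra.TensorProduct.lift (Algebra.ofId κ _) σ fun _ _ => .all _ _
    have hv : ∀ x, ∃ c : κ, algebraMap κ q.asIdeal.ResidueField c = σ x := fun x => by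
      obtain ⟨c, hc⟩ := Hensel.exists_algebraMap_eq_of_unramified σ' ((1 : κ) ⊗ₜ x)
      exact ⟨c, hc.trans (by simp [σ'])⟩
    choose c hc using hv
    have hinj := (algebraMap κ q.asIdeal.ResidueField).injective
    let σκ : D →ₐ[C] κ :=
      { toFun := c
        map_one' := hinj (by rw [hc, map_one, map_one])
        map_mul' := fun x y => hinj (by rw [hc, map_mul, map_mul, hc, hc])
        map_zero' := hinj (by rw [hc, map_zero, map_zero])
        map_add' := fun x y => hinj (by rw [hc, map_add, map_add, hc, hc])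
        commutes' := fun r => hinj (by
          rw [hc, AlgHom.commutes, ← IsScalarTower.algebraMap_apply]) }
    have : HenselianLocalRing (Localization.AtPrime p) := Hensel.henselianLocalRing_of_dim_zero (by
      rw [IsLocalization.AtPrime.ringKrullDim_eq_height p,
        Ideal.height_eq_zero_iff.mpr (Ideal.mem_minimalPrimes_iff_isPrime.mpr inferInstance)]
      rfl)
    obtain ⟨τ, -, -⟩ := Hensel.existsUnique_algHom_of_residueField D σκ
    obtain ⟨s, hs, u, -, -⟩ := IndEt.exists_stage_localization p.primeCompl D τ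
    obtain ⟨e, he, hep, hsu⟩ := exists_idem_of_dim_zero s
    refine ⟨e, he, hep p inferInstance hs, ⟨?_⟩⟩
    let : Algebra (Localization.Away s) (C ⧸ Ideal.span {1 - e}) :=
      (IsLocalization.Away.lift s (g := algebraMap C (C ⧸ Ideal.span {1 - e})) hsu).toAlgebra
    exact AlgHom.comp
      { toRingHom := algebraMap (Localization.Away s) (C ⧸ Ideal.span {1 - e})
        commutes' := fun r => IsLocalization.Away.lift_eq s hsu r } u
  choose e he hep hφ using key
  obtain ⟨T, hT⟩ := isCompact_univ.elim_finite_subcover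
    (fun p => (PrimeSpectrum.basicOpen (e p) : Set (PrimeSpectrum C)))
    (fun p => (PrimeSpectrum.basicOpen (e p)).2) fun p _ => Set.mem_iUnion.2 ⟨p, hep p⟩
  let n := T.card
  let ε : Fin n → PrimeSpectrum C := fun i => (T.equivFin.symm i).1
  let f : Fin n → C := fun i => e (ε i) * ∏ j ∈ Finset.Iio i, (1 - e (ε j))
  have hprod : ∏ i, (1 - e (ε i)) = 0 := by
    have hid : IsIdempotentElem (∏ i, (1 - e (ε i))) := by
      change _ * _ = _
      rw [← Finset.prod_mul_distrib]
      exact Finset.prod_congr rfl fun i _ => (he _).one_sub.eq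
    refine hid.eq_zero_of_isNilpotent ?_
    rw [← mem_nilradical, nilradical_eq_sInf, Submodule.mem_sInf]
    intro (Q : Ideal _) hQ
    have : Q.IsPrime := hQ
    obtain ⟨p, hp, hpQ⟩ := Set.mem_iUnion₂.1 (hT (Set.mem_univ (⟨Q, hQ⟩ : PrimeSpectrum C)))
    refine Q.mem_of_dvd (Finset.dvd_prod_of_mem _ (Finset.mem_univ (T.equivFin ⟨p, hp⟩))) ?_
    have : ε (T.equivFin ⟨p, hp⟩) = p := by simp [ε]
    rw [this]
    exact (hQ.mem_or_mem (by rw [mul_sub, mul_one, (he p).eq, sub_self]; exact Q.zero_mem)).resolve_left hpQ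
  have hf : CompleteOrthogonalIdempotents f := by
    refine ⟨⟨fun i => ?_, ?_⟩, ?_⟩
    · change _ * _ = _
      rw [mul_mul_mul_comm, (he _).eq, ← Finset.prod_mul_distrib]
      exact congrArg _ (Finset.prod_congr rfl fun j _ => (he _).one_sub.eq)
    · intro i j hij
      wlog hlt : i < j generalizing i j
      · exact (mul_comm _ _).trans (this (Ne.symm hij) (lt_of_le_of_ne (not_lt.1 hlt) (Ne.symm hij)))
      simp only [f]
      rw [← Finset.mul_prod_erase (Finset.Iio j) (fun k => 1 - e (ε k)) (Finset.mem_Iio.2 hlt)]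
      have h0 : e (ε i) * (1 - e (ε i)) = 0 := (he _).mul_one_sub_self
      linear_combination (∏ k ∈ Finset.Iio i, (1 - e (ε k))) * e (ε j) *
        (∏ k ∈ (Finset.Iio j).erase i, (1 - e (ε k))) * h0
    · have := Finset.prod_one_sub_ordered Finset.univ fun i => e (ε i)
      rw [hprod] at this
      have h2 := sub_eq_zero.1 this.symm
      refine Eq.trans ?_ h2.symm
      exact Finset.sum_congr rfl fun i _ => by
        simp only [f]; congr 1; exact Finset.prod_congr (by ext; simp) fun _ _ => rfl
  have hle : ∀ i, Ideal.span {1 - e (ε i)} ≤ Ideal.span {1 - f i} := fun i => by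
    rw [Ideal.span_singleton_le_span_singleton]
    refine ⟨1 - e (ε i), ?_⟩
    have h0 : e (ε i) * (1 - e (ε i)) = 0 := (he _).mul_one_sub_self
    simp only [f]
    linear_combination (∏ j ∈ Finset.Iio i, (1 - e (ε j))) * h0
  let E := RingEquiv.ofBijective _ hf.bijective_pi
  let Φ : ∀ i, D →ₐ[C] C ⧸ Ideal.span {1 - f i} := fun i =>
    (Ideal.Quotient.factorₐ C (hle i)).comp (hφ (ε i)).some
  refine ⟨{ toRingHom := E.symm.toRingHom.comp (RingHom.pi fun i => (Φ i).toRingHom)
            commutes' := fun r => ?_ }⟩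
  change E.symm _ = r
  rw [RingEquiv.symm_apply_eq]
  funext i
  exact (Φ i).commutes r

/-- étale coverings of integral algebras over strictly henselian local rings split -/
theorem exists_section_of_isIntegral {B C D : Type u} [CommRing B] [HenselianLocalRing B]
    [IsSepClosed (ResidueField B)] [CommRing C] [Algebra B C] [Algebra.IsIntegral B C] [CommRing D]
    [Algebra C D] [Algebra.Etale C D]
    (hD : ∀ M : Ideal C, M.IsMaximal →
      ∃ Q : Ideal D, Q.IsPrime ∧ Q.comap (algebraMap C D) = M) : Nonempty (D →ₐ[C] C) := by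
  let I := (maximalIdeal B).map (algebraMap B C)
  have : HenselianRing B (maximalIdeal B) := Hensel.henselianLocalRing_iff_henselianRing.mp inferInstance
  have hI : HenselianRing C I := Hensel.henselianRing_of_isIntegral C
  let C₀ := C ⧸ I
  let : Algebra (ResidueField B) C₀ :=
    (Ideal.quotientMap I (algebraMap B C) Ideal.le_comap_map).toAlgebra
  have : IsScalarTower B (ResidueField B) C₀ := .of_algebraMap_eq fun _ => rfl
  have : Algebra.IsIntegral (ResidueField B) C₀ := .tower_top (R := B)
  have : Ring.KrullDimLE 0 C₀ := .mk₀ fun p hp =>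
    Ideal.isMaximal_of_isIntegral_of_isMaximal_comap (R := ResidueField B) p (by
      rw [Ideal.eq_bot_of_prime (p.comap (algebraMap (ResidueField B) C₀))]
      exact Ideal.bot_isMaximal)
  have hk : ∀ (p : Ideal C₀) [p.IsPrime], IsSepClosed p.ResidueField := fun p _ => by
    have : Algebra.IsIntegral (ResidueField B) (C₀ ⧸ p) := .tower_top (R := B)
    have : p.IsMaximal := inferInstance
    have halg : Algebra.IsAlgebraic (ResidueField B) (C₀ ⧸ p) := Algebra.IsIntegral.isAlgebraic
    let := Ideal.Quotient.field p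
    have := @Algebra.IsAlgebraic.isSepClosed (ResidueField B) (C₀ ⧸ p) _ (Ideal.Quotient.field p)
      (Ideal.instAlgebraQuotient (ResidueField B) p) halg _
    exact Hensel.isSepClosed_of_ringEquiv
      (RingEquiv.ofBijective _ p.bijective_algebraMap_quotient_residueField)
  have hsurj : Function.Surjective (PrimeSpectrum.comap (algebraMap C₀ (C₀ ⊗[C] D))) := fun p => by
    have hpm : p.asIdeal.IsMaximal := inferInstance
    have : ((p.asIdeal).comap (Ideal.Quotient.mk I)).IsMaximal :=
      Ideal.comap_isMaximal_of_surjective _ Ideal.Quotient.mk_surjective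
    obtain ⟨Q, hQ, hQp⟩ := hD _ this
    let g : C →+* D ⧸ Q := (Ideal.Quotient.mk Q).comp (algebraMap C D)
    let : Algebra C₀ (D ⧸ Q) := (Ideal.Quotient.lift I g fun a ha => Ideal.Quotient.eq_zero_iff_mem.2 (by
      have h1 : a ∈ Q.comap (algebraMap C D) := by
        rw [hQp, Ideal.mem_comap, Ideal.Quotient.eq_zero_iff_mem.2 ha]
        exact zero_mem _
      exact h1)).toAlgebra
    have : IsScalarTower C C₀ (D ⧸ Q) := .of_algebraMap_eq fun _ => rfl
    let G : C₀ ⊗[C] D →ₐ[C₀] D ⧸ Q := Algebra.TensorProduct.lift (Algebra.ofId C₀ _)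
      (Ideal.Quotient.mkₐ C Q) fun _ _ => .all _ _
    refine ⟨PrimeSpectrum.comap G.toRingHom ⟨⊥, Ideal.isPrime_bot⟩, PrimeSpectrum.ext (Ideal.ext fun z => ?_)⟩
    obtain ⟨a, rfl⟩ := Ideal.Quotient.mk_surjective z
    change G (algebraMap C₀ _ (Ideal.Quotient.mk I a)) ∈ (⊥ : Ideal (D ⧸ Q)) ↔ _
    rw [G.commutes, Ideal.mem_bot]
    change Ideal.Quotient.mk Q (algebraMap C D a) = 0 ↔ _
    rw [Ideal.Quotient.eq_zero_iff_mem, ← Ideal.mem_comap, hQp, Ideal.mem_comap]
  obtain ⟨σ⟩ := exists_section_dim_zero hk hsurj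
  obtain ⟨τ, -⟩ := Hensel.exists_algHom_lift_of_etale Hensel.gabberRoot_of_henselianRing D
    (((σ.restrictScalars C)).comp Algebra.TensorProduct.includeRight)
  exact ⟨τ⟩

section Stage

open CategoryTheory CategoryTheory.Limits
attribute [local instance] Groth.Agent.IndEt.algebraUnder

/-- maps from finitely presented algebras into a base change of an ind-étale algebra come from a
stage -/
theorem exists_stage_tensor {A B : Type u} [CommRing A] [CommRing B] [Algebra A B]
    (h : IndEt.EtFactors A B) (C : Type u) [CommRing C] [Algebra A C] (D : Type u) [CommRing D]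
    [Algebra C D] [Algebra.FinitePresentation C D] (g : D →ₐ[C] C ⊗[A] B) :
    ∃ (E : Type u) (_ : CommRing E) (_ : Algebra A E), Algebra.Etale A E ∧
      Nonempty (E →ₐ[A] B) ∧ Nonempty (D →ₐ[C] C ⊗[A] E) := by
  obtain ⟨J, _, _, F', c, hc, het, ⟨e⟩⟩ := IndEt.isIndEtale_of_etFactors h
  let F := CommRingCat.tensorProd (CommRingCat.of A) (CommRingCat.of C)
  have : PreservesColimitsOfShape J F :=
    preservesColimitsOfShape_of_natIso (CommRingCat.tensorProdIsoPushout _ _).symm
  let e₁ : C ⊗[A] B →ₐ[C] C ⊗[A] c.pt.right :=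
    Algebra.TensorProduct.map (AlgHom.id C C)
      (IndEt.outHom (e.inv : CommRingCat.mkUnder (CommRingCat.of A) B ⟶ c.pt))
  let e₂ : c.pt.right →ₐ[A] B :=
    { e.hom.right.hom with
      commutes' := fun r => congrArg (fun k : CommRingCat.of A ⟶ CommRingCat.of B => k.hom r)
        (Under.w e.hom) }
  obtain ⟨j, v, -⟩ := IndEt.exists_factor_stage (isColimitOfPreserves F hc) D
    ((IndEt.toTensorProd C c.pt).comp (e₁.comp g))
  exact ⟨(F'.obj j).right, inferInstance, inferInstance, het j,
    ⟨e₂.comp (IndEt.underHom (c.ι.app j))⟩, ⟨(IndEt.ofTensorProd C (F'.obj j)).comp v⟩⟩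

end Stage

/-- an étale covering of an integral algebra splits over an étale neighbourhood on the base -/
theorem exists_etale_nhd_section {A C D : Type u} [CommRing A] [CommRing C] [Algebra A C]
    [Algebra.IsIntegral A C] [CommRing D] [Algebra C D] [Algebra.Etale C D] (P : Ideal A) [P.IsPrime]
    (hD : ∀ q : Ideal C, q.IsPrime → q.comap (algebraMap A C) = P →
      ∃ Q : Ideal D, Q.IsPrime ∧ Q.comap (algebraMap C D) = q) :
    ∃ (E : Type u) (_ : CommRing E) (_ : Algebra A E), Algebra.Etale A E ∧
      (∃ Q : Ideal E, Q.IsPrime ∧ Q.comap (algebraMap A E) = P) ∧ Nonempty (D →ₐ[C] C ⊗[A] E) := by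
  obtain ⟨B, _, _, _, hk, hP, hB⟩ := exists_strictlyHenselian_over A P
  let : Algebra B (C ⊗[A] B) := Algebra.TensorProduct.rightAlgebra
  have : Algebra.IsIntegral B (C ⊗[A] B) :=
    Algebra.IsIntegral.of_surjective (R := B) (A := B ⊗[A] C)
      { (Algebra.TensorProduct.comm A B C).toRingEquiv.toRingHom with
        commutes' := fun b => Algebra.TensorProduct.comm_tmul (R := A) b (1 : C) }
      (Algebra.TensorProduct.comm A B C).surjective
  obtain ⟨σ⟩ := exists_section_of_isIntegral (B := B) (C := C ⊗[A] B) (D := (C ⊗[A] B) ⊗[C] D)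
    fun M hM => by
      let q := M.comap (algebraMap C (C ⊗[A] B))
      have hq : q.comap (algebraMap A C) = P := by
        have hmB : M.comap (algebraMap B (C ⊗[A] B)) = maximalIdeal B :=
          IsLocalRing.eq_maximalIdeal (Ideal.isMaximal_comap_of_isIntegral_of_isMaximal M)
        rw [← hP, ← hmB, Ideal.comap_comap, Ideal.comap_comap]
        refine congrArg (fun f : A →+* C ⊗[A] B => M.comap f) (RingHom.ext fun a => ?_)
        change algebraMap A C a ⊗ₜ[A] (1 : B) = (1 : C) ⊗ₜ[A] algebraMap A B a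
        rw [Algebra.algebraMap_eq_smul_one, Algebra.algebraMap_eq_smul_one, TensorProduct.smul_tmul]
      obtain ⟨Q, hQ, hQq⟩ := hD q inferInstance hq
      obtain ⟨z, hz, -⟩ := WLoc.exists_prime_pair D (⟨M, hM.isPrime⟩ : PrimeSpectrum (C ⊗[A] B))
        ⟨Q, hQ⟩ (PrimeSpectrum.ext hQq.symm)
      exact ⟨z.asIdeal, z.isPrime, congrArg PrimeSpectrum.asIdeal hz⟩
  obtain ⟨E, _, _, hE, ⟨v⟩, hs⟩ := exists_stage_tensor hB C D
    ((σ.restrictScalars C).comp Algebra.TensorProduct.includeRight)
  exact ⟨E, inferInstance, inferInstance, hE,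
    ⟨(maximalIdeal B).comap v.toRingHom, inferInstance, by
      rw [← hP, Ideal.comap_comap, AlgHom.toRingHom_eq_coe, AlgHom.comp_algebraMap]⟩, hs⟩

end Groth.Agent.EtSh
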