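import Groth.Agent.EtSh.Gluing
import Groth.Agent.EtSh.IntegralSplit

/-!
# Direct image along integral morphisms is exact
-/

set_option autoImplicit false
set_option backward.isDefEq.respectTransparency.types false

universe u

open CategoryTheory CategoryTheory.Limits AlgebraicGeometry Opposite

namespace Groth.Agent.EtSh

variable {X Y : Scheme.{u}}

theorem isIntegralHom_prV (f : X ⟶ Y) [IsIntegralHom f] (V : Y.Etale) :
    IsIntegralHom (pullback.fst V.hom f : ((EtCoh.bc f).obj V).left ⟶ V.left) :=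
  inferInstanceAs (IsIntegralHom (pullback.fst V.hom f))

/-- coverings of `X ×_Y V` are refined by disjoint open pieces over an étale neighbourhood -/
theorem exists_nhd_refinement (f : X ⟶ Y) [IsIntegralHom f] (V : Y.Etale) (v : V.left) {ι : Type*}
    (R : ι → Σ W : X.Etale, W ⟶ (EtCoh.bc f).obj V)
    (hR : ∀ x : ((EtCoh.bc f).obj V).left,
      (pullback.fst V.hom f : ((EtCoh.bc f).obj V).left ⟶ V.left).base x = v →
        ∃ i, x ∈ Set.range (R i).2.left.base) :
    ∃ (V' : Y.Etale) (φ : V' ⟶ V) (_ : v ∈ Set.range φ.left.base) (κ : Type u)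
      (O : κ → ((EtCoh.bc f).obj V').left.Opens),
      (∀ a b, a ≠ b → Disjoint (O a) (O b)) ∧ (⨆ a, O a) = ⊤ ∧
      ∀ a, ∃ (x : ι) (k : pieceObj ((EtCoh.bc f).obj V') (O a) ⟶ (R x).1),
        k ≫ (R x).2 = pieceIncl ((EtCoh.bc f).obj V') (O a) ≫ (EtCoh.bc f).map φ := by
  let W := (EtCoh.bc f).obj V
  have hi := isIntegralHom_prV f V
  have : ∀ x, Etale (R x).2.left := fun x => etale_left _
  obtain ⟨V₁, e, _, hv, n, O, hdis, hsup, hk⟩ :=
    @exists_split_nhd ((EtCoh.bc f).obj V).left V.left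
      (pullback.fst V.hom f : ((EtCoh.bc f).obj V).left ⟶ V.left) hi _ _ (fun x => (R x).2.left) this
      v hR
  have : Etale V.hom := V.prop
  let V' : Y.Etale := Scheme.Etale.mk (e ≫ V.hom)
  let φ : V' ⟶ V := MorphismProperty.Over.homMk e rfl
  let W' := (EtCoh.bc f).obj V'
  let Θ : W'.left ⟶ pullback (pullback.fst V.hom f : W.left ⟶ V.left) e :=
    pullback.lift ((EtCoh.bc f).map φ).left (pullback.fst V'.hom f : W'.left ⟶ V'.left)
      (EtCoh.isPullback_bc_map f φ).w
  refine ⟨V', φ, hv, ULift.{u} (Fin n), fun a => Θ ⁻¹ᵁ O a.down, fun a b hab => ?_, ?_, fun a => ?_⟩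
  · rw [disjoint_iff, ← Scheme.Hom.preimage_inf]
    exact (congrArg (Θ ⁻¹ᵁ ·) (disjoint_iff.1 (hdis _ _ fun h => hab (ULift.ext _ _ h)))).trans (Scheme.Hom.preimage_bot _)
  · rw [← Scheme.Hom.preimage_iSup]
    exact (congrArg (Θ ⁻¹ᵁ ·) (Equiv.ulift.iSup_comp.trans hsup)).trans (Scheme.Hom.preimage_top _)
  · obtain ⟨x, k, hkx⟩ := hk a.down
    have h1 : ((Θ ∣_ O a.down) ≫ k) ≫ (R x).2.left = (Θ ⁻¹ᵁ O a.down).ι ≫ ((EtCoh.bc f).map φ).left := by
      exact ((Category.assoc _ _ _).trans (congrArg (_ ≫ ·) hkx)).trans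
        ((morphismRestrict_ι_assoc Θ (O a.down) _).trans (congrArg (_ ≫ ·) (pullback.lift_fst _ _ _)))
    refine ⟨x, MorphismProperty.Over.homMk ((Θ ∣_ O a.down) ≫ k) ?_, MorphismProperty.Over.Hom.ext h1⟩
    rw [← MorphismProperty.Over.w (R x).2]
    exact ((Category.assoc _ _ _).symm.trans (congrArg (· ≫ W.hom) h1)).trans
      ((Category.assoc _ _ _).trans (congrArg (_ ≫ ·) (MorphismProperty.Over.w ((EtCoh.bc f).map φ))))

theorem push_preservesEpimorphisms_of_integral (f : X ⟶ Y) [IsIntegralHom f] :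
    (EtCoh.push f).PreservesEpimorphisms where
  preserves {F G} α _ := by
    have : Sheaf.IsLocallySurjective ((EtCoh.push f).map α) := ⟨fun {V} s => (mem_topology_iff _).2 fun v => by
      choose W g w r hw hr using fun x => exists_lift_of_epi α ((EtCoh.bc f).obj V) s x
      obtain ⟨V', φ, ⟨v', hv'⟩, κ, O, hdis, hsup, hk⟩ :=
        exists_nhd_refinement f V v (fun x => ⟨W x, g x⟩) fun x _ => ⟨x, w x, hw x⟩
      choose x k hkx using hk
      obtain ⟨t, ht⟩ := exists_glue_pieces F _ O hdis hsup fun a => F.obj.map (k a).op (r (x a))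
      refine ⟨V', φ, v', ⟨t, ?_⟩, hv'⟩
      change α.hom.app (op ((EtCoh.bc f).obj V')) t = G.obj.map ((EtCoh.bc f).map φ).op s
      refine sect_ext G fun y => ?_
      obtain ⟨a, ha⟩ := TopologicalSpace.Opens.mem_iSup.1 (hsup.ge (Set.mem_univ y : y ∈ (⊤ : ((EtCoh.bc f).obj V').left.Opens)))
      refine ⟨_, pieceIncl _ (O a), ⟨y, ha⟩, rfl, ?_⟩
      rw [← NatTrans.naturality_apply α.hom (pieceIncl _ (O a)).op, ht, NatTrans.naturality_apply α.hom (k a).op,
        hr, ← ConcreteCategory.comp_apply, ← ConcreteCategory.comp_apply, ← G.obj.map_comp, ← G.obj.map_comp,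
        ← op_comp, ← op_comp, hkx]⟩
    exact Sheaf.epi_of_isLocallySurjective _

theorem push_preservesFiniteColimits (f : X ⟶ Y) [IsIntegralHom f] :
    PreservesFiniteColimits (EtCoh.push f) := by
  have := push_preservesEpimorphisms_of_integral f
  have : PreservesFiniteLimits (EtCoh.push f) :=
    have : PreservesLimitsOfSize.{0, 0} (EtCoh.push f) :=
      (EtCoh.pullPushAdj f).rightAdjoint_preservesLimits
    PreservesLimitsOfSize.preservesFiniteLimits _
  have : (EtCoh.push f).PreservesHomology :=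
    Functor.preservesHomology_of_preservesEpis_and_kernels _
  exact Functor.preservesFiniteColimits_of_preservesHomology _

end Groth.Agent.EtSh
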