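import Groth.Agent.EtSh.Point
import Groth.Agent.EtSh.StalkPts
import Groth.Agent.EtSh.Pull
import Mathlib.CategoryTheory.Adjunction.FullyFaithful
import Groth.Prelude.Def_PBC

/-!
# Stalks of direct images along integral morphisms
-/

set_option autoImplicit false
set_option backward.isDefEq.respectTransparency.types false

universe u

open CategoryTheory CategoryTheory.Limits AlgebraicGeometry Opposite

namespace Groth.Agent.EtSh.Integral

variable {X Y : Scheme.{u}} (f : X ⟶ Y) {Ω : Type u} [Field Ω] [IsSepClosed Ω]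
  (ζ : Spec (CommRingCat.of Ω) ⟶ X)

/-- comparison of stalks of a direct image -/
noncomputable def pushStalk (G : EtCoh.Ab X) :
    (EtCoh.stalk (ζ ≫ f)).obj ((EtCoh.push f).obj G) ⟶ (EtCoh.stalk ζ).obj G :=
  (stalkPullIso f ζ).inv.app ((EtCoh.push f).obj G) ≫
    (EtCoh.stalk ζ).map ((EtCoh.pullPushAdj f).counit.app G)

theorem pushStalk_germ (G : EtCoh.Ab X) {V : Y.Etale} (t : Fib (ζ ≫ f) V)
    (r : EtCoh.sect ((EtCoh.push f).obj G) V) :
    pushStalk f ζ G (germ (ζ ≫ f) ((EtCoh.push f).obj G) t r) =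
      germ ζ G ((fibBC f ζ).inv.app V t) r := by
  rw [pushStalk, ConcreteCategory.comp_apply, stalkPullIso_inv_germ, stalk_map_germ]
  refine congrArg _ ?_
  exact congrArg (fun k : (EtCoh.push f).obj G ⟶ (EtCoh.push f).obj G => k.hom.app (op V) r)
    ((EtCoh.pullPushAdj f).right_triangle_components G)

theorem fst_fpt {V : Y.Etale} (t : Fib (ζ ≫ f) V) :
    (pullback.fst V.hom f : ((EtCoh.bc f).obj V).left ⟶ V.left) (fpt ((fibBC f ζ).inv.app V t)) = fpt t := by
  have := congrArg (fun a : Fib (ζ ≫ f) V => fpt a) ((fibBC f ζ).inv_hom_id_app_apply V t)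
  exact this

variable [IsIntegralHom f]

theorem surjective_pushStalk (G : EtCoh.Ab X) : Function.Surjective (pushStalk f ζ G) := fun p => by
  obtain ⟨U, t, s, rfl⟩ := germ_surjective G p
  obtain ⟨V, O, hO, k, z, hz⟩ := exists_piece_through f U (fpt t)
  obtain ⟨t', ht'⟩ := exists_fib_map k z t hz
  let W := (EtCoh.bc f).obj V
  let O' : ULift.{u} Bool → W.left.Opens := fun b => cond b.down O ⟨(O : Set W.left)ᶜ, hO.isOpen_compl⟩
  obtain ⟨r, hr⟩ := exists_glue_pieces G W O'
    (by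
      rintro ⟨a⟩ ⟨b⟩ hab
      rw [disjoint_iff_inf_le]
      rintro x ⟨h1, h2⟩
      cases a <;> cases b
      · exact (hab rfl).elim
      · exact h1 h2
      · exact h2 h1
      · exact (hab rfl).elim)
    (eq_top_iff.2 fun x _ => TopologicalSpace.Opens.mem_iSup.2 (by
      by_cases hx : x ∈ (O : Set W.left)
      · exact ⟨⟨true⟩, hx⟩
      · exact ⟨⟨false⟩, hx⟩))
    (fun b => match b with
      | ⟨true⟩ => G.obj.map k.op s
      | ⟨false⟩ => 0)
  let t'' : Fib ζ W := (Scheme.pointSmallEtale ζ).fiber.map (pieceIncl W O) t'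
  refine ⟨germ (ζ ≫ f) ((EtCoh.push f).obj G) ((fibBC f ζ).hom.app V t'') r, ?_⟩
  have e : (fibBC f ζ).inv.app V ((fibBC f ζ).hom.app V t'') = t'' :=
    ((fibBC f ζ).app V).toEquiv.symm_apply_apply t''
  rw [pushStalk_germ, e]
  refine (germ_map G (pieceIncl W O) t' r).symm.trans ?_
  refine (congrArg (germ ζ G t') (hr ⟨true⟩)).trans ?_
  exact (germ_map G k t' s).trans (by rw [ht'])

theorem injective_pushStalk [UniversallyInjective f] (G : EtCoh.Ab X) :
    Function.Injective (pushStalk f ζ G) := by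
  refine (injective_iff_map_eq_zero (pushStalk f ζ G).hom).2 fun p hp => ?_
  obtain ⟨V, t, r, rfl⟩ := germ_surjective _ p
  rw [pushStalk_germ, germ_eq_zero_iff] at hp
  obtain ⟨W', g, w', hw', hg⟩ := hp
  have : UniversallyInjective (pullback.fst V.hom f) :=
    MorphismProperty.pullback_fst (P := @UniversallyInjective) V.hom f ‹_›
  obtain ⟨V', φ, ⟨v', hv'⟩, κ, O, -, hsup, hk⟩ :=
    exists_nhd_refinement f V (fpt t) (fun _ : PUnit.{1} => ⟨W', g⟩) fun x hx => by
      refine ⟨PUnit.unit, w', hw'.trans ?_⟩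
      exact (pullback.fst V.hom f).injective ((fst_fpt f ζ t).trans hx.symm)
  refine (germ_eq_zero_iff _ t r).2 ⟨V', φ, v', hv', ?_⟩
  show G.obj.map ((EtCoh.bc f).map φ).op r = 0
  refine sect_ext_germ G fun Ω _ _ η a => ?_
  obtain ⟨i, hi⟩ := TopologicalSpace.Opens.mem_iSup.1
    (hsup.ge (Set.mem_univ (fpt a) : fpt a ∈ (⊤ : ((EtCoh.bc f).obj V').left.Opens)))
  obtain ⟨a', rfl⟩ := exists_fib_map (pieceIncl ((EtCoh.bc f).obj V') (O i)) ⟨fpt a, hi⟩ a rfl
  obtain ⟨-, k, hkx⟩ := hk i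
  rw [map_zero, ← germ_map]
  have e : G.obj.map (pieceIncl ((EtCoh.bc f).obj V') (O i)).op (G.obj.map ((EtCoh.bc f).map φ).op r) = 0 := by
    rw [← ConcreteCategory.comp_apply, ← Functor.map_comp, ← op_comp, ← hkx, op_comp, Functor.map_comp,
      ConcreteCategory.comp_apply, hg, map_zero]
  rw [e, map_zero]

theorem isIso_pushStalk [UniversallyInjective f] (G : EtCoh.Ab X) : IsIso (pushStalk f ζ G) :=
  (ConcreteCategory.isIso_iff_bijective _).2 ⟨injective_pushStalk f ζ G, surjective_pushStalk f ζ G⟩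

omit ζ in
/-- the counit is an isomorphism for integral universally injective morphisms -/
theorem isIso_counit [UniversallyInjective f] (G : EtCoh.Ab X) :
    IsIso ((EtCoh.pullPushAdj f).counit.app G) := by
  refine isIso_of_stalk _ fun Ω _ _ ζ => ?_
  exact @IsIso.of_isIso_comp_left _ _ _ _ _ ((stalkPullIso f ζ).inv.app ((EtCoh.push f).obj G))
    ((EtCoh.stalk ζ).map ((EtCoh.pullPushAdj f).counit.app G)) inferInstance (isIso_pushStalk f ζ G)

omit ζ in
theorem isZero_stalk_push (G : EtCoh.Ab X) (ξ : Spec (CommRingCat.of Ω) ⟶ Y)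
    (hξ : ξ.base default ∉ Set.range f.base) : IsZero ((EtCoh.stalk ξ).obj ((EtCoh.push f).obj G)) := by
  refine AddCommGrpCat.isZero_iff_subsingleton.2 ?_
  suffices h : ∀ p : ↑((EtCoh.stalk ξ).obj ((EtCoh.push f).obj G)), p = 0 from
    ⟨fun a b => (h a).trans (h b).symm⟩
  intro p
  obtain ⟨V, t, s, rfl⟩ := germ_surjective _ p
  have hc : IsClosed (Set.range f.base) := f.isClosedMap.isClosed_range
  let O : V.left.Opens := ⟨V.hom.base ⁻¹' (Set.range f.base)ᶜ, hc.isOpen_compl.preimage V.hom.continuous⟩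
  have ht : fpt t ∈ O := by
    show V.hom.base (fpt t) ∉ Set.range f.base
    rw [hom_fpt]
    exact hξ
  refine (germ_eq_zero_iff _ t s).2 ⟨pieceObj V O, pieceIncl V O, ⟨_, ht⟩, rfl, ?_⟩
  show G.obj.map ((EtCoh.bc f).map (pieceIncl V O)).op s = 0
  have : IsEmpty ((EtCoh.bc f).obj (pieceObj V O)).left := ⟨fun x =>
    ((pullback.fst (pieceObj V O).hom f : _ ⟶ (pieceObj V O).left) x).2
      ⟨(pullback.snd (pieceObj V O).hom f : ((EtCoh.bc f).obj (pieceObj V O)).left ⟶ X) x,
        congrArg (fun k : ((EtCoh.bc f).obj (pieceObj V O)).left ⟶ Y => k x) pullback.condition.symm⟩⟩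
  exact sect_subsingleton_of_isEmpty G _ _

omit ζ in
theorem supp_push_subset (G : EtCoh.Ab X) :
    EtPBC.supp ((EtCoh.push f).obj G) ⊆ Set.range f.base := by
  rintro y ⟨Ω, _, _, ξ, hξ, h⟩
  by_contra hy
  refine h (isZero_stalk_push f G ξ ?_)
  rwa [Set.eq_of_mem_singleton (hξ.le ⟨default, rfl⟩)]

omit ζ in
theorem isIso_unit_of_supp [UniversallyInjective f] (F : EtCoh.Ab Y)
    (hF : EtPBC.supp F ⊆ Set.range f.base) : IsIso ((EtCoh.pullPushAdj f).unit.app F) := by
  refine isIso_of_stalk_exists _ fun y => ?_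
  by_cases hy : y ∈ Set.range f.base
  · obtain ⟨x, rfl⟩ := hy
    obtain ⟨Ω, _, _, ζ, hζ⟩ := exists_geometric_point x
    refine ⟨Ω, inferInstance, inferInstance, ζ ≫ f,
      congrArg f.base (Set.eq_of_mem_singleton (hζ.le ⟨default, rfl⟩)), ?_⟩
    have := isIso_pushStalk f ζ ((EtCoh.pull f).obj F)
    have e : (EtCoh.stalk (ζ ≫ f)).map ((EtCoh.pullPushAdj f).unit.app F) ≫
        pushStalk f ζ ((EtCoh.pull f).obj F) = (stalkPullIso f ζ).inv.app F := by
      rw [pushStalk]
      erw [(stalkPullIso f ζ).inv.naturality_assoc ((EtCoh.pullPushAdj f).unit.app F)]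
      refine (congrArg ((stalkPullIso f ζ).inv.app F ≫ ·) ?_).trans (Category.comp_id _)
      show (EtCoh.stalk ζ).map ((EtCoh.pull f).map ((EtCoh.pullPushAdj f).unit.app F)) ≫
        (EtCoh.stalk ζ).map ((EtCoh.pullPushAdj f).counit.app ((EtCoh.pull f).obj F)) = _
      rw [← Functor.map_comp]
      exact (congrArg (EtCoh.stalk ζ).map ((EtCoh.pullPushAdj f).left_triangle_components F)).trans
        (CategoryTheory.Functor.map_id _ _)
    exact IsIso.of_isIso_fac_right e
  · obtain ⟨Ω, _, _, ξ, hξ⟩ := exists_geometric_point y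
    have hy' : ξ.base default = y := Set.eq_of_mem_singleton (hξ.le ⟨default, rfl⟩)
    have h1 : IsZero ((EtCoh.stalk ξ).obj F) := by
      by_contra h
      exact hy (hF ⟨Ω, inferInstance, inferInstance, ξ, hξ, h⟩)
    exact ⟨Ω, inferInstance, inferInstance, ξ, hy', isIso_of_source_target_iso_zero _ h1.isoZero
      (isZero_stalk_push f _ ξ (by rwa [hy'])).isoZero⟩

end Groth.Agent.EtSh.Integral
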