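import Groth.Agent.EtSh.StrictHens
import Groth.Agent.Birat.Spread
import Groth.Agent.ZeroDim.Basic
import Groth.Agent.Hensel.Local

/-!
# Local sections of étale schemes; zero-dimensional schemes with separably closed residue fields
-/

set_option autoImplicit false
set_option backward.isDefEq.respectTransparency.types false

universe u

open CategoryTheory CategoryTheory.Limits AlgebraicGeometry Opposite TopologicalSpace

namespace Groth.Agent.EtSh

/-- through a point over a strictly henselian local ring there is a local section -/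
theorem exists_nhd_section {X : Scheme.{u}} (x : X) [HenselianLocalRing (X.presheaf.stalk x)]
    [IsSepClosed (IsLocalRing.ResidueField (X.presheaf.stalk x))] (U : X.Etale) (u : U.left)
    (hu : U.hom.base u = x) :
    ∃ (V : X.Opens) (s : Scheme.Etale.mk V.ι ⟶ U) (v : V), s.left.base v = u ∧ v.1 = x := by
  haveI : Etale U.hom := U.prop
  let R := X.presheaf.stalk x
  let c := IsLocalRing.closedPoint R
  let P : (Spec (CommRingCat.of R)).Etale := (EtCoh.bc (X.fromSpecStalk x)).obj U
  obtain ⟨p, hp1, hp2⟩ := Scheme.Pullback.exists_preimage_pullback (f := U.hom) (g := X.fromSpecStalk x)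
    u c (hu.trans Scheme.fromSpecStalk_closedPoint.symm)
  have hc : P.hom.base p = (closedPt R).base default := by
    refine hp2.trans ?_
    exact (IsLocalRing.comap_closedPoint (IsLocalRing.residue R)).symm.trans
      (congrArg (closedPt R).base (Subsingleton.elim _ _))
  obtain ⟨t, ht⟩ := exists_fib (ξ := closedPt R) (U := P) p hc
  obtain ⟨s, hs⟩ := exists_section R P t
  have hsp : s.left.base c = p := by
    rw [← ht, ← hs, map_fpt]
    refine congrArg _ ?_
    exact (IsLocalRing.comap_closedPoint (IsLocalRing.residue R)).symm.trans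
      (congrArg (closedPt R).base (Subsingleton.elim _ _))
  let φ : Spec R ⟶ U.left := s.left ≫ pullback.fst U.hom (X.fromSpecStalk x)
  have hφ : φ ≫ U.hom = X.fromSpecStalk x ≫ 𝟙 X := by
    rw [Category.comp_id]
    have h2 : s.left ≫ pullback.snd U.hom (X.fromSpecStalk x) = 𝟙 _ := Over.w s.hom
    exact (Category.assoc _ _ _).trans ((congrArg (s.left ≫ ·) pullback.condition).trans
      ((Category.assoc _ _ _).symm.trans
        ((congrArg (· ≫ X.fromSpecStalk x) h2).trans (Category.id_comp _))))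
  obtain ⟨V, hxV, f, hf, hfg⟩ := Birat.spread_out' (𝟙 X) U.hom φ hφ
  refine ⟨V, MorphismProperty.Over.homMk f (hfg.trans (Category.comp_id _)), ⟨x, hxV⟩, ?_, rfl⟩
  show f ⟨x, hxV⟩ = u
  have h3 : φ c = u := by
    show (s.left ≫ pullback.fst U.hom (X.fromSpecStalk x)) c = u
    rw [Scheme.Hom.comp_apply]
    exact (congrArg _ hsp).trans hp1
  have h4 : (V.fromSpecStalkOfMem x hxV) c = ⟨x, hxV⟩ := by
    refine V.ι.isOpenEmbedding.injective ?_
    rw [← Scheme.Hom.comp_apply, Scheme.Opens.fromSpecStalkOfMem_ι]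
    exact Scheme.fromSpecStalk_closedPoint
  rw [← h3, hf, Scheme.Hom.comp_apply, h4]

/-- gluing sections over a disjoint open cover of the base -/
theorem exists_glue_disjoint {X : Scheme.{u}} (F : EtCoh.Ab X) {ι : Type*} (V : ι → X.Opens)
    (hcov : ∀ x : X, ∃ i, x ∈ V i) (hd : ∀ i j, i ≠ j → Disjoint (V i : Set X) (V j))
    (a : ∀ i, EtCoh.sect F (Scheme.Etale.mk (V i).ι)) :
    ∃ b : EtCoh.sect F (EtCoh.top X),
      ∀ i, F.obj.map ((topTerminal X).from (Scheme.Etale.mk (V i).ι)).op b = a i := by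
  let π := fun i => (topTerminal X).from (Scheme.Etale.mk (V i).ι)
  have hπ : Sieve.generate (Presieve.ofArrows _ π) ∈ X.smallEtaleTopology (EtCoh.top X) := by
    refine (mem_topology_iff _).2 fun x => ?_
    obtain ⟨i, hi⟩ := hcov x
    exact ⟨_, π i, ⟨x, hi⟩, ⟨_, 𝟙 _, π i, ⟨i⟩, Category.id_comp _⟩, rfl⟩
  have hsh : Presieve.IsSheafFor (F.obj ⋙ forget AddCommGrpCat.{u + 1}) (Presieve.ofArrows _ π) :=
    (Presieve.isSheafFor_iff_generate _).2 (((isSheaf_iff_isSheaf_of_type _ _).1
      ((sheafCompose _ (forget AddCommGrpCat.{u + 1})).obj F).property) _ hπ)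
  rw [Presieve.isSheafFor_arrows_iff] at hsh
  obtain ⟨b, hb, -⟩ := hsh a fun i j W gi gj hg => by
    by_cases hij : i = j
    · subst hij
      have : gi = gj := MorphismProperty.Over.Hom.ext (by
        exact (cancel_mono (V i).ι).1 ((Over.w gi.hom).trans (Over.w gj.hom).symm))
      rw [this]
    · have hW : IsEmpty W.left := ⟨fun w => by
        have h1 : (gi.left w).1 = W.hom w :=
          congrArg (fun k : W.left ⟶ X => k w) (Over.w gi.hom)
        have h2 : (gj.left w).1 = W.hom w :=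
          congrArg (fun k : W.left ⟶ X => k w) (Over.w gj.hom)
        exact Set.disjoint_left.1 (hd i j hij) (gi.left w).2 (h1.trans h2.symm ▸ (gj.left w).2)⟩
      exact (sect_ext F fun x => (hW.false x).elim)
  exact ⟨b, hb⟩

/-- global sections are exact on an affine scheme all of whose points are closed with separably
closed residue fields -/
theorem surjective_app_top_of_zeroDim {S : Scheme.{u}} [IsAffine S]
    (h1 : ∀ s : S, IsClosed ({s} : Set S)) (h2 : ∀ s : S, IsSepClosed (S.residueField s))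
    {F G : EtCoh.Ab S} (φ : F ⟶ G) (hφ : Epi φ) :
    Function.Surjective (φ.hom.app (op (EtCoh.top S))) := by
  classical
  haveI := hφ
  have hspec : ∀ x y : S, x ⤳ y → x = y := fun x y hxy =>
    (Set.mem_singleton_iff.1 (hxy.mem_closed (h1 x) rfl)).symm
  haveI : T2Space S := by
    have := Groth.Agent.ZeroDim.t2Space_affineOpen hspec (isAffineOpen_top S)
    exact (Homeomorph.Set.univ S).t2Space
  intro b
  have hloc : ∀ x : S, ∃ (V : S.Opens) (a : EtCoh.sect F (Scheme.Etale.mk V.ι)), x ∈ V ∧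
      IsCompact (V : Set S) ∧
      φ.hom.app (op (Scheme.Etale.mk V.ι)) a =
        G.obj.map ((topTerminal S).from (Scheme.Etale.mk V.ι)).op b := by
    intro x
    haveI hsc : IsSepClosed (IsLocalRing.ResidueField (S.presheaf.stalk x)) := h2 x
    haveI : HenselianLocalRing (S.presheaf.stalk x) := by
      refine Groth.Agent.Hensel.henselianLocalRing_of_dim_zero ?_
      haveI : Subsingleton (PrimeSpectrum (S.presheaf.stalk x)) := ⟨fun p q => by
        refine (S.fromSpecStalk x).isEmbedding.injective ?_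
        have hp : ∀ r : Spec (S.presheaf.stalk x), S.fromSpecStalk x r = x := fun r => by
          have : S.fromSpecStalk x r ∈ Set.range (S.fromSpecStalk x) := ⟨r, rfl⟩
          rw [Scheme.range_fromSpecStalk] at this
          exact hspec _ _ this
        exact (hp p).trans (hp q).symm⟩
      exact Order.krullDim_eq_zero
    obtain ⟨Ω, _, _, ξ, hξ⟩ := exists_geometric_point x
    obtain ⟨t, -⟩ := exists_fib (ξ := ξ) (U := EtCoh.top S) (ξ.base default) rfl
    haveI : (EtCoh.stalk ξ).PreservesEpimorphisms :=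
      Functor.preservesEpimorphisms_of_adjunction
        ((Scheme.pointSmallEtale ξ).skyscraperSheafAdjunction (A := AddCommGrpCat.{u + 1}))
    obtain ⟨p, hp⟩ := (AddCommGrpCat.epi_iff_surjective ((EtCoh.stalk ξ).map φ)).1 inferInstance
      (germ ξ G t b)
    obtain ⟨U, t', a, rfl⟩ := germ_surjective F p
    rw [stalk_map_germ] at hp
    obtain ⟨⟨W₁, w₁⟩, ⟨f, hf⟩, ⟨g, hg⟩, -⟩ :=
      IsCofilteredOrEmpty.cone_objs (Functor.elementsMk (Scheme.pointSmallEtale ξ).fiber U t')
        (Functor.elementsMk (Scheme.pointSmallEtale ξ).fiber (EtCoh.top S) t)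
    have e : germ ξ G w₁ (φ.hom.app (op W₁) (F.obj.map f.op a)) = germ ξ G w₁ (G.obj.map g.op b) := by
      rw [NatTrans.naturality_apply φ.hom f.op a, germ_map, germ_map, hf, hg, hp]
    obtain ⟨W, k, w, hkw, he⟩ := (germ_eq_iff G w₁ _ _).1 e
    have hwx : W.hom.base w = x := by
      rw [← MorphismProperty.Over.w k, Scheme.Hom.comp_apply, hkw, hom_fpt]
      exact Set.eq_of_mem_singleton (hξ.le ⟨default, rfl⟩)
    obtain ⟨V, s, v, -, hv⟩ := exists_nhd_section x W w hwx
    obtain ⟨V', hV', hxV', hV'V⟩ := exists_isAffineOpen_mem_and_subset (x := x) (U := V) (hv ▸ v.2)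
    let j : Scheme.Etale.mk V'.ι ⟶ Scheme.Etale.mk V.ι :=
      MorphismProperty.Over.homMk (S.homOfLE hV'V) (Scheme.homOfLE_ι _ _)
    refine ⟨V', F.obj.map (j ≫ s ≫ k ≫ f).op a, hxV', hV'.isCompact, ?_⟩
    rw [← (topTerminal S).hom_ext (j ≫ s ≫ k ≫ g) ((topTerminal S).from _)]
    simp only [op_comp, Functor.map_comp, ConcreteCategory.comp_apply]
    rw [NatTrans.naturality_apply φ.hom, NatTrans.naturality_apply φ.hom,
      NatTrans.naturality_apply φ.hom, he]
  choose V a hxV hVc ha using hloc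
  obtain ⟨T, hT⟩ := isCompact_univ.elim_finite_subcover (fun x => (V x : Set S)) (fun x => (V x).2)
    fun x _ => Set.mem_iUnion.2 ⟨x, hxV x⟩
  let e := T.equivFin.symm
  let W : Fin T.card → S.Opens := fun i => ⟨(V (e i).1 : Set S) \ ⋃ j : {j // j < i}, (V (e j.1).1 : Set S),
    (V (e i).1).2.sdiff (isClosed_iUnion_of_finite fun j => (hVc (e j.1).1).isClosed)⟩
  have hWV : ∀ i, W i ≤ V (e i).1 := fun i => Set.sdiff_subset
  have hd : ∀ i j, i ≠ j → Disjoint (W i : Set S) (W j) := by
    intro i j hij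
    rcases lt_or_gt_of_ne hij with h | h
    · exact Set.disjoint_left.2 fun z hzi hzj => hzj.2 (Set.mem_iUnion.2 ⟨⟨i, h⟩, hzi.1⟩)
    · exact Set.disjoint_left.2 fun z hzi hzj => hzi.2 (Set.mem_iUnion.2 ⟨⟨j, h⟩, hzj.1⟩)
  have hcov : ∀ z : S, ∃ i, z ∈ W i := by
    intro z
    let s : Finset (Fin T.card) := Finset.univ.filter fun i => z ∈ V (e i).1
    have hne : s.Nonempty := by
      obtain ⟨x, hx, hzx⟩ : ∃ x ∈ T, z ∈ V x := by simpa using hT (Set.mem_univ z)
      exact ⟨T.equivFin ⟨x, hx⟩, by simp [s, e, hzx]⟩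
    refine ⟨s.min' hne, (Finset.mem_filter.1 (s.min'_mem hne)).2, fun hc => ?_⟩
    obtain ⟨⟨j, hj⟩, hzj⟩ := Set.mem_iUnion.1 hc
    exact absurd hj (not_lt.2 (Finset.min'_le s j (Finset.mem_filter.2 ⟨Finset.mem_univ _, hzj⟩)))
  let j : ∀ i, Scheme.Etale.mk (W i).ι ⟶ Scheme.Etale.mk (V (e i).1).ι := fun i =>
    MorphismProperty.Over.homMk (S.homOfLE (hWV i)) (Scheme.homOfLE_ι _ _)
  obtain ⟨a', ha'⟩ := exists_glue_disjoint F W hcov hd fun i => F.obj.map (j i).op (a (e i).1)
  refine ⟨a', sect_ext G fun z => ?_⟩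
  obtain ⟨i, hi⟩ := hcov z
  refine ⟨Scheme.Etale.mk (W i).ι, (topTerminal S).from _, ⟨z, hi⟩, rfl, ?_⟩
  rw [← NatTrans.naturality_apply φ.hom, ha', NatTrans.naturality_apply φ.hom, ha,
    ← ConcreteCategory.comp_apply, ← Functor.map_comp, ← op_comp,
    (topTerminal S).hom_ext (j i ≫ _) ((topTerminal S).from _)]

end Groth.Agent.EtSh
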