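import Groth.Agent.EtSh.IntegralSplit
import Groth.Prelude.Def_BigSite

/-!
# Condition (B) for integral morphisms
-/

set_option autoImplicit false
set_option backward.isDefEq.respectTransparency.types false

universe u

open CategoryTheory CategoryTheory.Limits AlgebraicGeometry

namespace Groth.Agent.EtSh

theorem propB_of_isIntegralHom {X Y : Scheme.{u}} (f : X ⟶ Y) [IsIntegralHom f] : BigSite.PropB f := by
  intro V v _ ι U g hg hcov
  have : ∀ i, Etale (g i) := hg
  choose V' e he hev n O hdis hsup hk using fun y : V => exists_split_nhd (pullback.snd f v) g y fun w _ => hcov w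
  refine ⟨V, V', e, he, fun y => ⟨y, hev y⟩, fun y => ?_⟩
  let Θ : pullback f (e y ≫ v) ⟶ pullback (pullback.snd f v) (e y) :=
    pullback.lift (pullback.map f (e y ≫ v) f v (𝟙 X) (e y) (𝟙 Y) (by simp) (by simp))
      (pullback.snd f (e y ≫ v)) (pullback.lift_snd _ _ _)
  refine ⟨ULift.{u} (Fin (n y)), fun a => Θ ⁻¹ᵁ O y a.down, fun a b hab => ?_, ?_, fun a => ?_⟩
  · rw [disjoint_iff, ← Scheme.Hom.preimage_inf,
      disjoint_iff.1 (hdis y _ _ fun h => hab (ULift.ext _ _ h)), Scheme.Hom.preimage_bot]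
  · rw [← Scheme.Hom.preimage_iSup, show ⨆ a : ULift.{u} (Fin (n y)), O y a.down = ⊤ from
      Equiv.ulift.iSup_comp.trans (hsup y), Scheme.Hom.preimage_top]
  · obtain ⟨i, k, hki⟩ := hk y a.down
    refine ⟨i, (Θ ∣_ O y a.down) ≫ k, ?_⟩
    rw [Category.assoc, hki, morphismRestrict_ι_assoc, pullback.lift_fst]

end Groth.Agent.EtSh
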