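import Groth.Agent.EtSh.PushFLC
import Groth.Agent.EtSh.FiniteBC
import Groth.Agent.EtSh.Constructible
import Groth.Agent.EtSh.ConstructibleSerre
import Groth.Agent.EtStrat.Finite
import Groth.Agent.RedSepLib.Reduced
import Groth.Agent.SmoothReduced.Basic
import Groth.Agent.GrpSch.Homogeneous

/-!
# Finite étale direct images of constructible sheaves
-/

set_option autoImplicit false
set_option backward.isDefEq.respectTransparency.types false

universe u

open CategoryTheory CategoryTheory.Limits AlgebraicGeometry Opposite Topology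

namespace Groth.Agent.EtSh

variable {X Y : Scheme.{u}}

theorem isFinite_snd_of_factor {W A B : Scheme.{u}} (p : W ⟶ Y) (r : A ⟶ B) (s : B ⟶ Y) (h : A ⟶ Y)
    (e : r ≫ s = h) (hs : IsFinite (pullback.snd p s)) : IsFinite (pullback.snd p h) := by
  subst e
  have : IsFinite (pullback.snd (pullback.snd p s) r) := MorphismProperty.pullback_snd _ _ hs
  have e := (pullbackLeftPullbackSndIso p s r).inv
  rw [← MorphismProperty.cancel_left_of_respectsIso @IsFinite (pullbackLeftPullbackSndIso p s r).hom,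
    pullbackLeftPullbackSndIso_hom_snd]
  infer_instance

/-- finitely many étale morphisms are simultaneously finite on a stratification -/
theorem exists_common_finite [CompactSpace Y] [QuasiSeparatedSpace Y] {κ : Type*} (S : Finset κ)
    (W : κ → Scheme.{u}) (p : ∀ a, W a ⟶ Y) [∀ a, Etale (p a)] [∀ a, CompactSpace (W a)]
    [∀ a, QuasiSeparatedSpace (W a)] :
    ∃ (ι : Type) (_ : Finite ι) (T : ι → Scheme.{u}) (g : ∀ i, T i ⟶ Y),
      (∀ i, IsImmersion (g i)) ∧ (∀ i, IsConstructible (Set.range (g i))) ∧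
      (⋃ i, Set.range (g i)) = Set.univ ∧ ∀ a ∈ S, ∀ i, IsFinite (pullback.snd (p a) (g i)) := by
  classical
  induction S using Finset.induction with
  | empty =>
    exact ⟨Unit, inferInstance, fun _ => Y, fun _ => 𝟙 Y, fun _ => inferInstance,
      fun _ => by simp [IsConstructible.univ], by simp [Set.iUnion_const], by simp⟩
  | insert a S _ ih =>
    obtain ⟨ι, _, T, g, hg, hc, hu, hf⟩ := ih
    obtain ⟨n, T', g', hg', hc', -, hu', hf'⟩ := EtStrat.exists_strata_isFinite (p a)
    let h : ∀ q : ι × Fin n, pullback (g q.1) (g' q.2) ⟶ Y := fun q => pullback.fst _ _ ≫ g q.1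
    have hr : ∀ q, Set.range (h q) = Set.range (g q.1) ∩ Set.range (g' q.2) := fun q => by
      rw [Scheme.Hom.comp_base, TopCat.coe_comp, Set.range_comp, Scheme.Pullback.range_fst,
        Set.image_preimage_eq_inter_range, Set.inter_comm]
    refine ⟨ι × Fin n, inferInstance, _, h, fun q => ?_, fun q => hr q ▸ (hc q.1).inter (hc' q.2), ?_,
      fun b hb q => ?_⟩
    · have := hg q.1
      have : IsImmersion (pullback.fst (g q.1) (g' q.2)) :=
        MorphismProperty.pullback_fst (P := @IsImmersion) _ _ (hg' q.2)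
      exact inferInstanceAs (IsImmersion (pullback.fst _ _ ≫ g q.1))
    · refine Set.eq_univ_of_forall fun y => ?_
      obtain ⟨i, hi⟩ := Set.mem_iUnion.1 (hu.ge (Set.mem_univ y))
      obtain ⟨k, hk⟩ := Set.mem_iUnion.1 (hu'.ge (Set.mem_univ y))
      exact Set.mem_iUnion.2 ⟨(i, k), (hr (i, k)).ge ⟨hi, hk⟩⟩
    · rcases Finset.mem_insert.1 hb with rfl | hb
      · exact isFinite_snd_of_factor (p b) (pullback.snd _ _) (g' q.2) _ pullback.condition.symm (hf' q.2)
      · exact isFinite_snd_of_factor (p b) (pullback.fst _ _) (g q.1) _ rfl (hf b hb q.1)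

theorem isClosed_preimage_of_finite {T : Scheme.{u}} (g : T ⟶ Y) (f : X ⟶ Y) [IsSeparated f] (O : X.Opens)
    (h : IsFinite (pullback.snd (O.ι ≫ f) g)) : IsClosed (pullback.fst f g ⁻¹' (O : Set X)) := by
  have hsq := (isPullback_morphismRestrict (pullback.fst f g) O).paste_vert (IsPullback.of_hasPullback f g)
  have h2 := (MorphismProperty.cancel_left_of_respectsIso @IsFinite hsq.isoPullback.hom _).2 h
  rw [hsq.isoPullback_hom_snd] at h2
  have : IsFinite (pullback.fst f g ⁻¹ᵁ O).ι := IsFinite.of_comp _ (pullback.snd f g)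
  have := (pullback.fst f g ⁻¹ᵁ O).ι.isClosedMap.isClosed_range
  rwa [Scheme.Opens.range_ι] at this

/-- stratifications pushed along finite étale morphisms of qcqs schemes -/
theorem adaptedStrata_push [CompactSpace Y] [QuasiSeparatedSpace Y] (f : X ⟶ Y) [IsFinite f] [Etale f]
    (F : EtCoh.Ab X) (hF : EtPBC.IsConstructible F) :
    EtPBC.AdaptedStrata ((EtCoh.push f).obj F) (Set.univ : Set Y) := by
  classical
  have : CompactSpace X := QuasiCompact.compactSpace_of_compactSpace f
  have : QuasiSeparatedSpace X := quasiSeparatedSpace_of_quasiSeparated f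
  obtain ⟨n, S, k, hk, hkc, -, hku, hkf⟩ := (isConstructible_iff_univ F).1 hF
  have hkc' : ∀ i, IsConstructible (Set.range (k i)) := fun i => by
    have h := hkc i
    exact h.preimage_of_isOpenEmbedding (f := (Homeomorph.Set.univ X).symm)
      (Homeomorph.Set.univ X).symm.isOpenEmbedding
  choose L hL _ hm using fun i => exists_cells (hkc' i)
  let κ := (i : Fin n) × Fin (L i).length × Bool
  let O : κ → X.Opens := fun a => cond a.2.2
    ⟨((L a.1).get a.2.1).1, (hL _ _ (List.get_mem _ _)).1.1⟩
    ⟨((L a.1).get a.2.1).2, (hL _ _ (List.get_mem _ _)).2.1⟩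
  have hOc : ∀ a, CompactSpace (O a).toScheme := fun a => by
    refine isCompact_iff_compactSpace.1 ?_
    obtain ⟨i, l, b⟩ := a
    cases b
    · simpa [O] using (hL _ _ (List.get_mem _ l)).2.2 isCompact_univ isOpen_univ
    · simpa [O] using (hL _ _ (List.get_mem _ l)).1.2 isCompact_univ isOpen_univ
  have hOs : ∀ a, QuasiSeparatedSpace (O a).toScheme := fun a => (O a).ι.isOpenEmbedding.quasiSeparatedSpace
  obtain ⟨ι, _, T₀, g₀, hg₀, hc, hu, hfin₀⟩ :=
    exists_common_finite (Finset.univ : Finset κ) (fun a => (O a).toScheme) (fun a => (O a).ι ≫ f)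
  choose T g hg hTred hgr using fun i => RedSepLib.exists_reduced_immersion (Set.range (g₀ i))
    (@Scheme.Hom.isLocallyClosed_range _ _ (g₀ i) (hg₀ i))
  have : ∀ i, IsImmersion (g i) := hg
  have : ∀ i, IsReduced (T i) := hTred
  have hfin : ∀ a i, IsFinite (pullback.snd ((O a).ι ≫ f) (g i)) := fun a i => by
    have := hg₀ i
    obtain ⟨r, hr⟩ := GrpSch.exists_lift_of_isImmersion (g₀ i) (g i) (hgr i).le
    exact isFinite_snd_of_factor _ r (g₀ i) _ hr (hfin₀ a (Finset.mem_univ a) i)
  replace hc : ∀ i, IsConstructible (Set.range (g i)) := fun i => hgr i ▸ hc i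
  replace hu : (⋃ i, Set.range (g i)) = Set.univ := (Set.iUnion_congr hgr).trans hu
  refine adaptedStrata_of_cover _ ⊤ g (fun i => (hc i).preimage_of_isOpenEmbedding
    (⊤ : Y.Opens).2.isOpenEmbedding_subtypeVal) hu.ge fun i => ?_
  let hsq := IsPullback.of_hasPullback f (g i)
  have : IsFinite (pullback.snd f (g i)) := MorphismProperty.pullback_snd _ _ ‹_›
  have hF' : EtCoh.IsFiniteLocallyConstant ((EtCoh.pull (pullback.fst f (g i))).obj F) := by
    let fst := pullback.fst f (g i)
    have hclosed : ∀ a, IsClosed (fst ⁻¹' (O a : Set X)) := fun a =>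
      isClosed_preimage_of_finite (g i) f (O a) (hfin a i)
    let P := (Σ i' : Fin n, Fin (L i').length)
    let C : P → (pullback f (g i)).Opens := fun q =>
      ⟨fst ⁻¹' ((O ⟨q.1, q.2, true⟩ : Set X) \ (O ⟨q.1, q.2, false⟩ : Set X)),
        ((O ⟨q.1, q.2, true⟩).2.preimage fst.continuous).sdiff (hclosed _)⟩
    have hmem : ∀ z, ∃ q : P, z ∈ C q := fun z => by
      obtain ⟨i', hi'⟩ := Set.mem_iUnion.1 (hku.ge (Set.mem_univ (fst z)))
      obtain ⟨p, hp, hzp⟩ := (hm i' (fst z)).1 hi'
      obtain ⟨l, hl⟩ := List.get_of_mem hp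
      exact ⟨⟨i', l⟩, by rw [← hl] at hzp; exact hzp⟩
    choose q hq using hmem
    refine isFLC_of_covers (fun z => Scheme.Etale.mk (C (q z)).ι) (fun z => ⟨z, ⟨z, hq z⟩, rfl⟩) fun z => ?_
    let σ := (q z).1
    have hrange : Set.range ((C (q z)).ι ≫ fst) ⊆ Set.range (k σ) := by
      rintro _ ⟨w, rfl⟩
      exact (hm σ _).2 ⟨_, List.get_mem _ (q z).2, w.2⟩
    have := hk σ
    have : Etale (pullback.snd f (g i)) := MorphismProperty.pullback_snd _ _ ‹_›
    have : IsReduced (pullback f (g i)) := SmoothReduced.isReduced_of_smooth_scheme (pullback.snd f (g i))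
    have : IsReduced (C (q z)).toScheme := isReduced_of_isOpenImmersion (C (q z)).ι
    obtain ⟨r, hr⟩ := GrpSch.exists_lift_of_isImmersion (k σ) ((C (q z)).ι ≫ fst) hrange
    exact isFLC_of_iso ((EtCore.pullCongr hr).app F ≪≫ (EtCore.pullComp (C (q z)).ι fst).app F)
      (isFLC_pull_comp r (k σ) (hkf σ))
  refine isFLC_of_iso ?_ (isFLC_push (pullback.snd f (g i)) _ hF')
  exact (@asIso _ _ _ _ _ (isIso_baseChange0_finite hsq F)).symm

/-- direct images of constructible sheaves along finite étale morphisms are constructible -/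
theorem isConstructible_push (f : X ⟶ Y) [IsFinite f] [Etale f] (F : EtCoh.Ab X)
    (hF : EtPBC.IsConstructible F) : EtPBC.IsConstructible ((EtCoh.push f).obj F) := by
  refine isConstructible_of_open_cover (fun V : Y.affineOpens => V.1) (iSup_affineOpens_eq_top Y) fun V => ?_
  have : IsAffine V.1.toScheme := V.2
  have hsq := IsPullback.of_hasPullback f V.1.ι
  have : IsFinite (pullback.snd f V.1.ι) := MorphismProperty.pullback_snd _ _ ‹_›
  have : Etale (pullback.snd f V.1.ι) := MorphismProperty.pullback_snd _ _ ‹_›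
  have h := (isConstructible_iff_univ _).2 (adaptedStrata_push (pullback.snd f V.1.ι) _
    (isConstructible_pull (pullback.fst f V.1.ι) hF))
  intro U hU
  obtain ⟨m, T, g, hg, hc, hd, hu, hflc⟩ := h U hU
  exact ⟨m, T, g, hg, hc, hd, hu, fun i => isFLC_of_iso ((EtCoh.pull (g i)).mapIso
    (@asIso _ _ _ _ _ (isIso_baseChange0_finite hsq F)).symm) (hflc i)⟩

end Groth.Agent.EtSh
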