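import Groth.Agent.EtSh.TopInv
import Groth.Agent.SchDescent.Effective
import Groth.Agent.FpqcDescent.Basic
import Groth.Agent.S1402
import Groth.Prelude.Def_Desc

/-!
# Descent of étale schemes along flat quasi-compact radicial surjections
-/

set_option autoImplicit false
set_option backward.isDefEq.respectTransparency false
set_option backward.isDefEq.respectTransparency.types false

universe u

open CategoryTheory CategoryTheory.Limits AlgebraicGeometry
open Desc (SchDD)

namespace Groth.Agent.EtSh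

theorem isIntegralHom_of_flat_qc_radicial {S' S : Scheme.{u}} (g : S' ⟶ S) [Flat g] [Surjective g]
    [QuasiCompact g] [UniversallyInjective g] : IsIntegralHom g := by
  haveI : UniversallyClosed g := ⟨fun X' Y' i₁ i₂ f' H C hC => by
    haveI : Flat f' := MorphismProperty.of_isPullback (P := @Flat) H.flip ‹_›
    haveI : QuasiCompact f' := MorphismProperty.of_isPullback (P := @QuasiCompact) H.flip ‹_›
    haveI : Surjective f' := MorphismProperty.of_isPullback (P := @Surjective) H.flip ‹_›
    haveI : UniversallyInjective f' := MorphismProperty.of_isPullback (P := @UniversallyInjective) H.flip ‹_›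
    rw [← (Flat.isQuotientMap_of_surjective f').isClosed_preimage, Set.preimage_image_eq C f'.injective]
    exact hC⟩
  exact FlatBasics.isIntegralHom_of_isUnivHomeo FlatBasics.isUnivHomeo_of

variable {S' S : Scheme.{u}} {g : S' ⟶ S} [IsAffineHom g] [UniversallyInjective g]

/-- lifts related on the locus where the two points agree -/
def Rel {V : Over S'} {T : Scheme.{u}} {x₀ x₁ : T ⟶ S'} (v : Desc.Lifts V x₀) (w : Desc.Lifts V x₁) : Prop :=
  ∀ ⦃Z : Scheme.{u}⦄ (z : Z ⟶ T), z ≫ x₀ = z ≫ x₁ → z ≫ v.1 = z ≫ w.1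

theorem existsUnique_rel (V : Over S') [Etale V.hom] {T : Scheme.{u}} (x₀ x₁ : T ⟶ S')
    (h : x₀ ≫ g = x₁ ≫ g) (v : Desc.Lifts V x₀) : ∃! w : Desc.Lifts V x₁, Rel v w := by
  let l : T ⟶ pullback g g := pullback.lift x₀ x₁ h
  let e : pullback (pullback.diagonal g) l ⟶ T := pullback.snd _ _
  haveI : Surjective (pullback.diagonal g) := (UniversallyInjective.iff_diagonal g).mp ‹_›
  haveI : IsClosedImmersion e := MorphismProperty.pullback_snd (P := @IsClosedImmersion) _ _ inferInstance
  haveI : Surjective e := MorphismProperty.pullback_snd (P := @Surjective) _ _ inferInstance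
  have he0 : e ≫ x₀ = pullback.fst (pullback.diagonal g) l := by
    rw [show x₀ = l ≫ pullback.fst g g from (pullback.lift_fst _ _ _).symm, ← Category.assoc,
      ← pullback.condition, Category.assoc, pullback.diagonal_fst, Category.comp_id]
  have he1 : e ≫ x₁ = pullback.fst (pullback.diagonal g) l := by
    rw [show x₁ = l ≫ pullback.snd g g from (pullback.lift_snd _ _ _).symm, ← Category.assoc,
      ← pullback.condition, Category.assoc, pullback.diagonal_snd, Category.comp_id]
  let q : pullback V.hom x₁ ⟶ T := pullback.snd _ _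
  haveI : Etale q := MorphismProperty.pullback_snd (P := @Etale) _ _ inferInstance
  obtain ⟨t, ⟨ht, hte⟩, htu⟩ := TopInvHomeo.existsUnique_section q e
    (pullback.lift (e ≫ v.1) e (by rw [Category.assoc, v.2, he0, he1])) (pullback.lift_snd _ _ _)
  refine ⟨⟨t ≫ pullback.fst _ _, by rw [Category.assoc, pullback.condition, ← Category.assoc, ht, Category.id_comp]⟩,
    fun Z z hz => ?_, fun w hw => Subtype.ext ?_⟩
  · let m : Z ⟶ pullback (pullback.diagonal g) l := pullback.lift (z ≫ x₀) z (by
      apply pullback.hom_ext <;> simp [l, hz])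
    have hm : m ≫ e = z := pullback.lift_snd _ _ _
    rw [← hm]
    show (m ≫ e) ≫ v.1 = (m ≫ e) ≫ t ≫ pullback.fst _ _
    rw [Category.assoc, Category.assoc, reassoc_of% hte, pullback.lift_fst]
  · have hlift : pullback.lift w.1 (𝟙 T) (by rw [w.2, Category.id_comp]) = t := htu _ ⟨pullback.lift_snd _ _ _, by
      apply pullback.hom_ext
      · simp [hw e (he0.trans he1.symm)]
      · simp⟩
    show w.1 = t ≫ _
    rw [← hlift, pullback.lift_fst]

variable (g) (V : Over S') [Etale V.hom]

/-- transported lift -/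
noncomputable def radTr {T : Scheme.{u}} (x₀ x₁ : T ⟶ S') (h : x₀ ≫ g = x₁ ≫ g) (v : Desc.Lifts V x₀) : Desc.Lifts V x₁ :=
  (existsUnique_rel V x₀ x₁ h v).choose

theorem radTr_rel {T : Scheme.{u}} (x₀ x₁ : T ⟶ S') (h : x₀ ≫ g = x₁ ≫ g) (v : Desc.Lifts V x₀) :
    Rel v (radTr g V x₀ x₁ h v) :=
  (existsUnique_rel V x₀ x₁ h v).choose_spec.1

theorem eq_of_surjective {T : Scheme.{u}} {x : T ⟶ S'} (w w' : Desc.Lifts V x) {Z : Scheme.{u}} (e : Z ⟶ T)
    [IsIntegralHom e] [UniversallyInjective e] [Surjective e] (h : e ≫ w.1 = e ≫ w'.1) : w = w' := by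
  haveI : Etale (pullback.snd V.hom x) := MorphismProperty.pullback_snd (P := @Etale) _ _ inferInstance
  obtain ⟨t, -, htu⟩ := TopInvHomeo.existsUnique_section (pullback.snd V.hom x) e
    (pullback.lift (e ≫ w.1) e (by rw [Category.assoc, w.2])) (pullback.lift_snd _ _ _)
  have key : ∀ u : Desc.Lifts V x, e ≫ u.1 = e ≫ w.1 → pullback.lift u.1 (𝟙 T) (by rw [u.2, Category.id_comp]) = t :=
    fun u hu => htu _ ⟨pullback.lift_snd _ _ _, by apply pullback.hom_ext <;> simp [hu]⟩
  apply Subtype.ext
  have := congrArg (· ≫ pullback.fst _ _) ((key w rfl).trans (key w' h.symm).symm)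
  simpa using this

/-- the unique descent datum on an étale scheme -/
noncomputable def radDatum : SchDD g where
  obj := V
  φ T x₀ x₁ h :=
    { toFun := radTr g V x₀ x₁ h
      invFun := radTr g V x₁ x₀ h.symm
      left_inv := fun v => ((existsUnique_rel V x₁ x₀ h.symm _).choose_spec.2 v
        fun Z z hz => (radTr_rel g V x₀ x₁ h v z hz.symm).symm).symm
      right_inv := fun v => ((existsUnique_rel V x₀ x₁ h _).choose_spec.2 v
        fun Z z hz => (radTr_rel g V x₁ x₀ h.symm v z hz.symm).symm).symm }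
  φ_natural T T' a x₀ x₁ h h' v v' hv' := by
    have e : (⟨a ≫ (radTr g V x₀ x₁ h v).1, by rw [Category.assoc, (radTr g V x₀ x₁ h v).2]⟩ : Desc.Lifts V (a ≫ x₁)) =
        radTr g V (a ≫ x₀) (a ≫ x₁) h' v' :=
      (existsUnique_rel V (a ≫ x₀) (a ≫ x₁) h' v').choose_spec.2 _ fun Z z hz => by
        show z ≫ v'.1 = z ≫ a ≫ _
        rw [hv', ← Category.assoc, radTr_rel g V x₀ x₁ h v (z ≫ a) (by simpa using hz), Category.assoc]
    exact (congrArg Subtype.val e).symm
  φ_self T x v := ((existsUnique_rel (g := g) V x x rfl v).choose_spec.2 v fun _ _ _ => rfl).symm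
  φ_comp T x₀ x₁ x₂ h₀₁ h₁₂ v := by
    let e₁ := pullback.snd (pullback.diagonal g) (pullback.lift x₀ x₁ h₀₁)
    let e₂ := pullback.snd (pullback.diagonal g) (pullback.lift x₁ x₂ h₁₂)
    haveI : Surjective (pullback.diagonal g) := (UniversallyInjective.iff_diagonal g).mp ‹_›
    have hc : ∀ {y₀ y₁ : T ⟶ S'} (h : y₀ ≫ g = y₁ ≫ g),
        pullback.snd (pullback.diagonal g) (pullback.lift y₀ y₁ h) ≫ y₀ =
          pullback.snd (pullback.diagonal g) (pullback.lift y₀ y₁ h) ≫ y₁ := fun {y₀ y₁} h => by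
      have hh := pullback.condition (f := pullback.diagonal g) (g := pullback.lift y₀ y₁ h)
      have a0 := congrArg (· ≫ pullback.fst g g) hh
      have a1 := congrArg (· ≫ pullback.snd g g) hh
      simp at a0 a1
      rw [← a0, ← a1]
    haveI : IsClosedImmersion e₁ := MorphismProperty.pullback_snd (P := @IsClosedImmersion) _ _ inferInstance
    haveI : IsClosedImmersion e₂ := MorphismProperty.pullback_snd (P := @IsClosedImmersion) _ _ inferInstance
    haveI : Surjective e₁ := MorphismProperty.pullback_snd (P := @Surjective) _ _ inferInstance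
    haveI : Surjective e₂ := MorphismProperty.pullback_snd (P := @Surjective) _ _ inferInstance
    haveI : IsClosedImmersion (pullback.snd e₂ e₁ ≫ e₁) := inferInstance
    haveI : Surjective (pullback.snd e₂ e₁) := MorphismProperty.pullback_snd (P := @Surjective) _ _ inferInstance
    refine eq_of_surjective V _ _ (pullback.snd e₂ e₁ ≫ e₁) ?_
    have z1 : (pullback.snd e₂ e₁ ≫ e₁) ≫ x₀ = (pullback.snd e₂ e₁ ≫ e₁) ≫ x₁ := by
      rw [Category.assoc, Category.assoc, hc h₀₁]
    have z2 : (pullback.snd e₂ e₁ ≫ e₁) ≫ x₁ = (pullback.snd e₂ e₁ ≫ e₁) ≫ x₂ := by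
      rw [← pullback.condition, Category.assoc, Category.assoc, hc h₁₂]
    exact ((radTr_rel g V x₁ x₂ h₁₂ _ _ z2).symm.trans (radTr_rel g V x₀ x₁ h₀₁ v _ z1).symm).trans
      (radTr_rel g V x₀ x₂ (h₀₁.trans h₁₂) v _ (z1.trans z2))

omit [IsAffineHom g] [UniversallyInjective g] [Etale V.hom] in
theorem exists_etale_bc [Flat g] [Surjective g] [QuasiCompact g] [UniversallyInjective g] [Etale V.hom]
    [IsSeparated V.hom] : ∃ U : Over S, Etale U.hom ∧
      ∃ θ : pullback U.hom g ≅ V.left, θ.hom ≫ V.hom = pullback.snd U.hom g := by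
  haveI := isIntegralHom_of_flat_qc_radicial g
  haveI : LocallyQuasiFinite V.hom := by
    refine HasRingHomProperty.iff_appLE.2 fun U V' h => ?_
    have := HasRingHomProperty.appLE (P := @Etale) V.hom ‹_› U V' h
    algebraize [(V.hom.appLE U.1 V'.1 h).hom]
    change Algebra.QuasiFinite _ _
    infer_instance
  obtain ⟨U, ⟨θ⟩⟩ := SchDescent.effective_of_indQuasiAffine (SchDescent.isCover_singleton g) (radDatum g V)
    (Groth.Agent.S1402.result V.hom)
  let hh : pullback g U.hom ⟶ V.left := θ.hom.hom.left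
  let hi : V.left ⟶ pullback g U.hom := θ.inv.hom.left
  haveI : IsIso hh := ⟨hi, congrArg (fun m => m.hom.left) θ.hom_inv_id, congrArg (fun m => m.hom.left) θ.inv_hom_id⟩
  have hk : hh ≫ V.hom = pullback.fst g U.hom := Over.w θ.hom.hom
  have hQ : (@Surjective ⊓ @Flat ⊓ @QuasiCompact : MorphismProperty Scheme.{u}) g := ⟨⟨‹_›, ‹_›⟩, ‹_›⟩
  refine ⟨U, ?_, pullbackSymmetry _ _ ≪≫ asIso hh, ?_⟩
  · exact MorphismProperty.of_isPullback_of_descendsAlong (P := @Etale)
      (Q := @Surjective ⊓ @Flat ⊓ @QuasiCompact) (IsPullback.of_hasPullback g U.hom) hQ (hk ▸ inferInstance)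
  · simp [hk]

end Groth.Agent.EtSh
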