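import Groth.Agent.EtSh.IntegralStalk
import Groth.Agent.EtSh.EtaleAlong
import Groth.Agent.RedSepLib.Reduced
import Groth.Prelude.Def_W4c1etweilhu916Glue
import Mathlib.CategoryTheory.Limits.Preserves.Shapes.Pullbacks

/-!
# Recollement of étale sheaves from a closed subscheme and its open complement
-/

set_option autoImplicit false
set_option backward.isDefEq.respectTransparency.types false

universe u

open CategoryTheory CategoryTheory.Limits AlgebraicGeometry Opposite

namespace Groth.Agent.EtSh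

/-- stalk functors are left exact -/
theorem stalk_preservesFiniteLimits {X : Scheme.{u}} {Ω : Type u} [Field Ω] [IsSepClosed Ω]
    (ξ : Spec (CommRingCat.of Ω) ⟶ X) : PreservesFiniteLimits (EtCoh.stalk ξ) := by
  let adj := (Scheme.pointSmallEtale ξ).skyscraperSheafAdjunction (A := AddCommGrpCat.{u + 1})
  have : (EtCoh.stalk ξ).PreservesMonomorphisms :=
    ⟨fun α _ => (AddCommGrpCat.mono_iff_injective _).2 (stalk_map_injective α)⟩
  have : PreservesColimitsOfSize.{0, 0} (EtCoh.stalk ξ) := adj.leftAdjoint_preservesColimits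
  have : PreservesFiniteColimits (EtCoh.stalk ξ) := PreservesColimitsOfSize.preservesFiniteColimits _
  have := preservesBinaryBiproducts_of_preservesBinaryCoproducts (EtCoh.stalk ξ)
  have : (EtCoh.stalk ξ).Additive := Functor.additive_of_preservesBinaryBiproducts _
  have : (EtCoh.stalk ξ).PreservesHomology := Functor.preservesHomology_of_preservesMonos_and_cokernels _
  exact Functor.preservesFiniteLimits_of_preservesHomology _

theorem isIso_stalk_fst {X : Scheme.{u}} {Ω : Type u} [Field Ω] [IsSepClosed Ω]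
    (ξ : Spec (CommRingCat.of Ω) ⟶ X) {A B C : EtCoh.Ab X} (a : A ⟶ C) (b : B ⟶ C)
    (hb : IsIso ((EtCoh.stalk ξ).map b)) : IsIso ((EtCoh.stalk ξ).map (pullback.fst a b)) := by
  have := stalk_preservesFiniteLimits ξ
  exact MorphismProperty.of_isPullback (P := MorphismProperty.isomorphisms AddCommGrpCat.{u + 1})
    ((IsPullback.of_hasPullback a b).map (EtCoh.stalk ξ)).flip hb

theorem isIso_stalk_snd {X : Scheme.{u}} {Ω : Type u} [Field Ω] [IsSepClosed Ω]
    (ξ : Spec (CommRingCat.of Ω) ⟶ X) {A B C : EtCoh.Ab X} (a : A ⟶ C) (b : B ⟶ C)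
    (ha : IsIso ((EtCoh.stalk ξ).map a)) : IsIso ((EtCoh.stalk ξ).map (pullback.snd a b)) := by
  have := stalk_preservesFiniteLimits ξ
  exact MorphismProperty.of_isPullback (P := MorphismProperty.isomorphisms AddCommGrpCat.{u + 1})
    ((IsPullback.of_hasPullback a b).map (EtCoh.stalk ξ)) ha

variable {X Z U : Scheme.{u}} (i : Z ⟶ X) [IsClosedImmersion i] (j : U ⟶ X) [IsOpenImmersion j]
  (hZU : Set.range j.base = (Set.range i.base)ᶜ)
  {Ω : Type u} [Field Ω] [IsSepClosed Ω]

omit [IsOpenImmersion j] in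
theorem isIso_stalk_unit_closed (ζ : Spec (CommRingCat.of Ω) ⟶ Z) (F : EtCoh.Ab X) :
    IsIso ((EtCoh.stalk (ζ ≫ i)).map ((EtCoh.pullPushAdj i).unit.app F)) := by
  have := Integral.isIso_pushStalk i ζ ((EtCoh.pull i).obj F)
  have e : (EtCoh.stalk (ζ ≫ i)).map ((EtCoh.pullPushAdj i).unit.app F) ≫
      Integral.pushStalk i ζ ((EtCoh.pull i).obj F) = (stalkPullIso i ζ).inv.app F := by
    rw [Integral.pushStalk]
    erw [(stalkPullIso i ζ).inv.naturality_assoc ((EtCoh.pullPushAdj i).unit.app F)]
    refine (congrArg ((stalkPullIso i ζ).inv.app F ≫ ·) ?_).trans (Category.comp_id _)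
    show (EtCoh.stalk ζ).map ((EtCoh.pull i).map ((EtCoh.pullPushAdj i).unit.app F)) ≫
      (EtCoh.stalk ζ).map ((EtCoh.pullPushAdj i).counit.app ((EtCoh.pull i).obj F)) = _
    rw [← Functor.map_comp]
    exact (congrArg (EtCoh.stalk ζ).map ((EtCoh.pullPushAdj i).left_triangle_components F)).trans
      (CategoryTheory.Functor.map_id _ _)
  exact IsIso.of_isIso_fac_right e

omit [IsClosedImmersion i] in
theorem isIso_stalk_unit_open (u : Spec (CommRingCat.of Ω) ⟶ U) (F : EtCoh.Ab X) :
    IsIso ((EtCoh.stalk (u ≫ j)).map ((EtCoh.pullPushAdj j).unit.app F)) := by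
  have := isIso_counit_of_mono j ((EtCoh.pull j).obj F)
  have h := (EtCoh.pullPushAdj j).left_triangle_components F
  have : IsIso ((EtCoh.pullPushAdj j).counit.app ((EtCoh.pull j).obj F)) := isIso_counit_of_mono j _
  have : IsIso (𝟙 ((EtCoh.pull j).obj F)) := IsIso.id _
  have : IsIso ((EtCoh.pull j).map ((EtCoh.pullPushAdj j).unit.app F)) := IsIso.of_isIso_fac_right h
  exact (NatIso.isIso_map_iff (stalkPullIso j u) _).1
    (inferInstanceAs (IsIso ((EtCoh.stalk u).map ((EtCoh.pull j).map _))))

omit [IsSepClosed Ω] in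
include hZU in
theorem point_cases (ξ : Spec (CommRingCat.of Ω) ⟶ X) :
    (∃ ζ, ζ ≫ i = ξ) ∨ ((∃ u, u ≫ j = ξ) ∧ ξ.base default ∉ Set.range i.base) := by
  by_cases h : ξ.base default ∈ Set.range i.base
  · exact Or.inl (Groth.Agent.RedSepLib.exists_lift_of_range_subset ξ i (by
      rintro _ ⟨y, rfl⟩
      rwa [Subsingleton.elim y default]))
  · refine Or.inr ⟨⟨IsOpenImmersion.lift j ξ ?_, IsOpenImmersion.lift_fac _ _ _⟩, h⟩
    rintro _ ⟨y, rfl⟩
    rw [Subsingleton.elim y default, hZU]
    exact h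

theorem isIso_stalk_push_closed {A B : EtCoh.Ab Z} (a : A ⟶ B) (ξ : Spec (CommRingCat.of Ω) ⟶ X)
    (hξ : ξ.base default ∉ Set.range i.base) : IsIso ((EtCoh.stalk ξ).map ((EtCoh.push i).map a)) :=
  isIso_of_source_target_iso_zero _ (Integral.isZero_stalk_push i A ξ hξ).isoZero
    (Integral.isZero_stalk_push i B ξ hξ).isoZero

include hZU in
/-- a sheaf is the fibre product of its two pieces -/
theorem isPullback_units (F : EtCoh.Ab X) :
    IsPullback ((EtCoh.pullPushAdj i).unit.app F) ((EtCoh.pullPushAdj j).unit.app F)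
      ((EtCoh.push i).map ((EtCoh.pull i).map ((EtCoh.pullPushAdj j).unit.app F)))
      ((EtCoh.pullPushAdj i).unit.app ((EtCoh.push j).obj ((EtCoh.pull j).obj F))) := by
  let a := (EtCoh.pullPushAdj i).unit.app F
  let b := (EtCoh.pullPushAdj j).unit.app F
  let f := (EtCoh.push i).map ((EtCoh.pull i).map b)
  let g := (EtCoh.pullPushAdj i).unit.app ((EtCoh.push j).obj ((EtCoh.pull j).obj F))
  have w : a ≫ f = b ≫ g := ((EtCoh.pullPushAdj i).unit.naturality b).symm
  let c := pullback.lift a b w
  have : IsIso c := isIso_of_stalk c fun Ω _ _ ξ => by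
    rcases point_cases i j hZU ξ with ⟨ζ, rfl⟩ | ⟨⟨u, rfl⟩, hn⟩
    · have := isIso_stalk_fst (ζ ≫ i) f g (isIso_stalk_unit_closed i ζ _)
      have ha := isIso_stalk_unit_closed i ζ F
      have e : (EtCoh.stalk (ζ ≫ i)).map c ≫ (EtCoh.stalk (ζ ≫ i)).map (pullback.fst f g) =
          (EtCoh.stalk (ζ ≫ i)).map a := by rw [← Functor.map_comp, pullback.lift_fst]
      exact IsIso.of_isIso_fac_right e
    · have := isIso_stalk_snd (u ≫ j) f g (isIso_stalk_push_closed i _ _ hn)
      have hb := isIso_stalk_unit_open j u F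
      have e : (EtCoh.stalk (u ≫ j)).map c ≫ (EtCoh.stalk (u ≫ j)).map (pullback.snd f g) =
          (EtCoh.stalk (u ≫ j)).map b := by rw [← Functor.map_comp, pullback.lift_snd]
      exact IsIso.of_isIso_fac_right e
  exact IsPullback.of_iso_pullback ⟨w⟩ (asIso c) (pullback.lift_fst _ _ _) (pullback.lift_snd _ _ _)

include hZU in
theorem recollTriple_isEquivalence : (EtCore.recollTriple i j).IsEquivalence := by
  have hfaith : (EtCore.recollTriple i j).Faithful := ⟨fun {F F'} a b h => by
    refine (isPullback_units i j hZU F').hom_ext ?_ ?_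
    · refine ((EtCoh.pullPushAdj i).unit.naturality a).trans
        (Eq.trans ?_ ((EtCoh.pullPushAdj i).unit.naturality b).symm)
      exact congrArg (fun k => (EtCoh.pullPushAdj i).unit.app F ≫ (EtCoh.push i).map k)
        (congrArg CommaMorphism.left h)
    · refine ((EtCoh.pullPushAdj j).unit.naturality a).trans
        (Eq.trans ?_ ((EtCoh.pullPushAdj j).unit.naturality b).symm)
      exact congrArg (fun k => (EtCoh.pullPushAdj j).unit.app F ≫ (EtCoh.push j).map k)
        (congrArg CommaMorphism.right h)⟩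
  have hfull : (EtCore.recollTriple i j).Full := ⟨fun {F F'} m => by
    have sq := isPullback_units i j hZU F'
    let a : (EtCoh.pull i).obj F ⟶ (EtCoh.pull i).obj F' := m.left
    let b : (EtCoh.pull j).obj F ⟶ (EtCoh.pull j).obj F' := m.right
    have hm : a ≫ (EtCoh.pull i).map ((EtCoh.pullPushAdj j).unit.app F') =
        (EtCoh.pull i).map ((EtCoh.pullPushAdj j).unit.app F) ≫
          (EtCoh.pull i).map ((EtCoh.push j).map b) := m.w
    let x := (EtCoh.pullPushAdj i).unit.app F ≫ (EtCoh.push i).map a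
    let y := (EtCoh.pullPushAdj j).unit.app F ≫ (EtCoh.push j).map b
    have hxy : x ≫ (EtCoh.push i).map ((EtCoh.pull i).map ((EtCoh.pullPushAdj j).unit.app F')) =
        y ≫ (EtCoh.pullPushAdj i).unit.app ((EtCoh.push j).obj ((EtCoh.pull j).obj F')) := by
      rw [Category.assoc, ← Functor.map_comp, hm, ← Functor.map_comp]
      exact ((EtCoh.pullPushAdj i).unit.naturality y).symm
    refine ⟨sq.lift x y hxy, Comma.hom_ext _ _ ?_ ?_⟩
    · apply ((EtCoh.pullPushAdj i).homEquiv _ _).injective
      rw [Adjunction.homEquiv_unit, Adjunction.homEquiv_unit]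
      exact ((EtCoh.pullPushAdj i).unit.naturality _).symm.trans (sq.lift_fst x y hxy)
    · apply ((EtCoh.pullPushAdj j).homEquiv _ _).injective
      rw [Adjunction.homEquiv_unit, Adjunction.homEquiv_unit]
      exact ((EtCoh.pullPushAdj j).unit.naturality _).symm.trans (sq.lift_snd x y hxy)⟩
  have hess : (EtCore.recollTriple i j).EssSurj := ⟨fun T => by
    let G : EtCoh.Ab Z := T.left
    let H : EtCoh.Ab U := T.right
    let φ : G ⟶ (EtCoh.pull i).obj ((EtCoh.push j).obj H) := T.hom
    let f := (EtCoh.push i).map φ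
    let g := (EtCoh.pullPushAdj i).unit.app ((EtCoh.push j).obj H)
    let P := pullback f g
    let αi : (EtCoh.pull i).obj P ⟶ G := ((EtCoh.pullPushAdj i).homEquiv _ _).symm (pullback.fst f g)
    let αj : (EtCoh.pull j).obj P ⟶ H := ((EtCoh.pullPushAdj j).homEquiv _ _).symm (pullback.snd f g)
    have : IsIso αi := by
      have := Integral.isIso_counit i G
      have : IsIso ((EtCoh.pull i).map (pullback.fst f g)) := isIso_of_stalk _ fun Ω _ _ ζ =>
        (NatIso.isIso_map_iff (stalkPullIso i ζ) _).2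
          (isIso_stalk_fst (ζ ≫ i) f g (isIso_stalk_unit_closed i ζ _))
      show IsIso (((EtCoh.pullPushAdj i).homEquiv _ _).symm (pullback.fst f g))
      rw [Adjunction.homEquiv_counit]
      exact IsIso.comp_isIso
    have : IsIso αj := by
      have := isIso_counit_of_mono j H
      have : IsIso ((EtCoh.pull j).map (pullback.snd f g)) := isIso_of_stalk _ fun Ω _ _ u =>
        (NatIso.isIso_map_iff (stalkPullIso j u) _).2
          (isIso_stalk_snd (u ≫ j) f g (isIso_stalk_push_closed i _ _ (by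
            intro hn
            have h1 : j.base (u.base default) ∈ Set.range j.base := ⟨_, rfl⟩
            rw [hZU] at h1
            exact h1 hn)))
      show IsIso (((EtCoh.pullPushAdj j).homEquiv _ _).symm (pullback.snd f g))
      rw [Adjunction.homEquiv_counit]
      exact IsIso.comp_isIso
    refine ⟨P, ⟨Comma.isoMk (@asIso _ _ _ _ αi ‹IsIso αi›) (@asIso _ _ _ _ αj ‹IsIso αj›) ?_⟩⟩
    show αi ≫ φ = (EtCoh.pull i).map ((EtCoh.pullPushAdj j).unit.app P) ≫
      (EtCoh.pull i).map ((EtCoh.push j).map αj)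
    rw [← Functor.map_comp]
    apply ((EtCoh.pullPushAdj i).homEquiv _ _).injective
    rw [Adjunction.homEquiv_naturality_right, Equiv.apply_symm_apply, Adjunction.homEquiv_unit]
    have e : (EtCoh.pullPushAdj j).unit.app P ≫ (EtCoh.push j).map αj = pullback.snd f g :=
      ((EtCoh.pullPushAdj j).homEquiv_unit _ _ _).symm.trans (Equiv.apply_symm_apply _ _)
    rw [e]
    exact pullback.condition.trans ((EtCoh.pullPushAdj i).unit.naturality (pullback.snd f g))⟩
  exact { }

end Groth.Agent.EtSh
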