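import Groth.Agent.EtSh.FinitePush
import Groth.Agent.EtSh.Pull
import Groth.Agent.EtSh.StalkPts

/-!
# Direct images along finite morphisms covered by sections
-/

set_option autoImplicit false
set_option backward.isDefEq.respectTransparency.types false

universe u

open CategoryTheory CategoryTheory.Limits AlgebraicGeometry Opposite

namespace Groth.Agent.EtSh

open Groth.Agent.Weighting (GPts)

variable {X T : Scheme.{u}} (f : X ⟶ T) (σ : T ⟶ X) (hσ : σ ≫ f = 𝟙 T)

/-- the section over `V` of the base change -/
noncomputable def sectionInner (V : T.Etale) : V.left ⟶ pullback V.hom f :=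
  pullback.lift (𝟙 V.left) (V.hom ≫ σ) ((Category.id_comp _).trans
    (((Category.assoc _ _ _).trans ((congrArg (V.hom ≫ ·) hσ).trans (Category.comp_id _))).symm))

theorem sectionInner_fst (V : T.Etale) : sectionInner f σ hσ V ≫ pullback.fst V.hom f = 𝟙 V.left :=
  pullback.lift_fst _ _ _

theorem sectionInner_snd (V : T.Etale) : sectionInner f σ hσ V ≫ pullback.snd V.hom f = V.hom ≫ σ :=
  pullback.lift_snd _ _ _

/-- an étale `T`-scheme maps to the pullback of its base change along a section -/
noncomputable def sectionHom (V : T.Etale) : V ⟶ (EtCoh.bc σ).obj ((EtCoh.bc f).obj V) :=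
  MorphismProperty.Over.homMk
    (pullback.lift (sectionInner f σ hσ V) V.hom (sectionInner_snd f σ hσ V))
    (pullback.lift_snd _ _ _)

theorem sectionInner_naturality {V W : T.Etale} (g : V ⟶ W) (m : pullback V.hom f ⟶ pullback W.hom f)
    (h1 : m ≫ pullback.fst W.hom f = pullback.fst V.hom f ≫ g.left)
    (h2 : m ≫ pullback.snd W.hom f = pullback.snd V.hom f) :
    sectionInner f σ hσ V ≫ m = g.left ≫ sectionInner f σ hσ W := by
  refine pullback.hom_ext ?_ ?_
  · rw [Category.assoc, h1, ← Category.assoc, sectionInner_fst, Category.id_comp, Category.assoc,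
      sectionInner_fst]
    exact (Category.comp_id _).symm
  · rw [Category.assoc, h2, sectionInner_snd, Category.assoc, sectionInner_snd]
    exact (congrArg (· ≫ σ) (MorphismProperty.Over.w g).symm).trans (Category.assoc _ _ _)

theorem sectionHom_naturality {V W : T.Etale} (g : V ⟶ W) :
    sectionHom f σ hσ V ≫ (EtCoh.bc σ).map ((EtCoh.bc f).map g) = g ≫ sectionHom f σ hσ W := by
  refine MorphismProperty.Over.Hom.ext (pullback.hom_ext ?_ ?_)
  · exact (((Category.assoc _ _ _).trans
      ((congrArg ((sectionHom f σ hσ V).left ≫ ·) (EtCoh.isPullback_bc_map σ ((EtCoh.bc f).map g)).w).trans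
        ((Category.assoc _ _ _).symm.trans (congrArg (· ≫ ((EtCoh.bc f).map g).left) (pullback.lift_fst _ _ _))))).trans
      (sectionInner_naturality f σ hσ g ((EtCoh.bc f).map g).left (EtCoh.isPullback_bc_map f g).w
        (MorphismProperty.Over.w ((EtCoh.bc f).map g)))).trans
      (((Category.assoc _ _ _).trans (congrArg (g.left ≫ ·) (pullback.lift_fst _ _ _))).symm)
  · exact ((Category.assoc _ _ _).trans
      ((congrArg ((sectionHom f σ hσ V).left ≫ ·)
        (MorphismProperty.Over.w ((EtCoh.bc σ).map ((EtCoh.bc f).map g)))).trans (pullback.lift_snd _ _ _))).trans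
      (((Category.assoc _ _ _).trans ((congrArg (g.left ≫ ·) (pullback.lift_snd _ _ _)).trans
        (MorphismProperty.Over.w g))).symm)

/-- restriction of the direct image to a section -/
noncomputable def toPullSection (F : EtCoh.Ab X) : (EtCoh.push f).obj F ⟶ (EtCoh.pull σ).obj F where
  hom :=
    { app := fun V => ((EtCoh.pullPushAdj σ).unit.app F).hom.app (op ((EtCoh.bc f).obj V.unop)) ≫
        ((EtCoh.pull σ).obj F).obj.map (sectionHom f σ hσ V.unop).op
      naturality := fun V W g =>
        (Category.assoc _ _ _).symm.trans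
          ((congrArg (· ≫ ((EtCoh.pull σ).obj F).obj.map (sectionHom f σ hσ W.unop).op)
              (((EtCoh.pullPushAdj σ).unit.app F).hom.naturality ((EtCoh.bc f).map g.unop).op)).trans
            ((Category.assoc _ _ _).trans
              ((congrArg (((EtCoh.pullPushAdj σ).unit.app F).hom.app (op ((EtCoh.bc f).obj V.unop)) ≫ ·)
                ((((EtCoh.pull σ).obj F).obj.map_comp _ _).symm.trans
                  ((congrArg (fun k => ((EtCoh.pull σ).obj F).obj.map k)
                    (congrArg Quiver.Hom.op (sectionHom_naturality f σ hσ g.unop))).trans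
                      (((EtCoh.pull σ).obj F).obj.map_comp _ _)))).trans (Category.assoc _ _ _).symm))) }

theorem stalk_toPullSection {Ω : Type u} [Field Ω] [IsAlgClosed Ω] (η : Spec (CommRingCat.of Ω) ⟶ T)
    (F : EtCoh.Ab X) (p : ↑((EtCoh.stalk η).obj ((EtCoh.push f).obj F))) :
    (EtCoh.stalk η).map (toPullSection f σ hσ F) p =
      (stalkPullIso σ η).inv.app F
        (pushComp f F (⟨η ≫ σ, by rw [Category.assoc, hσ, Category.comp_id]⟩ : GPts f η) p) := by
  obtain ⟨V, v, r, rfl⟩ := germ_surjective _ p
  rw [pushComp_germ, stalk_map_germ, stalkPullIso_inv_germ]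
  refine (germ_map _ (sectionHom f σ hσ V) v _).trans ?_
  refine congrArg (fun o => germ η ((EtCoh.pull σ).obj F) o _) (Over.OverMorphism.ext ?_)
  refine pullback.hom_ext ?_ ?_
  · refine ((Category.assoc _ _ _).trans (congrArg (v.left ≫ ·) (pullback.lift_fst _ _ _))).trans
      (Eq.trans ?_ (pullback.lift_fst _ _ _).symm)
    refine pullback.hom_ext ?_ ?_
    · refine ((Category.assoc _ _ _).trans (congrArg (v.left ≫ ·) (pullback.lift_fst _ _ _))).trans
        ((Category.comp_id _).trans (pullback.lift_fst _ _ _).symm)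
    · refine ((Category.assoc _ _ _).trans (congrArg (v.left ≫ ·) (pullback.lift_snd _ _ _))).trans
        (((Category.assoc _ _ _).symm.trans (congrArg (· ≫ σ) (Over.w v))).trans (pullback.lift_snd _ _ _).symm)
  · exact ((Category.assoc _ _ _).trans (congrArg (v.left ≫ ·) (pullback.lift_snd _ _ _))).trans
      ((Over.w v).trans (pullback.lift_snd _ _ _).symm)

theorem stalk_biproduct_sum {Ω : Type u} [Field Ω] [IsSepClosed Ω] (η : Spec (CommRingCat.of Ω) ⟶ T)
    {n : ℕ} (A : Fin n → EtCoh.Ab T) (q : ↑((EtCoh.stalk η).obj (⨁ A))) :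
    ∑ i, (EtCoh.stalk η).map (biproduct.ι A i) ((EtCoh.stalk η).map (biproduct.π A i) q) = q := by
  have : PreservesColimitsOfSize.{0, 0} (EtCoh.stalk η) :=
    (Scheme.pointSmallEtale η).skyscraperSheafAdjunction.leftAdjoint_preservesColimits
  have : PreservesFiniteColimits (EtCoh.stalk η) := PreservesColimitsOfSize.preservesFiniteColimits _
  have := preservesBinaryBiproducts_of_preservesBinaryCoproducts (EtCoh.stalk η)
  have : (EtCoh.stalk η).Additive := Functor.additive_of_preservesBinaryBiproducts _
  have hS : ∀ t : Finset (Fin n), (EtCoh.stalk η).map (∑ i ∈ t, biproduct.π A i ≫ biproduct.ι A i) q =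
      ∑ i ∈ t, (EtCoh.stalk η).map (biproduct.ι A i) ((EtCoh.stalk η).map (biproduct.π A i) q) := fun t => by
    classical
    induction t using Finset.induction with
    | empty => simp
    | insert a t ha ih =>
      rw [Finset.sum_insert ha, Finset.sum_insert ha, Functor.map_add, Functor.map_comp, ← ih]
      rfl
  rw [← hS Finset.univ, biproduct.total, CategoryTheory.Functor.map_id]
  rfl

variable [IsFinite f]

/-- if finitely many sections give all geometric points of the fibres, the direct image is their sum -/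
theorem isIso_toPullSections {n : ℕ} (s : Fin n → (T ⟶ X)) (hs : ∀ i, s i ≫ f = 𝟙 T)
    (hbij : ∀ (Ω : Type u) [Field Ω] [IsAlgClosed Ω] (η : Spec (CommRingCat.of Ω) ⟶ T),
      Function.Bijective fun i => (⟨η ≫ s i, by rw [Category.assoc, hs, Category.comp_id]⟩ : GPts f η))
    (F : EtCoh.Ab X) :
    IsIso (biproduct.lift fun i => toPullSection f (s i) (hs i) F) := by
  classical
  refine isIso_of_stalk_exists _ fun y => ?_
  obtain ⟨K, _, _, η, hη⟩ := Groth.Agent.Weighting.exists_geomPoint y
  refine ⟨K, inferInstance, inferInstance, η, (congrArg η.base (Subsingleton.elim _ _)).trans hη, ?_⟩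
  rw [ConcreteCategory.isIso_iff_bijective]
  let A := fun i => (EtCoh.pull (s i)).obj F
  have hsum : ∀ q : ↑((EtCoh.stalk η).obj (⨁ A)), ∑ i, (EtCoh.stalk η).map (biproduct.ι A i) ((EtCoh.stalk η).map (biproduct.π A i) q) = q :=
    stalk_biproduct_sum η A
  have hcomp : ∀ i p, (EtCoh.stalk η).map (biproduct.π A i) ((EtCoh.stalk η).map (biproduct.lift fun i => toPullSection f (s i) (hs i) F) p) =
      (stalkPullIso (s i) η).inv.app F
        (pushComp f F (⟨η ≫ s i, by rw [Category.assoc, hs, Category.comp_id]⟩ : GPts f η) p) := fun i p => by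
    rw [← ConcreteCategory.comp_apply, ← Functor.map_comp, biproduct.lift_π]
    exact stalk_toPullSection f (s i) (hs i) η F p
  have hinv : ∀ i, Function.Bijective ((stalkPullIso (s i) η).inv.app F) := fun i =>
    ConcreteCategory.bijective_of_isIso _
  refine ⟨(injective_iff_map_eq_zero ((EtCoh.stalk η).map _).hom).2 fun p hp => ?_, fun q => ?_⟩
  · refine (bijective_pushComp f F).1 (funext fun ξ => ?_)
    obtain ⟨i, rfl⟩ := (hbij K η).2 ξ
    have h1 := hcomp i p
    rw [hp, map_zero] at h1
    refine (hinv i).1 ?_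
    simp only [map_zero]
    exact h1.symm
  · obtain ⟨p, hp⟩ : ∃ p, ∀ i, pushComp f F (⟨η ≫ s i, by rw [Category.assoc, hs, Category.comp_id]⟩ : GPts f η) p =
        (stalkPullIso (s i) η).hom.app F ((EtCoh.stalk η).map (biproduct.π A i) q) := by
      obtain ⟨e, he⟩ : ∃ e : Fin n ≃ GPts f η, ∀ i, e i = ⟨η ≫ s i, by rw [Category.assoc, hs, Category.comp_id]⟩ :=
        ⟨Equiv.ofBijective _ (hbij K η), fun i => rfl⟩
      let c : ∀ ξ : GPts f η, ↑((EtCoh.stalk ξ.1).obj F) := fun ξ =>
        Equiv.piCongrLeft (fun ξ : GPts f η => ↑((EtCoh.stalk ξ.1).obj F)) e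
          (fun i => (by rw [he i]; exact (stalkPullIso (s i) η).hom.app F ((EtCoh.stalk η).map (biproduct.π A i) q))) ξ
      obtain ⟨p, hp⟩ := (bijective_pushComp f F).2 c
      refine ⟨p, fun i => ?_⟩
      have := congrFun hp (e i)
      rw [show c (e i) = _ from Equiv.piCongrLeft_apply_apply _ e _ i] at this
      revert this
      generalize he i = hh
      revert hh
      generalize e i = ξ
      intro hh this
      subst hh
      exact this
    refine ⟨p, ?_⟩
    rw [← hsum ((EtCoh.stalk η).map _ p), ← hsum q]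
    refine Finset.sum_congr rfl fun i _ => congrArg _ ?_
    rw [hcomp, hp]
    exact congrArg (fun r : (EtCoh.stalk η).obj ((EtCoh.pull (s i)).obj F) ⟶ _ => r ((EtCoh.stalk η).map (biproduct.π A i) q))
      ((stalkPullIso (s i) η).hom_inv_id_app F)

end Groth.Agent.EtSh
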