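import Groth.Agent.EtSh.Stalks
import Groth.Agent.EtSh.Point
import Groth.Agent.EtSh.StalkCard
import Groth.Agent.EtSh.Supp
import Mathlib.CategoryTheory.CofilteredSystem
import Mathlib.CategoryTheory.Filtered.Final

/-!
# Specialisation maps between geometric points
-/

set_option autoImplicit false
set_option backward.isDefEq.respectTransparency.types false

universe u

open CategoryTheory CategoryTheory.Limits AlgebraicGeometry Opposite

namespace Groth.Agent.EtSh

variable {X : Scheme.{u}} {Ω Ω' : Type u} [Field Ω] [IsSepClosed Ω] [Field Ω'] [IsSepClosed Ω']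
  {ξ : Spec (CommRingCat.of Ω) ⟶ X} {ξ' : Spec (CommRingCat.of Ω') ⟶ X}

theorem exists_fib_map_fpt {U V : X.Etale} (g : V ⟶ U) (v : V.left) (t : Fib ξ U)
    (h : g.left.base v = fpt t) :
    ∃ s : Fib ξ V, (Scheme.pointSmallEtale ξ).fiber.map g s = t ∧ fpt s = v := by
  have := etale_left g
  obtain ⟨l, hl, hlv⟩ := Scheme.exists_fac_of_etale_of_isSepClosed g.left t.left v h
  refine ⟨Over.homMk l ?_, Over.OverMorphism.ext hl, hlv⟩
  change l ≫ V.hom = ξ
  rw [← MorphismProperty.Over.w g, reassoc_of% hl]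
  exact Over.w t

omit [IsSepClosed Ω'] in
theorem specializes_fpt_map {U V : X.Etale} (g : V ⟶ U) {a b : V.left} (h : a ⤳ b) :
    g.left.base a ⤳ g.left.base b :=
  h.map g.left.continuous

/-- a geometric point has only finitely many liftings generalising a given point -/
theorem finite_fib_specializes (V : X.Etale) (v : V.left) :
    {s : Fib ξ' V | fpt s ⤳ v}.Finite := by
  obtain ⟨A, hA, hxA, -⟩ := exists_isAffineOpen_mem_and_subset (x := V.hom.base v) (U := ⊤) trivial
  obtain ⟨W, hW, hvW, hWA⟩ := exists_isAffineOpen_mem_and_subset (x := v) (U := V.hom ⁻¹ᵁ A) hxA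
  by_cases hne : ∀ s : Fib ξ' V, ¬ fpt s ⤳ v
  · exact (Set.finite_empty).subset fun s hs => hne s hs
  obtain ⟨s₀, hs₀⟩ := not_forall_not.1 hne
  have : Etale V.hom := V.prop
  have : IsAffine W.toScheme := hW
  have : IsAffine A.toScheme := hA
  let p : W.toScheme ⟶ A.toScheme := V.hom.resLE A W hWA
  have hp : p ≫ A.ι = W.ι ≫ V.hom := Scheme.Hom.resLE_comp_ι _ _
  have : Etale (p ≫ A.ι) := by rw [hp]; infer_instance
  have : Etale p := Etale.of_comp p A.ι
  have hA' : Set.range ξ'.base ⊆ Set.range A.ι := by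
    rintro _ ⟨y, rfl⟩
    rw [Subsingleton.elim y default, ← hom_fpt s₀, Scheme.Opens.range_ι]
    exact hWA (hs₀.mem_open W.2 hvW)
  let a := IsOpenImmersion.lift A.ι ξ' hA'
  let π : pullback p a ⟶ Spec (CommRingCat.of Ω') := pullback.snd p a
  have : Etale π := MorphismProperty.pullback_snd _ _ ‹_›
  have : IsAffine (pullback p a) := inferInstance
  have := locallyQuasiFinite_of_etale π
  have : Finite ↥(pullback p a) := by
    have h := π.finite_preimage_singleton default
    have e : π.base ⁻¹' {default} = Set.univ := Set.eq_univ_of_forall fun _ => Subsingleton.elim _ _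
    exact Set.finite_univ_iff.1 (e ▸ h)
  have hW' : ∀ s : {s : Fib ξ' V | fpt s ⤳ v}, Set.range s.1.left.base ⊆ Set.range W.ι := by
    rintro ⟨s, hs⟩ _ ⟨y, rfl⟩
    have hy : s.left.base y = fpt s := congrArg s.left.base (Subsingleton.elim (α := PrimeSpectrum Ω') _ _)
    refine (Scheme.Opens.range_ι W).ge ?_
    show s.left.base y ∈ W
    rw [hy]
    exact hs.mem_open W.2 hvW
  let l : ∀ s : {s : Fib ξ' V | fpt s ⤳ v}, Spec (CommRingCat.of Ω') ⟶ W.toScheme := fun s =>
    IsOpenImmersion.lift W.ι s.1.left (hW' s)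
  have hl : ∀ s, l s ≫ W.ι = s.1.left := fun s => IsOpenImmersion.lift_fac _ _ _
  have hw : ∀ s, l s ≫ p = a := fun s => by
    rw [← cancel_mono A.ι, Category.assoc, hp, ← Category.assoc, hl]
    exact (Over.w s.1).trans (IsOpenImmersion.lift_fac _ _ _).symm
  let c : ∀ s, Spec (CommRingCat.of Ω') ⟶ pullback p a := fun s =>
    pullback.lift (l s) (𝟙 _) ((hw s).trans (Category.id_comp _).symm)
  refine Set.finite_coe_iff.1 (Finite.of_injective (fun s => (c s).base default) fun s₁ s₂ h => ?_)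
  have hc1 : IsClosedImmersion (c s₁ ≫ π) := by
    rw [show c s₁ ≫ π = 𝟙 _ from pullback.lift_snd _ _ _]
    infer_instance
  have : IsClosedImmersion (c s₁) := IsClosedImmersion.of_comp (c s₁) π
  obtain ⟨w, hw'⟩ := exists_lift_immersion (c s₁) (c s₂) ⟨default, h⟩
  have hw1 : w = 𝟙 _ := by
    have := congrArg (· ≫ π) hw'
    simpa only [c, π, Category.assoc, pullback.lift_snd, Category.comp_id] using this
  rw [hw1, Category.id_comp] at hw'
  refine Subtype.ext (Over.OverMorphism.ext ?_)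
  have h3 := congrArg (fun k : Spec (CommRingCat.of Ω') ⟶ pullback p a => k ≫ pullback.fst p a ≫ W.ι) hw'
  simp only [c, pullback.lift_fst_assoc, hl] at h3
  exact h3

/-- every specialisation of points is induced by a map of geometric points -/
theorem exists_specialization {U : X.Etale} (t : Fib ξ U) (t' : Fib ξ' U) (h : fpt t' ⤳ fpt t) :
    ∃ φ : Scheme.pointSmallEtale ξ' ⟶ Scheme.pointSmallEtale ξ, φ.hom.app U t = t' := by
  let F := (Scheme.pointSmallEtale ξ).fiber
  let F' := (Scheme.pointSmallEtale ξ').fiber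
  let e₀ : F.Elements := Functor.elementsMk F U t
  let G : Over e₀ ⥤ Type u :=
    { obj := fun o => {s : Fib ξ' o.left.1 // fpt s ⤳ fpt o.left.2 ∧ F'.map o.hom.1 s = t'}
      map := fun {o o'} k => ↾fun s => ⟨F'.map k.left.1 s.1, by
        have h1 := specializes_fpt_map k.left.1 s.2.1
        rw [← map_fpt, ← map_fpt] at h1
        have h2 : F.map k.left.1 o.left.2 = o'.left.2 := k.left.2
        rw [h2] at h1
        exact h1, by
        have hk : k.left.1 ≫ o'.hom.1 = o.hom.1 := congrArg Subtype.val (Over.w k)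
        rw [← Functor.map_comp_apply, hk]
        exact s.2.2⟩
      map_id := fun o => by
        ext s
        exact F'.map_id_apply o.left.1 s.1
      map_comp := fun a b => by
        ext s
        exact F'.map_comp_apply a.left.1 b.left.1 s.1 }
  have : ∀ o : Over e₀, Finite (G.obj o) := fun o =>
    @Finite.of_injective _ _ (Set.finite_coe_iff.2 (finite_fib_specializes (ξ' := ξ') o.left.1 (fpt o.left.2)))
      (fun s : G.obj o => (⟨s.1, s.2.1⟩ : {s : Fib ξ' o.left.1 | fpt s ⤳ fpt o.left.2}))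
      fun a b hab => Subtype.ext (congrArg (fun r => r.1) hab)
  have : ∀ o : Over e₀, Nonempty (G.obj o) := fun o => by
    have := etale_left o.hom.1
    have h1 : F.map o.hom.1 o.left.2 = t := o.hom.2
    have h2 : fpt t' ⤳ o.hom.1.left.base (fpt o.left.2) := by rw [← map_fpt, h1]; exact h
    obtain ⟨v, hv, hv'⟩ := Flat.generalizingMap (f := o.hom.1.left) h2
    obtain ⟨s, hs, hsv⟩ := exists_fib_map_fpt o.hom.1 v t' hv'
    exact ⟨⟨s, hsv ▸ hv, hs⟩⟩
  obtain ⟨σ, hσ⟩ := nonempty_sections_of_finite_cofiltered_system G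
  let val : ∀ (o : Over e₀) {V : X.Etale} {s : Fib ξ V}, (o.left ⟶ Functor.elementsMk F V s) → Fib ξ' V :=
    fun o V s b => F'.map b.1 (σ o).1
  have hk : ∀ {o o' : Over e₀} (k : o ⟶ o'), F'.map k.left.1 (σ o).1 = (σ o').1 := fun k =>
    congrArg Subtype.val (hσ k)
  have key : ∀ (o₁ o₂ : Over e₀) {V : X.Etale} {s : Fib ξ V} (b₁ : o₁.left ⟶ Functor.elementsMk F V s)
      (b₂ : o₂.left ⟶ Functor.elementsMk F V s), val o₁ b₁ = val o₂ b₂ := by
    intro o₁ o₂ V s b₁ b₂
    obtain ⟨o, k₁, k₂, -⟩ := IsCofilteredOrEmpty.cone_objs o₁ o₂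
    let c := IsCofiltered.eqHom (k₁.left ≫ b₁) (k₂.left ≫ b₂)
    let o' : Over e₀ := Over.mk (c ≫ o.hom)
    let k : o' ⟶ o := Over.homMk c rfl
    show F'.map b₁.1 (σ o₁).1 = F'.map b₂.1 (σ o₂).1
    rw [← hk (k ≫ k₁), ← hk (k ≫ k₂), ← Functor.map_comp_apply, ← Functor.map_comp_apply]
    refine congrArg (fun m : o'.left.1 ⟶ V => F'.map m (σ o').1) ?_
    have := congrArg Subtype.val (IsCofiltered.eq_condition (k₁.left ≫ b₁) (k₂.left ≫ b₂))
    exact (Category.assoc _ _ _).trans (this.trans (Category.assoc _ _ _).symm)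
  have hex : ∀ (V : X.Etale) (s : Fib ξ V), ∃ o : Over e₀, Nonempty (o.left ⟶ Functor.elementsMk F V s) :=
    fun V s => by
      obtain ⟨E, a, b, -⟩ := IsCofilteredOrEmpty.cone_objs e₀ (Functor.elementsMk F V s)
      exact ⟨Over.mk a, ⟨b⟩⟩
  choose o hb using hex
  refine ⟨⟨{ app := fun V => ↾fun s => val (o V s) (hb V s).some
             naturality := fun {V W} g => by
              ext s
              show val (o W (F.map g s)) (hb W (F.map g s)).some = F'.map g (val (o V s) (hb V s).some)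
              let b' : (o V s).left ⟶ Functor.elementsMk F W (F.map g s) :=
                (hb V s).some ≫ CategoryOfElements.homMk (Functor.elementsMk F V s)
                  (Functor.elementsMk F W (F.map g s)) g rfl
              rw [key _ (o V s) _ b']
              exact F'.map_comp_apply _ _ _ }⟩, ?_⟩
  show val (o U t) (hb U t).some = t'
  rw [key _ (Over.mk (𝟙 e₀)) _ (𝟙 e₀)]
  refine Eq.trans ?_ (σ (Over.mk (𝟙 e₀))).2.2
  rfl

/-- maps of geometric points go to generalisations -/
theorem specializes_of_hom (φ : Scheme.pointSmallEtale ξ' ⟶ Scheme.pointSmallEtale ξ) {U : X.Etale}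
    (t : Fib ξ U) : fpt (φ.hom.app U t) ⤳ fpt t := by
  rw [specializes_iff_forall_open]
  intro O hO ht
  have : Etale U.hom := U.prop
  let O' : Scheme.Opens U.left := ⟨O, hO⟩
  let V : X.Etale := Scheme.Etale.mk (O'.ι ≫ U.hom)
  let g : V ⟶ U := MorphismProperty.Over.homMk O'.ι rfl
  obtain ⟨s, rfl⟩ := exists_fib_map g ⟨fpt t, ht⟩ t rfl
  rw [NatTrans.naturality_apply φ.hom g s, map_fpt]
  exact (fpt (φ.hom.app V s)).2

theorem sheafFiber_germ (φ : Scheme.pointSmallEtale ξ' ⟶ Scheme.pointSmallEtale ξ) (F : EtCoh.Ab X)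
    {U : X.Etale} (t : Fib ξ U) (s : EtCoh.sect F U) :
    (GrothendieckTopology.Point.Hom.sheafFiber (A := AddCommGrpCat.{u + 1}) φ).app F (germ ξ F t s) =
      germ ξ' F (φ.hom.app U t) s :=
  congrArg (fun k : F.obj.obj (op U) ⟶ (EtCoh.stalk ξ').obj F => k s)
    ((Scheme.pointSmallEtale ξ).toPresheafFiber_presheafFiberDesc (P := F.obj) _ _ U t)

end Groth.Agent.EtSh
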