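import Groth.Agent.EtSh.Stalks
import Groth.Agent.CohAcyc.Abstract
import Groth.Agent.Hensel.EtaleLift

/-!
# Abelian étale sheaves on strictly henselian local schemes
-/

set_option autoImplicit false
set_option backward.isDefEq.respectTransparency.types false

universe u

open CategoryTheory CategoryTheory.Limits CategoryTheory.Abelian AlgebraicGeometry Opposite

namespace Groth.Agent.EtSh

/-- the base is terminal in the small étale site -/
noncomputable def topTerminal (X : Scheme.{u}) : IsTerminal (EtCoh.top X) :=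
  IsTerminal.ofUniqueHom (fun U => MorphismProperty.Over.homMk U.hom (Category.comp_id _))
    fun U g => MorphismProperty.Over.Hom.ext ((Category.comp_id g.left).symm.trans (Over.w g.hom))

/-- cohomology vanishes in positive degrees when global sections are exact -/
theorem subsingleton_H_succ {X : Scheme.{u}}
    (h : ∀ {F G : EtCoh.Ab X} (φ : F ⟶ G), Epi φ → Function.Surjective (φ.hom.app (op (EtCoh.top X))))
    (n : ℕ) (F : EtCoh.Ab X) : Subsingleton (EtCoh.H X F (n + 1)) := by
  induction n generalizing F with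
  | zero =>
    let S := ShortComplex.mk (Injective.ι F) (cokernel.π (Injective.ι F)) (cokernel.condition _)
    have hS : S.ShortExact :=
      { exact := S.exact_of_g_is_cokernel (cokernelIsCokernel _)
        mono_f := inferInstanceAs (Mono (Injective.ι F))
        epi_g := inferInstanceAs (Epi (cokernel.π (Injective.ι F))) }
    refine CohAcyc.subsingleton_one_of_lift hS
      (inferInstanceAs (Subsingleton (EtCoh.H X (Injective.under F) (0 + 1)))) fun s => ?_
    let hT := topTerminal X
    obtain ⟨a, ha⟩ := h S.g hS.epi_g (Sheaf.H.equiv₀ S.X₃ hT (Ext.addEquiv₀.symm s))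
    refine ⟨Ext.addEquiv₀ ((Sheaf.H.equiv₀ S.X₂ hT).symm a), ?_⟩
    rw [← Sheaf.H.addEquiv₀_map]
    have := Sheaf.H.equiv₀_naturality hT S.g ((Sheaf.H.equiv₀ S.X₂ hT).symm a)
    rw [AddEquiv.apply_symm_apply, ha] at this
    rw [← (Sheaf.H.equiv₀ S.X₃ hT).injective this, AddEquiv.apply_symm_apply]
  | succ n ih =>
    let S := ShortComplex.mk (Injective.ι F) (cokernel.π (Injective.ι F)) (cokernel.condition _)
    have hS : S.ShortExact :=
      { exact := S.exact_of_g_is_cokernel (cokernelIsCokernel _)
        mono_f := inferInstanceAs (Mono (Injective.ι F))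
        epi_g := inferInstanceAs (Epi (cokernel.π (Injective.ι F))) }
    exact CohAcyc.subsingleton_succ_of_ses hS (ih _)
      (inferInstanceAs (Subsingleton (EtCoh.H X (Injective.under F) (n + 1 + 1))))

variable (R : Type u) [CommRing R] [HenselianLocalRing R] [IsSepClosed (IsLocalRing.ResidueField R)]

/-- the closed point of `Spec R` as geometric point -/
noncomputable abbrev closedPt :
    Spec (CommRingCat.of (IsLocalRing.ResidueField R)) ⟶ Spec (CommRingCat.of R) :=
  Spec.map (CommRingCat.ofHom (IsLocalRing.residue R))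

/-- the tautological lifting -/
noncomputable def topFib : Fib (closedPt R) (EtCoh.top (Spec (CommRingCat.of R))) :=
  Over.homMk (closedPt R) (Category.comp_id _)

/-- étale neighbourhoods of the closed point have sections -/
theorem exists_section (U : (Spec (CommRingCat.of R)).Etale) (t : Fib (closedPt R) U) :
    ∃ s : EtCoh.top (Spec (CommRingCat.of R)) ⟶ U,
      (Scheme.pointSmallEtale (closedPt R)).fiber.map s (topFib R) = t := by
  haveI : Etale U.hom := U.prop
  obtain ⟨U₀, hU₀, htU₀, -⟩ := exists_isAffineOpen_mem_and_subset (x := fpt t) (U := ⊤) trivial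
  let E := Γ(U.left, U₀)
  let φ : CommRingCat.of R ⟶ E := Spec.preimage (hU₀.fromSpec ≫ U.hom)
  have hφ : Spec.map φ = hU₀.fromSpec ≫ U.hom := Spec.map_preimage _
  have het : φ.hom.Etale := by
    rw [← HasRingHomProperty.Spec_iff (P := @Etale), hφ]
    infer_instance
  letI : Algebra R E := φ.hom.toAlgebra
  haveI : Algebra.Etale R E := het
  let k := CommRingCat.of (IsLocalRing.ResidueField R)
  let tl : Spec k ⟶ U.left := t.left
  have hr : Set.range tl ⊆ Set.range hU₀.fromSpec := by
    rintro _ ⟨y, rfl⟩
    rw [hU₀.range_fromSpec, Subsingleton.elim y default]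
    exact htU₀
  let t' : Spec k ⟶ Spec E := IsOpenImmersion.lift hU₀.fromSpec tl hr
  let σ₀ : E ⟶ k := Spec.preimage t'
  have ht' : Spec.map σ₀ ≫ hU₀.fromSpec = tl := by
    rw [Spec.map_preimage]
    exact IsOpenImmersion.lift_fac _ _ _
  have hcomm : φ ≫ σ₀ = CommRingCat.ofHom (IsLocalRing.residue R) := by
    apply Spec.map_injective
    rw [Spec.map_comp, hφ, reassoc_of% ht']
    exact Over.w t
  let σ : E →ₐ[R] IsLocalRing.ResidueField R :=
    { σ₀.hom with commutes' := fun r => congrArg (fun a : CommRingCat.of R ⟶ k => a r) hcomm }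
  obtain ⟨τ, hτ, -⟩ := Groth.Agent.Hensel.existsUnique_algHom_of_residueField (S := R) E σ
  let τ' : E ⟶ CommRingCat.of R := CommRingCat.ofHom τ.toRingHom
  have hs : (Spec.map τ' ≫ hU₀.fromSpec) ≫ U.hom = 𝟙 _ := by
    rw [Category.assoc, ← hφ, ← Spec.map_comp, ← Spec.map_id]
    congr 1
    ext r
    exact τ.commutes r
  refine ⟨MorphismProperty.Over.homMk (Spec.map τ' ≫ hU₀.fromSpec) hs, Over.OverMorphism.ext ?_⟩
  show closedPt R ≫ Spec.map τ' ≫ hU₀.fromSpec = tl
  rw [← Spec.map_comp_assoc, ← ht']
  congr 2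
  ext x
  exact hτ x

theorem bijective_germ_top (F : EtCoh.Ab (Spec (CommRingCat.of R))) :
    Function.Bijective (germ (closedPt R) F (topFib R)) := by
  refine ⟨fun a b hab => ?_, fun p => ?_⟩
  · obtain ⟨W, g, w, hw, h⟩ := (germ_eq_iff F (topFib R) a b).1 hab
    obtain ⟨t, ht⟩ := exists_fib_map g w (topFib R) hw
    obtain ⟨s, hs⟩ := exists_section R W t
    have e : s ≫ g = 𝟙 _ := (topTerminal _).hom_ext _ _
    have := congrArg (F.obj.map s.op) h
    rw [← ConcreteCategory.comp_apply, ← ConcreteCategory.comp_apply, ← F.obj.map_comp, ← op_comp, e,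
      op_id, F.obj.map_id] at this
    exact this
  · obtain ⟨U, t, r, rfl⟩ := germ_surjective F p
    obtain ⟨s, hs⟩ := exists_section R U t
    exact ⟨F.obj.map s.op r, by rw [germ_map, hs]⟩

theorem surjective_app_top {F G : EtCoh.Ab (Spec (CommRingCat.of R))} (φ : F ⟶ G) (hφ : Epi φ) :
    Function.Surjective (φ.hom.app (op (EtCoh.top (Spec (CommRingCat.of R))))) := by
  intro b
  haveI := hφ
  haveI : (EtCoh.stalk (closedPt R)).PreservesEpimorphisms :=
    Functor.preservesEpimorphisms_of_adjunction
      ((Scheme.pointSmallEtale (closedPt R)).skyscraperSheafAdjunction (A := AddCommGrpCat.{u + 1}))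
  obtain ⟨p, hp⟩ := (AddCommGrpCat.epi_iff_surjective ((EtCoh.stalk (closedPt R)).map φ)).1 inferInstance
    (germ (closedPt R) G (topFib R) b)
  obtain ⟨a, rfl⟩ := (bijective_germ_top R F).2 p
  rw [stalk_map_germ] at hp
  exact ⟨a, (bijective_germ_top R G).1 hp⟩

end Groth.Agent.EtSh
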