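import Groth.Agent.EtSh.ClosedPush
import Groth.Agent.TopInvHomeo.Basic
import Groth.Agent.FlatBasics.UnivHomeo
import Mathlib.AlgebraicGeometry.Gluing
import Mathlib.AlgebraicGeometry.Restrict

/-!
# Topological invariance of the small étale site: gluing local lifts
-/

set_option autoImplicit false
set_option backward.isDefEq.respectTransparency.types false

universe u

open CategoryTheory CategoryTheory.Limits AlgebraicGeometry Opposite TopologicalSpace

namespace Groth.Agent.EtSh

theorem oi_comp {A B C : Scheme.{u}} {f : A ⟶ B} {g : B ⟶ C} (hf : IsOpenImmersion f)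
    (hg : IsOpenImmersion g) : IsOpenImmersion (f ≫ g) := inferInstance

theorem oi_of_isIso {A B : Scheme.{u}} {f : A ⟶ B} (hf : IsIso f) : IsOpenImmersion f := inferInstance

theorem ui_comp {A B C : Scheme.{u}} {f : A ⟶ B} {g : B ⟶ C} (hf : IsOpenImmersion f)
    (hg : UniversallyInjective g) : UniversallyInjective (f ≫ g) :=
  MorphismProperty.comp_mem _ f g (inferInstance : UniversallyInjective f) hg

section Sub

variable {Y : Scheme.{u}}

/-- étale objects with open immersions of the same range into a common object are isomorphic -/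
theorem exists_iso_of_range_eq {T A B : Y.Etale} (a : A ⟶ T) (b : B ⟶ T) [IsOpenImmersion a.left]
    [IsOpenImmersion b.left] (h : Set.range a.left = Set.range b.left) :
    ∃ e : A ≅ B, e.hom ≫ b = a :=
  ⟨MorphismProperty.Over.isoMk (IsOpenImmersion.isoOfRangeEq a.left b.left h) (by
      rw [← MorphismProperty.Over.w b, ← Category.assoc, IsOpenImmersion.isoOfRangeEq_hom_fac]
      exact MorphismProperty.Over.w a),
    MorphismProperty.Over.Hom.ext (IsOpenImmersion.isoOfRangeEq_hom_fac a.left b.left h)⟩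

end Sub

variable {S' S : Scheme.{u}} (i : S' ⟶ S)

theorem isOpenImmersion_bc_map {V V' : S.Etale} (g : V' ⟶ V) [IsOpenImmersion g.left] :
    IsOpenImmersion ((EtCoh.bc i).map g).left :=
  MorphismProperty.of_isPullback (P := @IsOpenImmersion) (EtCoh.isPullback_bc_map i g).flip ‹_›

theorem range_bc_map {V V' : S.Etale} (g : V' ⟶ V) :
    Set.range ((EtCoh.bc i).map g).left =
      (pullback.fst V.hom i : ((EtCoh.bc i).obj V).left ⟶ V.left) ⁻¹' Set.range g.left := by
  refine Set.Subset.antisymm ?_ fun x hx => ?_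
  · rintro _ ⟨w, rfl⟩
    exact ⟨_, (bc_fst_map i g w).symm⟩
  · obtain ⟨v', hv'⟩ := hx
    obtain ⟨w, hw1, -⟩ := Scheme.Pullback.exists_preimage_pullback
      (f := (pullback.fst V.hom i : ((EtCoh.bc i).obj V).left ⟶ V.left)) (g := g.left) x v' hv'.symm
    let sq := EtCoh.isPullback_bc_map i g
    refine ⟨sq.isoPullback.inv w, ?_⟩
    rw [← hw1, ← Scheme.Hom.comp_apply]
    show (sq.isoPullback.inv ≫ ((EtCoh.bc i).map g).left) w = _
    rw [IsPullback.isoPullback_inv_fst]
    rfl

variable [IsIntegralHom i] [UniversallyInjective i] [Surjective i]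

omit [IsIntegralHom i] in
theorem bijective_bc_fst (V : S.Etale) :
    Function.Bijective (pullback.fst V.hom i : ((EtCoh.bc i).obj V).left ⟶ V.left) :=
  ⟨(haveI : UniversallyInjective (pullback.fst V.hom i) :=
      MorphismProperty.pullback_fst (P := @UniversallyInjective) V.hom i ‹_›
    (pullback.fst V.hom i).injective),
    (MorphismProperty.pullback_fst (P := @Surjective) V.hom i ‹_› :
      Surjective (pullback.fst V.hom i)).surj⟩

theorem exists_open_preimage_of_univHomeo (V : S.Etale) (O : ((EtCoh.bc i).obj V).left.Opens) :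
    ∃ O' : V.left.Opens,
      (pullback.fst V.hom i : ((EtCoh.bc i).obj V).left ⟶ V.left) ⁻¹ᵁ O' = O := by
  have hi : IsIntegralHom (pullback.fst V.hom i) := MorphismProperty.pullback_fst _ _ inferInstance
  let p : ((EtCoh.bc i).obj V).left ⟶ V.left := pullback.fst V.hom i
  have hc : Topology.IsClosedEmbedding p :=
    .of_continuous_injective_isClosedMap p.continuous (bijective_bc_fst i V).1
      (haveI : IsIntegralHom p := hi; p.isClosedMap)
  obtain ⟨T, hT, hTO⟩ := hc.isInducing.isOpen_iff.1 O.2
  exact ⟨⟨T, hT⟩, TopologicalSpace.Opens.ext hTO⟩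

theorem bijective_bc_map (Y X : S.Etale) :
    Function.Bijective (fun φ : Y ⟶ X => (EtCoh.bc i).map φ) := by
  haveI : Etale X.hom := X.prop
  haveI : Etale X.toComma.hom := X.prop
  have h := Groth.Agent.TopInvHomeo.bijective_pullback_map i X.toComma Y.toComma
  constructor
  · intro φ φ' e
    refine MorphismProperty.Over.Hom.ext ?_
    exact congrArg CommaMorphism.left (h.1 (show (Over.pullback i).map φ.hom = (Over.pullback i).map φ'.hom from
      Over.OverMorphism.ext (congrArg (fun k : (EtCoh.bc i).obj Y ⟶ (EtCoh.bc i).obj X => k.left) e)))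
  · intro ψ
    obtain ⟨φ, hφ⟩ := h.2 ψ.hom
    refine ⟨MorphismProperty.Over.homMk φ.left (Over.w φ), MorphismProperty.Over.Hom.ext ?_⟩
    exact congrArg CommaMorphism.left hφ

/-- base change along a universal homeomorphism is fully faithful on small étale sites -/
noncomputable def bcFullyFaithful : (EtCoh.bc i).FullyFaithful where
  preimage {Y X} ψ := Classical.choose ((bijective_bc_map i Y X).2 ψ)
  map_preimage {Y X} ψ := Classical.choose_spec ((bijective_bc_map i Y X).2 ψ)
  preimage_map {Y X} φ := (bijective_bc_map i Y X).1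
    (Classical.choose_spec ((bijective_bc_map i Y X).2 ((EtCoh.bc i).map φ)))

variable (E : S'.Etale)

/-- open pieces of `E` which come from `S` -/
def Lifts : Type u := {O : E.left.Opens // ∃ V : S.Etale, Nonempty ((EtCoh.bc i).obj V ≅ openObj E O)}

instance : PartialOrder (Lifts i E) := Subtype.partialOrder _

variable {i E}

omit [IsIntegralHom i] [UniversallyInjective i] [Surjective i] in
theorem openHom_isOpenImmersion {Y : Scheme.{u}} (T : Y.Etale) (O : T.left.Opens) :
    IsOpenImmersion (openHom T O).left :=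
  inferInstanceAs (IsOpenImmersion O.ι)

theorem lifts_of_le {O W : E.left.Opens} (hWO : W ≤ O)
    (hO : ∃ V : S.Etale, Nonempty ((EtCoh.bc i).obj V ≅ openObj E O)) :
    ∃ V : S.Etale, Nonempty ((EtCoh.bc i).obj V ≅ openObj E W) := by
  obtain ⟨V, ⟨e⟩⟩ := hO
  let k : (EtCoh.bc i).obj V ⟶ E := e.hom ≫ openHom E O
  haveI : IsIso e.hom.left := ((MorphismProperty.Over.forget _ _ _ ⋙ Over.forget _).mapIso e).isIso_hom
  haveI hk : IsOpenImmersion k.left := oi_comp (f := e.hom.left) (g := O.ι) (oi_of_isIso ‹_›) (openHom_isOpenImmersion E O)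
  obtain ⟨W', hW'⟩ := exists_open_preimage_of_univHomeo i V (k.left ⁻¹ᵁ W)
  haveI := openHom_isOpenImmersion V W'
  haveI := openHom_isOpenImmersion E W
  haveI := isOpenImmersion_bc_map i (openHom V W')
  let a : (EtCoh.bc i).obj (openObj V W') ⟶ E := (EtCoh.bc i).map (openHom V W') ≫ k
  haveI : IsOpenImmersion a.left :=
    IsOpenImmersion.comp ((EtCoh.bc i).map (openHom V W')).left k.left
  have hr : Set.range a.left = Set.range (openHom E W).left := by
    show Set.range (((EtCoh.bc i).map (openHom V W')).left ≫ k.left) = Set.range W.ι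
    have hcomp : ∀ w, (((EtCoh.bc i).map (openHom V W')).left ≫ k.left) w =
        k.left (((EtCoh.bc i).map (openHom V W')).left w) := fun w => Scheme.Hom.comp_apply _ _ _
    rw [funext hcomp]
    show Set.range (k.left ∘ ((EtCoh.bc i).map (openHom V W')).left) = _
    rw [Set.range_comp, range_bc_map, Scheme.Opens.range_ι]
    have h1 : (pullback.fst V.hom i : ((EtCoh.bc i).obj V).left ⟶ V.left) ⁻¹' Set.range (openHom V W').left
        = k.left ⁻¹' (W : Set E.left) := by
      show _ ⁻¹' Set.range W'.ι = _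
      rw [Scheme.Opens.range_ι]
      exact congrArg SetLike.coe hW'
    rw [h1, Set.image_preimage_eq_inter_range, Set.inter_eq_left]
    intro x hx
    refine ⟨e.inv.left ⟨x, hWO hx⟩, ?_⟩
    show (e.hom.left ≫ O.ι) (e.inv.left ⟨x, hWO hx⟩) = x
    rw [← Scheme.Hom.comp_apply]
    have h2 : e.inv.left ≫ e.hom.left ≫ O.ι = O.ι := by
      rw [← Category.assoc]
      exact (congrArg (· ≫ O.ι) (congrArg (fun q : openObj E O ⟶ openObj E O => q.left) e.inv_hom_id)).trans
        (Category.id_comp _)
    exact congrArg (fun q : (O : Scheme.{u}) ⟶ E.left => q ⟨x, hWO hx⟩) h2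
  exact ⟨openObj V W', ⟨(exists_iso_of_range_eq a (openHom E W) hr).choose⟩⟩

variable (i E)

/-- the chosen lift -/
noncomputable def liftObj (O : Lifts i E) : S.Etale := O.2.choose

/-- its comparison -/
noncomputable def liftIso (O : Lifts i E) : (EtCoh.bc i).obj (liftObj i E O) ≅ openObj E O.1 :=
  O.2.choose_spec.some

/-- inclusion of open pieces -/
noncomputable def openIncl {O O' : Lifts i E} (h : O ≤ O') : openObj E O.1 ⟶ openObj E O'.1 :=
  MorphismProperty.Over.homMk (E.left.homOfLE h) (by
    show E.left.homOfLE _ ≫ O'.1.ι ≫ E.hom = O.1.ι ≫ E.hom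
    rw [Scheme.homOfLE_ι_assoc])

/-- the diagram of lifts -/
noncomputable def liftFunctor : Lifts i E ⥤ S.Etale where
  obj := liftObj i E
  map {O O'} h := (bcFullyFaithful i).preimage
    ((liftIso i E O).hom ≫ openIncl i E (leOfHom h) ≫ (liftIso i E O').inv)
  map_id O := (bcFullyFaithful i).map_injective (by
    rw [(bcFullyFaithful i).map_preimage, CategoryTheory.Functor.map_id]
    have : openIncl i E (le_refl O) = 𝟙 _ :=
      MorphismProperty.Over.Hom.ext (E.left.homOfLE_rfl O.1)
    rw [this, Category.id_comp, Iso.hom_inv_id])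
  map_comp {O O' O''} h h' := (bcFullyFaithful i).map_injective (by
    rw [(bcFullyFaithful i).map_preimage, Functor.map_comp, (bcFullyFaithful i).map_preimage,
      (bcFullyFaithful i).map_preimage]
    have : openIncl i E (leOfHom (h ≫ h')) = openIncl i E (leOfHom h) ≫ openIncl i E (leOfHom h') :=
      MorphismProperty.Over.Hom.ext (E.left.homOfLE_homOfLE (leOfHom h) (leOfHom h')).symm
    rw [this]
    simp only [Category.assoc, Iso.inv_hom_id_assoc])

theorem bc_map_liftFunctor {O O' : Lifts i E} (h : O ⟶ O') :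
    (EtCoh.bc i).map ((liftFunctor i E).map h) =
      (liftIso i E O).hom ≫ openIncl i E (leOfHom h) ≫ (liftIso i E O').inv :=
  (bcFullyFaithful i).map_preimage _

theorem isOpenImmersion_liftFunctor_map {O O' : Lifts i E} (h : O ⟶ O') :
    IsOpenImmersion ((liftFunctor i E).map h).left := by
  let f := ((liftFunctor i E).map h).left
  haveI hfe : Etale f := etale_left _
  let p : ((EtCoh.bc i).obj ((liftFunctor i E).obj O)).left ⟶ ((liftFunctor i E).obj O).left :=
    pullback.fst _ i
  let p' : ((EtCoh.bc i).obj ((liftFunctor i E).obj O')).left ⟶ ((liftFunctor i E).obj O').left :=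
    pullback.fst _ i
  haveI : Surjective p := MorphismProperty.pullback_fst (P := @Surjective) _ _ inferInstance
  haveI : UniversallyInjective p' := MorphismProperty.pullback_fst (P := @UniversallyInjective) _ _ inferInstance
  let b := ((EtCoh.bc i).map ((liftFunctor i E).map h)).left
  haveI : IsIso (liftIso i E O).hom.left :=
    ((MorphismProperty.Over.forget _ _ _ ⋙ Over.forget _).mapIso (liftIso i E O)).isIso_hom
  haveI : IsIso (liftIso i E O').inv.left :=
    ((MorphismProperty.Over.forget _ _ _ ⋙ Over.forget _).mapIso (liftIso i E O')).isIso_inv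
  haveI : IsOpenImmersion (openIncl i E (leOfHom h)).left :=
    inferInstanceAs (IsOpenImmersion (E.left.homOfLE (leOfHom h)))
  haveI : IsOpenImmersion b := by
    have e : b = (liftIso i E O).hom.left ≫ (openIncl i E (leOfHom h)).left ≫ (liftIso i E O').inv.left :=
      congrArg (fun k : (EtCoh.bc i).obj _ ⟶ (EtCoh.bc i).obj _ => k.left) (bc_map_liftFunctor i E h)
    rw [e]
    exact oi_comp (oi_of_isIso ‹_›) (oi_comp ‹_› (oi_of_isIso ‹_›))
  have hsq : b ≫ p' = p ≫ f := (EtCoh.isPullback_bc_map i ((liftFunctor i E).map h)).w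
  haveI : UniversallyInjective (p ≫ f) := hsq ▸ ui_comp ‹IsOpenImmersion b› ‹UniversallyInjective p'›
  haveI : UniversallyInjective f := FlatBasics.universallyInjective_of_comp_surjective p f
  haveI : Mono f := Groth.Agent.TopInvHomeo.mono_of_universallyInjective f
  exact IsOpenImmersion.of_flat_of_mono f

/-- the underlying diagram of schemes -/
noncomputable def liftDiagram : Lifts i E ⥤ Scheme.{u} :=
  liftFunctor i E ⋙ MorphismProperty.Over.forget _ _ _ ⋙ Over.forget _

instance {O O' : Lifts i E} (h : O ⟶ O') : IsOpenImmersion ((liftDiagram i E).map h) :=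
  isOpenImmersion_liftFunctor_map i E h

/-- the point of `E` below a point of a lift -/
noncomputable def liftPt (O : Lifts i E) :
    ((EtCoh.bc i).obj ((liftFunctor i E).obj O)).left ⟶ E.left :=
  ((liftIso i E O).hom ≫ openHom E O.1).left

theorem bc_map_liftPt {O O' : Lifts i E} (h : O ⟶ O') :
    ((EtCoh.bc i).map ((liftFunctor i E).map h)).left ≫ liftPt i E O' = liftPt i E O := by
  refine (MorphismProperty.Comma.comp_left _ _).symm.trans ?_
  rw [bc_map_liftFunctor]
  refine (congrArg (fun k : (EtCoh.bc i).obj ((liftFunctor i E).obj O) ⟶ E => k.left)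
    (show ((liftIso i E O).hom ≫ openIncl i E (leOfHom h) ≫ (liftIso i E O').inv) ≫
        ((liftIso i E O').hom ≫ openHom E O'.1) =
      (liftIso i E O).hom ≫ openIncl i E (leOfHom h) ≫ openHom E O'.1 by simp)).trans ?_
  show ((liftIso i E O).hom ≫ openIncl i E _ ≫ openHom E O'.1).left = _
  have : openIncl i E (leOfHom h) ≫ openHom E O'.1 = openHom E O.1 :=
    MorphismProperty.Over.Hom.ext (E.left.homOfLE_ι (leOfHom h))
  rw [this]
  rfl

theorem liftPt_mem (O : Lifts i E) (x : ((EtCoh.bc i).obj ((liftFunctor i E).obj O)).left) :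
    liftPt i E O x ∈ O.1 :=
  ((liftIso i E O).hom.left x).2

theorem liftPt_injective (O : Lifts i E) : Function.Injective (liftPt i E O) := by
  haveI : IsIso (liftIso i E O).hom.left :=
    ((MorphismProperty.Over.forget _ _ _ ⋙ Over.forget _).mapIso (liftIso i E O)).isIso_hom
  haveI := openHom_isOpenImmersion E O.1
  haveI : IsOpenImmersion (liftPt i E O) :=
    IsOpenImmersion.comp (liftIso i E O).hom.left (openHom E O.1).left
  exact (liftPt i E O).isOpenEmbedding.injective

theorem exists_liftPt (O : Lifts i E) (x : E.left) (hx : x ∈ O.1) :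
    ∃ y, liftPt i E O y = x := by
  refine ⟨(liftIso i E O).inv.left ⟨x, hx⟩, ?_⟩
  show ((liftIso i E O).hom.left ≫ O.1.ι) _ = x
  have h2 : (liftIso i E O).inv.left ≫ (liftIso i E O).hom.left ≫ O.1.ι = O.1.ι := by
    rw [← Category.assoc]
    exact (congrArg (· ≫ O.1.ι) (congrArg (fun q : openObj E O.1 ⟶ openObj E O.1 => q.left)
      (liftIso i E O).inv_hom_id)).trans (Category.id_comp _)
  rw [← Scheme.Hom.comp_apply]
  exact congrArg (fun q : (O.1 : Scheme.{u}) ⟶ E.left => q ⟨x, hx⟩) h2

instance : (liftDiagram i E ⋙ Scheme.forget).IsLocallyDirected where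
  cond {O₁ O₂ O₃} f₁ f₂ x₁ x₂ hx := by
    obtain ⟨y₁, hy₁⟩ := (bijective_bc_fst i ((liftFunctor i E).obj O₁)).2 x₁
    obtain ⟨y₂, hy₂⟩ := (bijective_bc_fst i ((liftFunctor i E).obj O₂)).2 x₂
    have he : liftPt i E O₁ y₁ = liftPt i E O₂ y₂ := by
      have e1 := congrArg (fun k : ((EtCoh.bc i).obj ((liftFunctor i E).obj O₁)).left ⟶ E.left => k y₁)
        (bc_map_liftPt i E f₁)
      have e2 := congrArg (fun k : ((EtCoh.bc i).obj ((liftFunctor i E).obj O₂)).left ⟶ E.left => k y₂)
        (bc_map_liftPt i E f₂)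
      simp only [Scheme.Hom.comp_apply] at e1 e2
      rw [← e1, ← e2]
      congr 1
      refine (bijective_bc_fst i ((liftFunctor i E).obj O₃)).1 ?_
      rw [bc_fst_map, bc_fst_map, hy₁, hy₂]
      exact hx
    let W : Lifts i E := ⟨O₁.1 ⊓ O₂.1, lifts_of_le inf_le_left O₁.2⟩
    let g₁ : W ⟶ O₁ := homOfLE (show W.1 ≤ O₁.1 from inf_le_left)
    let g₂ : W ⟶ O₂ := homOfLE (show W.1 ≤ O₂.1 from inf_le_right)
    obtain ⟨y, hy⟩ := exists_liftPt i E W (liftPt i E O₁ y₁)
      ⟨liftPt_mem i E O₁ y₁, he ▸ liftPt_mem i E O₂ y₂⟩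
    refine ⟨W, g₁, g₂, (pullback.fst _ i : ((EtCoh.bc i).obj ((liftFunctor i E).obj W)).left ⟶ _) y, ?_, ?_⟩
    · show ((liftFunctor i E).map g₁).left _ = x₁
      rw [← bc_fst_map, ← hy₁]
      congr 1
      refine liftPt_injective i E O₁ ?_
      rw [← Scheme.Hom.comp_apply, bc_map_liftPt, hy]
    · show ((liftFunctor i E).map g₂).left _ = x₂
      rw [← bc_fst_map, ← hy₂]
      congr 1
      refine liftPt_injective i E O₂ ?_
      rw [← Scheme.Hom.comp_apply, bc_map_liftPt, hy, he]

/-- the glued scheme over `S` -/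
noncomputable def gluedHom : colimit (liftDiagram i E) ⟶ S :=
  colimit.desc (liftDiagram i E)
    (Cocone.mk S { app := fun O => ((liftFunctor i E).obj O).hom
                   naturality := fun O O' h => (MorphismProperty.Over.w ((liftFunctor i E).map h)).trans
                     (Category.comp_id _).symm })

theorem etale_gluedHom : Etale (gluedHom i E) := by
  rw [IsZariskiLocalAtSource.iff_of_openCover (P := @Etale) (Scheme.IsLocallyDirected.openCover (liftDiagram i E))]
  intro O
  show Etale (colimit.ι (liftDiagram i E) O ≫ gluedHom i E)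
  rw [gluedHom, colimit.ι_desc]
  exact ((liftFunctor i E).obj O).prop

/-- the glued étale scheme -/
noncomputable def glued : S.Etale :=
  haveI := etale_gluedHom i E
  Scheme.Etale.mk (gluedHom i E)

/-- inclusion of a lift -/
noncomputable def gluedι (O : Lifts i E) : (liftFunctor i E).obj O ⟶ glued i E :=
  MorphismProperty.Over.homMk (colimit.ι (liftDiagram i E) O) (colimit.ι_desc _ _)

theorem gluedι_w {O O' : Lifts i E} (h : O ⟶ O') :
    (liftFunctor i E).map h ≫ gluedι i E O' = gluedι i E O :=
  MorphismProperty.Over.Hom.ext (colimit.w (liftDiagram i E) h)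

/-- base change along a universal homeomorphism is essentially surjective once local lifts exist -/
theorem exists_bc_iso (h : ∀ x : E.left, ∃ (V : S.Etale) (g : (EtCoh.bc i).obj V ⟶ E),
    IsOpenImmersion g.left ∧ x ∈ Set.range g.left) :
    ∃ X : S.Etale, Nonempty ((EtCoh.bc i).obj X ≅ E) := by
  classical
  have hcov : ∀ x : E.left, ∃ O : Lifts i E, x ∈ O.1 := fun x => by
    obtain ⟨V, g, hg, hx⟩ := h x
    haveI := hg
    haveI := openHom_isOpenImmersion E g.left.opensRange
    exact ⟨⟨g.left.opensRange, V, ⟨(exists_iso_of_range_eq g (openHom E g.left.opensRange)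
      (by exact (Scheme.Opens.range_ι g.left.opensRange).symm)).choose⟩⟩, hx⟩
  let T := (EtCoh.bc i).obj (glued i E)
  let jO : ∀ O : Lifts i E, openObj E O.1 ⟶ T :=
    fun O => (liftIso i E O).inv ≫ (EtCoh.bc i).map (gluedι i E O)
  have hj : ∀ {O O' : Lifts i E} (hle : O ≤ O'), openIncl i E hle ≫ jO O' = jO O := by
    intro O O' hle
    have := congrArg (EtCoh.bc i).map (gluedι_w i E (homOfLE hle))
    rw [Functor.map_comp, bc_map_liftFunctor] at this
    show openIncl i E hle ≫ (liftIso i E O').inv ≫ (EtCoh.bc i).map (gluedι i E O') =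
      (liftIso i E O).inv ≫ (EtCoh.bc i).map (gluedι i E O)
    refine (Iso.eq_inv_comp _).2 (Eq.trans ?_ this)
    exact ((Category.assoc _ _ _).trans (congrArg _ (Category.assoc _ _ _))).symm
  haveI hjimm : ∀ O, IsOpenImmersion (jO O).left := fun O => by
    haveI : IsIso (liftIso i E O).inv.left :=
      ((MorphismProperty.Over.forget _ _ _ ⋙ Over.forget _).mapIso (liftIso i E O)).isIso_inv
    haveI : IsOpenImmersion (gluedι i E O).left :=
      inferInstanceAs (IsOpenImmersion (colimit.ι (liftDiagram i E) O))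
    haveI := isOpenImmersion_bc_map i (gluedι i E O)
    exact oi_comp (oi_of_isIso ‹_›) (isOpenImmersion_bc_map i (gluedι i E O))
  let 𝒰 := E.left.openCoverOfIsOpenCover (fun O : Lifts i E => O.1)
    (TopologicalSpace.Opens.ext (Set.eq_univ_of_forall fun x => by
      simpa using hcov x))
  let G : E.left ⟶ T.left := 𝒰.glueMorphisms (fun O => (jO O).left) fun O O' => by
    let W : Lifts i E := ⟨O.1 ⊓ O'.1, lifts_of_le inf_le_left O.2⟩
    show pullback.fst O.1.ι O'.1.ι ≫ (jO O).left = pullback.snd O.1.ι O'.1.ι ≫ (jO O').left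
    rw [← cancel_epi (isPullback_opens_inf O.1 O'.1).isoPullback.hom]
    simp only [IsPullback.isoPullback_hom_fst_assoc, IsPullback.isoPullback_hom_snd_assoc]
    have e1 := congrArg (fun k : openObj E W.1 ⟶ T => k.left) (hj (O := W) (O' := O) (show W.1 ≤ O.1 from inf_le_left))
    have e2 := congrArg (fun k : openObj E W.1 ⟶ T => k.left) (hj (O := W) (O' := O') (show W.1 ≤ O'.1 from inf_le_right))
    exact e1.trans e2.symm
  have hG : ∀ O : Lifts i E, O.1.ι ≫ G = (jO O).left := fun O => 𝒰.ι_glueMorphisms _ _ O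
  have hGw : G ≫ T.hom = E.hom := 𝒰.hom_ext _ _ fun O => by
    show O.1.ι ≫ G ≫ T.hom = O.1.ι ≫ E.hom
    rw [← Category.assoc, hG]
    exact MorphismProperty.Over.w (jO O)
  have hpt : ∀ (O : Lifts i E) (y : ((EtCoh.bc i).obj ((liftFunctor i E).obj O)).left),
      G (liftPt i E O y) = ((EtCoh.bc i).map (gluedι i E O)).left y := by
    intro O y
    have h1 : liftPt i E O ≫ G = ((EtCoh.bc i).map (gluedι i E O)).left := by
      show ((liftIso i E O).hom.left ≫ O.1.ι) ≫ G = _
      refine (Category.assoc _ _ _).trans ((congrArg ((liftIso i E O).hom.left ≫ ·) (hG O)).trans ?_)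
      exact congrArg (fun k : (EtCoh.bc i).obj ((liftFunctor i E).obj O) ⟶ T => k.left)
        ((liftIso i E O).hom_inv_id_assoc ((EtCoh.bc i).map (gluedι i E O)))
    rw [← h1, Scheme.Hom.comp_apply]
  have hbij : Function.Bijective G := by
    refine ⟨fun a b hab => ?_, fun z => ?_⟩
    · obtain ⟨O, ha⟩ := hcov a
      obtain ⟨O', hb⟩ := hcov b
      obtain ⟨y, rfl⟩ := exists_liftPt i E O a ha
      obtain ⟨y', rfl⟩ := exists_liftPt i E O' b hb
      rw [hpt, hpt] at hab
      have hab' := congrArg (pullback.fst (glued i E).hom i : T.left ⟶ (glued i E).left) hab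
      rw [bc_fst_map, bc_fst_map] at hab'
      obtain ⟨W, f, f', x, hx, hx'⟩ := (Scheme.IsLocallyDirected.ι_eq_ι_iff (liftDiagram i E)).1 hab'
      obtain ⟨w, rfl⟩ := (bijective_bc_fst i ((liftFunctor i E).obj W)).2 x
      have e : y = ((EtCoh.bc i).map ((liftFunctor i E).map f)).left w := by
        refine (bijective_bc_fst i ((liftFunctor i E).obj O)).1 ?_
        rw [bc_fst_map]; exact hx.symm
      have e' : y' = ((EtCoh.bc i).map ((liftFunctor i E).map f')).left w := by
        refine (bijective_bc_fst i ((liftFunctor i E).obj O')).1 ?_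
        rw [bc_fst_map]; exact hx'.symm
      rw [e, e', ← Scheme.Hom.comp_apply, ← Scheme.Hom.comp_apply, bc_map_liftPt, bc_map_liftPt]
    · obtain ⟨O, x, hx⟩ := Scheme.IsLocallyDirected.ι_jointly_surjective (liftDiagram i E)
        ((pullback.fst (glued i E).hom i : T.left ⟶ (glued i E).left) z)
      obtain ⟨y, rfl⟩ := (bijective_bc_fst i ((liftFunctor i E).obj O)).2 x
      refine ⟨liftPt i E O y, (bijective_bc_fst i (glued i E)).1 ?_⟩
      rw [hpt, bc_fst_map]
      exact hx
  haveI : Etale T.hom := T.prop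
  haveI : Etale E.hom := E.prop
  haveI : Etale (G ≫ T.hom) := by rw [hGw]; infer_instance
  haveI : Etale G := Etale.of_comp G T.hom
  haveI : ∀ x, IsIso (G.stalkMap x) := fun x => by
    obtain ⟨O, hx⟩ := hcov x
    haveI := hjimm O
    suffices hs : IsIso (G.stalkMap (O.1.ι ⟨x, hx⟩)) from hs
    have hc : IsIso ((O.1.ι ≫ G).stalkMap ⟨x, hx⟩) := by
      rw [hG]; exact (IsOpenImmersion.iff_isIso_stalkMap.mp (hjimm O)).2 _
    rw [Scheme.Hom.stalkMap_comp] at hc
    exact @IsIso.of_isIso_comp_right _ _ _ _ _ (G.stalkMap (O.1.ι ⟨x, hx⟩)) (O.1.ι.stalkMap ⟨x, hx⟩)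
      inferInstance hc
  haveI : IsOpenImmersion G := IsOpenImmersion.of_isIso_stalkMap _
    (.of_continuous_injective_isOpenMap G.continuous hbij.1 G.isOpenMap)
  haveI : IsIso G := isIso_of_isOpenImmersion_of_opensRange_eq_top _
    (TopologicalSpace.Opens.ext (Set.range_eq_univ.mpr hbij.2))
  exact ⟨glued i E, ⟨(MorphismProperty.Over.isoMk (asIso G) hGw).symm⟩⟩

end Groth.Agent.EtSh
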