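import Groth.Agent.EtSh.FLCStalk
import Groth.Agent.EtSh.ConstStalk
import Groth.Agent.EtSh.StalkCard

/-!
# Transporting trivialisations
-/

set_option autoImplicit false
set_option backward.isDefEq.respectTransparency.types false

universe u

open CategoryTheory CategoryTheory.Limits AlgebraicGeometry Opposite

namespace Groth.Agent.EtSh

variable {X : Scheme.{u}}

theorem trivializes_iso {F G : EtCoh.Ab X} (α : F ≅ G) {W : X.Etale} {M : Type} [AddCommGroup M]
    {e : M →+ EtCoh.sect F W} (he : Trivializes F W M e) :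
    Trivializes G W M ((α.hom.hom.app (op W)).hom.comp e) := fun Ω _ _ ξ t => by
  have h : (fun m => germ ξ G t (α.hom.hom.app (op W) (e m))) =
      (fun p => (EtCoh.stalk ξ).map α.hom p) ∘ fun m => germ ξ F t (e m) :=
    funext fun m => (stalk_map_germ _ _ _).symm
  show Function.Bijective fun m => germ ξ G t (α.hom.hom.app (op W) (e m))
  rw [h]
  exact ((ConcreteCategory.isIso_iff_bijective _).1 inferInstance).comp (he Ω ξ t)

theorem trivializes_of_restr {U : Scheme.{u}} (j : U ⟶ X) [Etale j] (F : EtCoh.Ab X) {W : U.Etale} {M : Type}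
    [AddCommGroup M] {e : M →+ EtCoh.sect ((EtShriek.restrAlong j).obj F) W}
    (he : Trivializes ((EtShriek.restrAlong j).obj F) W M e) :
    Trivializes F ((EtShriek.compEtale j).obj W) M e := fun Ω _ _ ξ t => by
  obtain ⟨tl, htl⟩ : ∃ tl : Spec (CommRingCat.of Ω) ⟶ W.left, tl = t.left := ⟨_, rfl⟩
  obtain rfl : ξ = (tl ≫ W.hom) ≫ j := by rw [htl, Category.assoc]; exact (Over.w t).symm
  let w : Fib (tl ≫ W.hom) W := Over.homMk tl rfl
  have hw : liftRestr j (tl ≫ W.hom) w = t := Over.OverMorphism.ext htl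
  have h : (fun m => germ ((tl ≫ W.hom) ≫ j) F t (e m)) = (fun p => restrGerm j (tl ≫ W.hom) F p) ∘
      fun m => germ (tl ≫ W.hom) ((EtShriek.restrAlong j).obj F) w (e m) :=
    funext fun m => by
      refine Eq.trans ?_ (restrGerm_germ j _ F w _).symm
      rw [hw]
  exact (congrArg Function.Bijective h).mpr ((bijective_restrGerm j _ F).comp (he Ω _ w))

end Groth.Agent.EtSh
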